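import Cfsg.Agent.J3.Elts
import Cfsg.Agent.H48.J3Three
import Cfsg.Agent.H6.QO.Frame
import Cfsg.Agent.H886.Inv.LU_m3
import Cfsg.Agent.S2041
import Cfsg.Agent.J3.Fast
import Cfsg.Agent.Lib.ListFast
import Cfsg.Agent.FastGrp
import Cfsg.Agent.Prune
set_option linter.all false
prune_inst 0x7ffdbdf8ffbcbfffffff7e7ffefddffe7bb5ffffffdffb73fffd77ff9fdfebef1be5fbaf7fecd8ff9ed6e09e38b87853fb7eeeffef6fdc7ffffdfff45ffbee5ff7ffbd9d71ffbcbe1ffe6ffffbf27f8e7f3fffffffffffffffffffffffffffffffffffffffff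
open scoped Cfsg.Agent.FastGrp

/-- decoders of the packed data (elaboration time only) -/
private noncomputable def pk61d (b S i : Nat) : Nat := Nat.mod (Nat.shiftRight S (Nat.mul b i)) (Nat.shiftLeft (nat_lit 1) b)
private noncomputable def pk61f {α : Type} (t : Nat) (f : Nat → α) : α := Nat.rec (f Nat.zero) (fun k _ => f (Nat.succ k)) t
private noncomputable def pk61l {α : Type} (f : Nat → α) (s e : Nat) (tl : List α) : List α :=
  pk61f e fun e => Nat.rec tl (fun k ih => List.cons (pk61f (Nat.sub e (Nat.succ k)) f) ih) (Nat.sub e s)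

-- part: H514/QS/J3Tab
section
/-!
# `3·J₃`: a table of 1061 elements (helper514)

Entry `k` of `tabs` is the table (18 codes, see `Cfsg.Agent.J3.Tab`) of a `9 × 9` matrix over `F_4`. The entries `0..7` are
the identity and seven generators; entry `k ≥ 8` is the product of the two earlier entries given by `ders`.
-/

set_option autoImplicit false
set_option maxRecDepth 100000

namespace Cfsg.Agent.H514.QS

open Cfsg.Agent.J3.Tab

def tc0 : List (List ℕ) :=
  (by
  refine (?fq9001 : ((pk61l (fun i1 => (pk61l (fun i2 => (pk61d (nat_lit 18) 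
    (nat_lit 0x30000a20028200828020000510014100414010000300008a00200004500100003000082802088080a020000414010440405010000300008000100003000080001000030000a8002000054001000030000800010000300008000100003000080001) (pk61d (nat_lit 6) 
    (nat_lit 0x9a276161445340f24d1c60c50409a27617184d23ce24d1881440402070c50409a27dd6144d23902c97189a27dd34b4d23ce0811881039a285f71849140f34b1881030409a285f51c4533ce34b2070c50404913ce2c91881440408aa85f6140401c610351c8aa7dd2c94533ce207144040aa67dd71845339034b040207103614aa685f2c94913ce7dd718aa63ce24d4531030401c67189a276134b4d23900402071441880c5081aa67dd7184d240f2c951c9a285f24d4d240f081207103aa685f51c4d240f24d1880c50401880c50029a27617184913ce2c951c9a276134b49140f0401c6103aa685f6144913ce24d207144040aa685f71845339024d1c6103040188144040aa676161445340f2c951c8aa7dd24d4913ce002207103aa67dd7184d23ce34b1c60c5040aa67dd51c49139034b188144040aa67616144d23902c92070c50401c61030408aa85f6144913ce2c98aa76171845339034b2071440408aa76151c4d240f34b1c61030408aa85f61445340f2c91881440401032c99a26141c63ce4917dd040a24a6530a81e9e36556d7696040614aa67dd2c94533ce0401c61039a27dd6144913ce2c91c6103040)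 i2))) (Nat.mul (nat_lit 18) i1) (Nat.mul (nat_lit 18) (Nat.succ i1)) List.nil)) (nat_lit 0) (nat_lit 32) List.nil) : List (List ℕ))
    = ?xq9001 → (List (List ℕ))) ?hq9001; (case hq9001 => (set_option maxRecDepth 1000000 in conv => lhs; reduce)); intro _; exact ?xq9001 : List (List ℕ))

def tc1 : List (List ℕ) :=
  (by
  refine (?fq9002 : ((pk61l (fun i1 => (pk61l (fun i2 => (pk61d (nat_lit 18) 
    (nat_lit 0x30000800010000300008000100003000080001000030000800010000300008000100003000080001000030000800010000300008000100003000080001) (pk61d (nat_lit 5) 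
    (nat_lit 0x104e619693ce2d552630736f69cb387356a8c083105079531abd92b83dcd080c8195f16396a41c8310738ade72008c829293d66f65aa0f6b0e620c41ce2b79520f6b16a008e629254ce2b75aa306b2b79cb1a6396a83ca4104e69cb1ab554983dac104c82910729002ce2b7951f163949a4f1aadd6a83d8e008c820df16392b398651071abda72008c819672ce2f6525f16b00239865a4f1aadd4983dacade72ce1cd5260f20c2039a72c6af64adf16b02041ca441ca40831abda548c1cd52693c6ad5525f16384141c83ce2d5a4df163949320650810729041d66d59520f6b149a4f1abd92b8c18e080e620f38b56548c1cd52507290207c5cd5250719420d66b79c80241c83a4f38b552b83dac3986508338bda938c1ac5a802320839531abd92b8c1acade54d658e525f1194413990720c41ce2f6a4e0f63949a4f59bd96a7c5cd080c820f38ade5483d8e4ad0720c2041c8300b1ab56937c5cd52693d66b7526307340241c83) i2))) (Nat.mul (nat_lit 18) i1) (Nat.mul (nat_lit 18) (Nat.succ i1)) List.nil)) (nat_lit 0) (nat_lit 32) List.nil) : List (List ℕ))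
    = ?xq9002 → (List (List ℕ))) ?hq9002; (case hq9002 => (set_option maxRecDepth 1000000 in conv => lhs; reduce)); intro _; exact ?xq9002 : List (List ℕ))

def tc2 : List (List ℕ) :=
  (by
  refine (?fq9003 : ((pk61l (fun i1 => (pk61l (fun i2 => (pk61d (nat_lit 18) 
    (nat_lit 0x30000800010000300008000100003000080001000030000800010000300008000100003000080001000030000800010000300008000100003000080001) (pk61d (nat_lit 5) 
    (nat_lit 0x1050719672ce2b74ae306b2f6a4f386b16a83c65104e63986508359ade5483d8e52672ce2d54ae0f6382032083c6af6a4e306b14941c83080e619441ce2f6951f1735499cb38bd96a7c58e0090720f1abda5483d8e524e6194208c18e524e620c20ce2d59c841320839cb59b556a8c1ac320830831aade9383dcd5a84139883a4f38bd96a7c5acbda72d65cd5a9f129002398e629041c6ab7a4df16b149c6ad5951f16b12b398a4080e629002d66f6a4e30639499cb1aadd2b7c5cd104c820f1ab56728c18e4acc820c20c6ad5a4e0f7352b41c65081497c5ac0090720e54c6ad57c58e5a8e619420d66d5a4d4983dac008c820e72d66f620c2039ab7953596b12b7c42041ca49cb59add6a8c18e8c1cd5250720c41d66d5a4c4141c83a4f59bd92b8c1cd3206508338ade548c1cd4ad498c1ac0810729272c6af620c4139ad5a4f1a6b1497c420320a4a4f38b556a7c58e20c4141ef6953596b14983eb795338639498c0a408107)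 i2))) (Nat.mul (nat_lit 18) i1) (Nat.mul (nat_lit 18) (Nat.succ i1)) List.nil)) (nat_lit 0) (nat_lit 32) List.nil) : List (List ℕ))
    = ?xq9003 → (List (List ℕ))) ?hq9003; (case hq9003 => (set_option maxRecDepth 1000000 in conv => lhs; reduce)); intro _; exact ?xq9003 : List (List ℕ))

def tc3 : List (List ℕ) :=
  (by
  refine (?fq9004 : ((pk61l (fun i1 => (pk61l (fun i2 => (pk61d (nat_lit 18) 
    (nat_lit 0x30000800010000300008000100003000080001000030000800010000300008000100003000080001000030000800010000300008000100003000080001) (pk61d (nat_lit 5) 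
    (nat_lit 0x19420322f6953386b1497c465080e6ade72c69ac5260fbda93c69ac5a9f12902041ed59531a6392b7c48310507a4f59b55498c18e080c81944141c839531aadd6a83dacbda54d65ac4ae302904139a54d66b75aa3073441320a49cb59bd92b8c1ac008c820e307356a41c8300b1abda72104c829254ce2d55260f6b2f69531a6396a8c083080e695359b554983dcd0810729272d66b75aa0f6b04141c83c6ab79ca0f6b16a320650812b83dac104c820e93ce2d58c1ac5a8c820c20ce2f6a4d2b8c1ac104e620e54c6af61944139af69cb59639497c60f63949398a410738bda93080c820e72c6af65a9f17350720c20c6ad59520f6392b4adf16b002320a495338bd865008e6ade54c698e5a9f1008e629272d66d55260f6386500907b5672d658e5aa0f8c1ac5a8e629041c6ad59c841398a49cb1abd9498c1ac320a41071ab56547c5cd5a84141ca4a4f59add497c5ac3986500b1ab56548c1ac526306b12b3208310759ade72) i2))) (Nat.mul (nat_lit 18) i1) (Nat.mul (nat_lit 18) (Nat.succ i1)) List.nil)) (nat_lit 0) (nat_lit 32) List.nil) : List (List ℕ))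
    = ?xq9004 → (List (List ℕ))) ?hq9004; (case hq9004 => (set_option maxRecDepth 1000000 in conv => lhs; reduce)); intro _; exact ?xq9004 : List (List ℕ))

def tc4 : List (List ℕ) :=
  (by
  refine (?fq9005 : ((pk61l (fun i1 => (pk61l (fun i2 => (pk61d (nat_lit 18) 
    (nat_lit 0x30000800010000300008000100003000080001000030000800010000300008000100003000080001000030000800010000300008000100003000080001) (pk61d (nat_lit 5) 
    (nat_lit 0x2904139af6a4f1a6396a83c02320839cb38add6a83d8e6b16a7c48310507b5654c69ac5aa0f20c41322f69cb59398a408359bda547c5ac4ad497c5cd104e620e93d66d520c0241ef69cb597352b8c1ac5aa302900241ef69cb1a29041322d59cb386396a7c465008e6b5672ce1cd526305aa0f63841398839cb38adca4080c8bda72d65ac5aa0f2902039ab7a4f386b16a8c31ab567283dcd5a8e6290414ae3073441398a49cb38b56307352b320a41071abda934adf17344141ca4a4f1abd86500907bda93c69cd525f183dac5a8e619402c6af6a4d2b83dcd008e619693ce2f61942041eb79cb387356a7c40241c659cb1abd92b83d8e19420322d5a4f1a7356a83ef6a4f597352b7c46510507b5654d65ac525f12900241e307352b3986500b59b5672bda54ce1cd52630194023992b8c18e080c829254c6ad54adf163820398a49cb59bd865008c8b5672c69ac4adf1008e620e93c6ad55aa306392b83d8e104c819672c6af6)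 i2))) (Nat.mul (nat_lit 18) i1) (Nat.mul (nat_lit 18) (Nat.succ i1)) List.nil)) (nat_lit 0) (nat_lit 32) List.nil) : List (List ℕ))
    = ?xq9005 → (List (List ℕ))) ?hq9005; (case hq9005 => (set_option maxRecDepth 1000000 in conv => lhs; reduce)); intro _; exact ?xq9005 : List (List ℕ))

def tc5 : List (List ℕ) :=
  (by
  refine (?fq9006 : ((pk61l (fun i1 => (pk61l (fun i2 => (pk61d (nat_lit 18) 
    (nat_lit 0x30000800010000300008000100003000080001000030000800010000300008000100003000080001000030000800010000300008000100003000080001) (pk61d (nat_lit 5) 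
    (nat_lit 0x5aa30638203986595338bda0f6396a398a400b59ade72b5672c69cd4ae301944139a54c6ab7526306b02032083d66d59c9f17356a41c830820f7356a41ca40831aade935a9f16b02041c83a4f38bd8a4008e6b5693d65cd5a9f17c5ac524c819441c6ab7a4ca4080e6bda72c69cd4adf12902041eb7a4f597352b83e0f7356a3206510759bda7241c6510759bda548c18e5a8c820c02d66f69520f7354983dcd4ad0729041ce2d59c8203206595359add6a7c5acb5654ce18e4ae0f29002398c820c20ce2d5951f16b149d66b7a4e0f73549398a4080c820c41c6ab7952306394995359bd94983d8e104c820dac4adf11944139ab7953595aa3063802320a49cb59add2b8c1cd080c820e93d66f66b1497c465008e6b5693c696a7c58e008e629293ce2d56b14983c6500907bda54d64a408107bda72ce18e52630526307342041c65a4f38b542032065a4f38bd92b83dcd5aa0f6b041398a4a4f59bd96a8c1ac1050729254ce2b7) i2))) (Nat.mul (nat_lit 18) i1) (Nat.mul (nat_lit 18) (Nat.succ i1)) List.nil)) (nat_lit 0) (nat_lit 32) List.nil) : List (List ℕ))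
    = ?xq9006 → (List (List ℕ))) ?hq9006; (case hq9006 => (set_option maxRecDepth 1000000 in conv => lhs; reduce)); intro _; exact ?xq9006 : List (List ℕ))

def tc6 : List (List ℕ) :=
  (by
  refine (?fq9007 : ((pk61l (fun i1 => (pk61l (fun i2 => (pk61d (nat_lit 18) 
    (nat_lit 0x30000800010000300008000100003000080001000030000800010000300008000100003000080001000030000800010000300008000100003000080001) (pk61d (nat_lit 5) 
    (nat_lit 0x6392b7c483080c8bda54d658e5263029002322d59531a6394983c65080c8bda72c6ad59cb386394983c6510507ade93ce1cd5aa0f2900241ed5a4f1a6396a7c465008e629002322d5a4f386b14983ed59cb597352b83ca408107ade93d65ac5260f20c4141e72ce2b75a9f16b02032065b5693ce1cd525f12904139a93ce2f64adf163841320a495338b55497c5cd008c820d8e525f12900239af69cb595a9f173402398839cb1abd98e5a9f12902039ab79531a5260f6384141ca49cb59b558e5aa0f2902041ed59cb59525f16b020320a4a4f59add8e4adf11940241eb79cb1a6392b83c65008c8b5693d652b83dcd0810720e72c6ad51942041ed5a4f596b1498c18e4ae3020c2041ed5a4f1a20c02322b7a4f387352b7c60f6392b41c6510759ade932902041ed59531a6b16a7c5f17356a3208300b59ade935aa307344141c659cb59bd8a410507bda93ce1ac4adf1104c819654ce2f65aa3063a0f6392b3208300b38bda72)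 i2))) (Nat.mul (nat_lit 18) i1) (Nat.mul (nat_lit 18) (Nat.succ i1)) List.nil)) (nat_lit 0) (nat_lit 32) List.nil) : List (List ℕ))
    = ?xq9007 → (List (List ℕ))) ?hq9007; (case hq9007 => (set_option maxRecDepth 1000000 in conv => lhs; reduce)); intro _; exact ?xq9007 : List (List ℕ))

def tc7 : List (List ℕ) :=
  (by
  refine (?fq9008 : ((pk61l (fun i1 => (pk61l (fun i2 => (pk61d (nat_lit 18) 
    (nat_lit 0x3e380f7103cc00f0c03a628e1aa32f80c3c030000aa28aa28aa49028800a08026b28974524d5492ea22aa28a2221a4082802080280001d6147195171c059201545154515440050401155145111050041005000037d00cf0030000bac02aa28a2a0228008202200006580155145150114004101100003000082802088080a020000414010440405010000300008000100003000080001000030000a8002000054001000030000800010000300008000100003000080001) (pk61d (nat_lit 7) 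
    (nat_lit 0x97028457cc264144ae3b44879320345a2b67cc25c0508a3b49905320345921e6b3dfb74e8653c84e23337abdd2d365d94e182a1b192ecc954a7cd160200d97182a6c388c8c953ea9dae0200d973458c14080c9110e18589467478e72b00802445cac0e1878e46742031624c140200386305078e162420372b119d24440801e38911162519d72b0c14080c38602005890e1919d080cc142445cac1e38080467478e080dcac244438630505890200ea928716481e3868b264818504044074674e18592080f1624992080c080101c80f1234893080c1010e194a33051648203c589244428402003083aa4a1c90e48931e3848d101c28400096483aa4c14224c78e1a2c308061400272b119d30507101624992080c101101d4a33051cac528cc1490e47101234911080c1010c208931e3848d0c201850202439528ca1c528cc14592071012349920a10002101c80f1a2c9110a101010c2119d3861648244480f16244070a1000290e54a3287078e12349110a100800e194a338624391e3848d264828402004073aa4a1c72b07101234911080c0800e18ea93051cac203c589264828402003864674c1472b080f16248930a10080101d4a338616481c4048d24442840404407528ca1c59207101624893080c1010c20ea9386164890e4ea938608931e3848d101c18504047101a2c992080c002101cea92872439)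 i2))) (Nat.mul (nat_lit 18) i1) (Nat.mul (nat_lit 18) (Nat.succ i1)) List.nil)) (nat_lit 0) (nat_lit 32) List.nil) : List (List ℕ))
    = ?xq9008 → (List (List ℕ))) ?hq9008; (case hq9008 => (set_option maxRecDepth 1000000 in conv => lhs; reduce)); intro _; exact ?xq9008 : List (List ℕ))

def tc8 : List (List ℕ) :=
  (by
  refine (?fq9009 : ((pk61l (fun i1 => (pk61l (fun i2 => (pk61d (nat_lit 18) (Nat.add 
    (nat_lit 0x50ae2616474ae3396489f0e228244416230f44b98a19d142280045000000800010015000fc080a010140c3302088a20014400414030f00082801050f0c028200228004500080a01014f0c0282000c3302088082801050414030f000015000fca20014400000080001228004500a080141000c3302088080a010148280105000015000fc082801050000080001228004500a20014400082201044080a01014a08014100002a00054082801050828010500228004500a200144000000800019cc21e2042e6a06754869c935e1c3e5e0a7e0a218144d002880051ea292545cc66b237580e0a8241587aa139540f12c28c6695ef5fe6b5eddbe6ec68d6352fe40b27018e887e513ace716278f2a498571db68b1b5184bee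31a64e9b5e5dbe9e675e77b9b125d8c726c54763f9f31de88e6dbef6da607f583abd8e55127fc092881c51dbf9ada9d5f82be9058d8bd2d1abe011a40c856c93f61abd7d5afa15c78fe39890511c3ce008240105c8b7e11b298a85d15790339c082eaa06554272a87855a3cd94a2d09a081d4190815c10f280205004f426eb07688aa91155bc80da102cae2a16454a4ab1715187b4d39b82a8105502294045f0a494971f16ae235644a23c144a0a0bf941a96aca35614042b83059828010500a4ab17158cbe8a1a519ae81d6508e0f1242892c09c6015928bdc51ac9a161d42e9a065d48215104fc0822010448215104fcac9a161d4cbe8a1a518e0f124282e9a065d45928bdc5192c09c6019ae81d6500822010440015000fca0801410051003cc000c0f02028228004500c3c020a00000080001082801050082201044a494971f1bf731ab8833e808a50a0bf941a9d5852fd3c51283cc50828010500a4ab17158042b830596ae23564433e808a50a494971f16aca3561451283cc50a0bf941a9a4ab17158042b8305982801050008220104433c008a00003f000a8080a0101451003cc000414030f0a08014100000080001828010500228004500003f000a8082201044a200144000414030f0080a01014000080001828010500a08014100002a00054082201044228004500082801050080a01014a20014400828010500a0801410000008000137d14bacfa63a17494106a0c3545c73fe38a86ba1359438ca09214082801050e9a225d44e180a4d018410130c0008880111c90021c000e3002480200884011c12020c4020880411000020000420808410123814490f6f12b68c5f1ea28e546083f410a4f92b29c5d94a2df1428a805150e9a225d44c100a0c01086441373f948a9f112eb286585382cc9062f168a8f51a492971c58a2211444aaa0955412088041108aa89155172ff386a8f8e029240aa289545197451fb3c19600df4008220104420808410128a805150)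 (Nat.shiftLeft 
    (nat_lit 0x8a90115c57eeffa66e96325f4850a97c15f4625b347d57b7ff9ba0b6d41b6fd7226f847415770ffb081d410efb9a819d50a215944fdf711eb8cef0e228244ae2616474b98a19d14228004500416230f448a9e115e48691935cd19420df048e8f92529081e810e5ea6825750fb0229804e26a24754a080141000411030cc828010500f300288000000800010c0f02028002a0005408280105011400cf00a0801410011400cf00002a000540411030ccf300288000828010500c0f02028000080001828010500a080141000411030cc228004500002a000540c0f02028a20014400082801050a08014100000080001828010500b9a819d50f32ae88560c2682075f0e228244591d3dcecae3396489228004500416230f44b98a19d14a215944fd0c2682075b9a819d) (nat_lit 8000))) i2)) (Nat.mul (nat_lit 18) i1) (Nat.mul (nat_lit 18) (Nat.succ i1)) List.nil)) (nat_lit 0) (nat_lit 32) List.nil) : List (List ℕ))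
    = ?xq9009 → (List (List ℕ))) ?hq9009; (case hq9009 => (set_option maxRecDepth 1000000 in conv => lhs; reduce)); intro _; exact ?xq9009 : List (List ℕ))

def tc9 : List (List ℕ) :=
  (by
  refine (?fq9010 : ((pk61l (fun i1 => (pk61l (fun i2 => (pk61d (nat_lit 18) (Nat.add 
    (nat_lit 0x69ed28e6c52f8f16928ffa8e29524fb28a9851674177b0f546e3f3649a7bdd79a259387dc94591f3dce315088fc1a67f577ab41b230d84e258a47d1925a1c7d46e76767b7af18d68d2afffd6aaa508c7c123529e3c5e41a1b8d4d9d3cd6ca2f95995fddf127ecc7a65cbd3e1ac8cb6d21b6e18ba4d19bcc05a203bfba9a995ebefe5a6a7f5f7abeb804ad03165c62be34566c8f76127d57faffaee56e67f6fdabead5a97251f87ca463d734aaa4895711a618574d3d4e3af249f9cb29e18a34114b0cb2715878ff315a88fd776dfbb6e41b330d88e634674b34fd172acf7854793f358497d31f989d1d1ec21d744efb3a15894fde9ec25e60d71caf8e1e0e0a4241e9fb65e9b5ad07d6c3eebda65adb108d8c12797439fb066aab7555df2cee862c753e3bcac26e6076746d4736f3a77657bb7c683235081c8e0e124bf911a9cc7aeab9655e64f27728615cf4fe222d7846f971f538ebc5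b55bdbfd60e0f424250153c0fcab6815b5022aa84555c3ffe0aaaf30a28814a00094001ab6215b44080a01014504a3c3142a9e055e4aa1e154e40802810058491131cc8c8f12128a88215104a8a895151a0aa941558280105000c0f020280411030cca08014100a20014400228004500000080001082801050002a00054828010500002a000540000800010c0f02028a08014100082801050228004500a200144000411030cc828010500ab6815b5033ffc8aaaa02a14054f30a2881450007c00382aa90555080a01014504a3c314ab6215b4422aa84555a02a14054ab6815b50a0009400182aa90555f30a28814504a3c314ab6215b44080a01014002a0005422800450008220104482801050000008000150403c300082801050f30028800080a01014082201044f3002880082801050008280105050403c300228004500000080001002a00054080a01014a20014400828010500082201044a08014100228004500082801050002a00054080a010140000800011d110eccc64a6371742ea3865499e2cde4625575bffbd387f893a99eb9de59e327a8879571acb8d61e9dda5eedb060983414383b09093a48097108690135c050453c33c046e033642c43c630a02fc806a1346c0b360216b84f597d82fad06be335a48b7d50bafc18001d000e0dbb82d993661cb74ed7a22f944c2796079f3bf849a931c6fce36a70bab8195b9cc59e23f700eb8025dc1fee0e8d0852c13adbed6da60990c1dc2dfc3aea098fce92a252989c5d1ea48657137538d7c92fd0042c030372e4b8671e770e7b8d8602d34073213884c418b30d188d4052f03e66ae77569084dc132c12ce0c628c271207854037f00b218484d3196bbdf59aef9c269e0858593d3d14a64f17795ff5feab23b5c49be9cb91e19c075d43bef)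 (Nat.shiftLeft 
    (nat_lit 0x800010008000100080001000200004000000080001010000c00002000040c00020000000200004022800450022080441840313008020880411002880051848013100048303108808310108200004000840313008808310108020880411048303108848013100022080441002880051022800450200004000800010000000300008002000040008000100040003000000800010000080001020000400200004000bd5e5afe75b023d8042dcfc6e2af969a9f5d38f7892b91aed0d66cb91f19ce8086241347497f31fa8815750ffbe6eba76598aca516173b4e89b2591159ccfdfee76a67b7d487af13dc04ee03238af89169a7dfd7aea9521dfc4e0336808b565e437e70f387e893a1e5f0e7e80d3382c89ff4ceab22393fc9caad6a96f55f67ab7795b57efbfa) (nat_lit 8000))) i2)) (Nat.mul (nat_lit 18) i1) (Nat.mul (nat_lit 18) (Nat.succ i1)) List.nil)) (nat_lit 0) (nat_lit 32) List.nil) : List (List ℕ))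
    = ?xq9010 → (List (List ℕ))) ?hq9010; (case hq9010 => (set_option maxRecDepth 1000000 in conv => lhs; reduce)); intro _; exact ?xq9010 : List (List ℕ))

def tc10 : List (List ℕ) :=
  (by
  refine (?fq9011 : ((pk61l (fun i1 => (pk61l (fun i2 => (pk61d (nat_lit 18) (Nat.add 
    (nat_lit 0x762ff1c6a8e1fc04ea036454b73f14e5a327d4f9dde9eee0677c37ba520a3c4144cb7f21ba24b94719f427ff07aa5ad77d6fbbb1b198d8ae02164041ea50e57c9e339e489fa1b294d8f34768b3bf722ab84594331f0883c11ca0ce09fe41ea7f3d268ac7cec76263beb7ae5b96d9d7edefab7e79ba79fb5ea9be563cab4a155f007e803263ac7496992c9dc61fd41eaf0e310e48c276602374046303f480ae3a4a49715c36fe0b6c794639f396eadf656e6c72763848fdb12adda0ded42ef15868fd32daf06d686734b78b1f897291f8780639034c87e613a718470d338faeaa965583e590a7d1a74cd7b296755f7bf4da4f2d72cfa1e294ee7a5a797d1f524ebc7e2f6246b45d7fbefa96267347787e0ffa42a94155f0ff00888011165a837d5065a0b7d41012200c44092cc1c62c12460c73212884c51fccfea22a55057fc3f002a000547aa2395447aa839550028080501828f10528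22850453c0a8a0151420050403c0a0081401700238004800f100280880811017008380100a8001500002000040028080501c3c020a0051003cc00082201044080a01014002a00054000080001228004500a08014100082801050a08014100000080001c3c020a00082201044228004500002a00054080a0101451003cc000828010500a008140190031c008300a08014088081101e00424030400a300140020000400280805010a8001500700238004300a080140a0081401700838010400a300140880811010280805010a8001500002000040228004500a08014100082801050828010500a20014400082201044080a01014002a000540000800012000040000000c0002010000c000010000c08000100000002000040008000100080001000c0002000080001000000c00020008000100010000c0010000c000000080001000200004002000040c0002000000200004000008000108000100000800010000020000410000c000010000c00000c00020c000200000080001000c0002000000c0002000008000103000080010000c000c00020000000200004002000040000800010400030000010000c00000080001040003000002000040000200004200004000008000100000200004300008000008000100000800010400030000020000400000080001080001000002000040008000100000300008300008000020000400000400030400030000002000040000080001080001000002000040c00020000000300008000800010004000300040003000200004000000080001020000400020000400000800010800010000002000040000080001040003000008000100000300008200004000000080001010000c00200004000c000200000002000040010000c00080001000c0002000000800010)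 (Nat.shiftLeft 
    (nat_lit 0x1bce8da25a066543776fb3369885bf67dab7a56e97f65f56f6bf6ba88b951192297c45faef6126b4ccbb36198bd7cb2fa18395509ffcac01d600e912bdcc5a9e315e48f7ab9b959d335d88bed84215304faeded66e65624bf47183a95095f7cd47a2f3047f033a80793039c80a9bc15da711eb8ce537b1cb98ede872e538bd9bdadda64e737278bfda9aad5fb022980498341d0b0ad1cd6ce2f5126bcc7d5b7afdb9fd0feac2afecc6a6234ad3716cb7c2dfa06e203f840a987b8d3992603274087f7976b9fb24eac7256a294545f384b6931b5385fc93ea417570fbf16c10f60c3fa1ca94e6792379c47bf6f9ab63b8049903382b09058f5932bdc857edbfa6d27c647a376febb6a59872ad385698279d079a606d7436cf93e29ca3895c91fef94929f1c6ae6f56) (nat_lit 8000))) i2)) (Nat.mul (nat_lit 18) i1) (Nat.mul (nat_lit 18) (Nat.succ i1)) List.nil)) (nat_lit 0) (nat_lit 32) List.nil) : List (List ℕ))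
    = ?xq9011 → (List (List ℕ))) ?hq9011; (case hq9011 => (set_option maxRecDepth 1000000 in conv => lhs; reduce)); intro _; exact ?xq9011 : List (List ℕ))

def tc11 : List (List ℕ) :=
  (by
  refine (?fq9012 : ((pk61l (fun i1 => (pk61l (fun i2 => (pk61d (nat_lit 18) (Nat.add 
    (nat_lit 0xd14d4772f3b16a3cf54a028bc051ae9e825e508ffb12a98e5faa7e956298b45d16bd6f5af629aa05d54f095e81fe46ecf366200eec0266aab215584d372ecb866bbab599539ea09e54b97d99fad8aa2915452d2d46c6f72ff386a8023f804a99be09da41275c87be1bb6a99b5529aa05d54078883911008280105b35858bd34e00324002e808650109a081d41d8acad161292a85c558aa291545406a303540028800511d560eff4f0c028200c8e82125082a810550a62b174588a8a9151500828010519000dc00002280045090c01c20c0002000033080881000a2001442c040603000a0801410028800518480131000208804118083101082000040000c4202304022080441c8012100c022800450208084101092001c40008880111c820210400002000048310108c02008840114e0032400208804110082801050828010500002a00054a2001440000008000111400cf00080a01014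f0c02820008220104494f25f287cded22e6cb2f2d86861b2a4d857a407170386f2a3685421bdc4daed9fbede9acd0a22c145734bf8b1e2b36458b1ffc8eaa18646937355801fd00efa42a97050baf4196ba7bed79a6e082a410577493bb1c2be4c5a72c77b23b9850d9bc2ddb40c5b023acd8962d18267d077a5b6fbdb692828850517c527a3c78a7d117ac6352f4bc6353a4bc975c073e038d93a2dc9412ddcc6eeb65bdb7da8a0a1141497135f8cb7ad8396d0941edf0e6b18758d3bc74123b0cbe851a53c50f9fc29ed99beddda8a8811510ca636174b4e0732438f18ee8d26c8676137b864413730f3ba28994c2b6e05b63234c84b2088201104a2d4d46f2f0c1e820e2caf86169a215d44fe50d13c2cc2f6286b4523ed84a6d0fcd02a2c802090041e3d1e4acec411e30ce28ba851952400c7002c294205f0d097ac1f95227bc479f812290c4a88a951155c3efe0a65d00fec02b2a2985450102c0c061c680e350dc61ae34de449a731d9e031e4088aa291545096ec1f66103fcc0aaf3a8a89511962cdf46105d0c3ececa4a61711fac8e961df0c2e820008280105829f905e9070fc382a2e6a06754869c935e1051343ccbea292545cc66b23758e44327308002880051d8e8ad251c1cce0e22a39a149d419e88de51d1046cc336e8a36514ed9826dd0cd1222cc4208084101a63a1749420bf041a819628df4586ba1359424850713cf8e2a9245e9a225d44e180a4d010828010502c10060c02c8006100010280c050c90021c02090041c0c002a0005c10220c04c100a0c01000800010c90021c00c82021040008880111c12020c40092001c4020088401120808410120880411000020000492831c508e14064f03e2842453042aab0555054003f00215544fffe50e67c27e010240c0e44e67327)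 (Nat.shiftLeft 
    (nat_lit 0xe98a25d14e1aa24d5420808410119600df40f8e02924028a805150aa28954518aa891551082201044c12020c40c90021c00208084101092001c40c8202104020880411020088401100888011100020000416258f47d5796ff9f650a97c15f2f5506bfcc73aa389503ba00994588dbd12d3f8fca92a56adff56e6149b4f1d956ddff6e64a17714f535e3cbe4bd8c9ad21b0ac1816046e1b364dc3efe0a6a65e9f7e5e4496b31f569d5f5efe652277c4794dd1f2ec0be781a7928e3052486538b7c91ecfce62a265b6f7db67129b8c5db9bd59daf7a84b953155337fc8b8279d079e8a30d14827b8a39914eb3f258a87badb996d6487b71397ae77967b066b83759f5056bc3f7898f91d23a08c941286af13568fece2a62466efb7669c562a3f45e67b6779be198a4d) (nat_lit 8000))) i2)) (Nat.mul (nat_lit 18) i1) (Nat.mul (nat_lit 18) (Nat.succ i1)) List.nil)) (nat_lit 0) (nat_lit 32) List.nil) : List (List ℕ))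
    = ?xq9012 → (List (List ℕ))) ?hq9012; (case hq9012 => (set_option maxRecDepth 1000000 in conv => lhs; reduce)); intro _; exact ?xq9012 : List (List ℕ))

def tc12 : List (List ℕ) :=
  (by
  refine (?fq9013 : ((pk61l (fun i1 => (pk61l (fun i2 => (pk61d (nat_lit 18) (Nat.add 
    (nat_lit 0x8000080001003014080fc002a0005c100a0c012c80061002090041c02080841018700138008310108c0000200004004440333200884011208804110c82021040092001c4008280105050403c30011400cf000000800010015000fc080a01014082201044a20014400828010500810b50c1b3b5149bcff1e8a8e51e096a41f575c27be07b1e358e4be5f227e8434200b04086e3936491086cc1368d5452ff32eba06594292985c5d7cb4ba1b11eb4ce5b26bb0b59814e003240052f8fc692042d8306dd1952cdfccbe2a1a458a8a51517ff292a85cc7ed23a6cbb6819b50f0c02820037fe0baa461c0b4e015c653e37cae3c964a18aa8515536f8f369286dfc36ea02a9f055e80c3302088b1ff18ea80436830b5675137bcc3bca89a152aa845553c7ee23a6437f60bab4d2ea2c654f30028800f8f7292b8b14098f01551e3fce482bf905a922aa44557adfc16ea0b17f18fa8acb91619c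0c0f02028fe732a788038080901100e0c0240c80821010a0041403d00c2c0200f800290080091001c003000080600334008006800350040383009c0282005080c410230240307008c0602034010024c0070300008003800c90022090041c0c100a0c012c8006100087001380c10220c042c10060c080015000f000c000200203c040a092001c40208804110c820210408310108c0208084101c90021c0010044c03300030000800ccc0222828010500082201044a2001440011400cf00082801050a0801410004050303c0000c0002003f000a8008000100000200004200004000010000c000008000108000100000010000c00000c00020c0002000875913bdca56697f7553ab3c958d043ec30aaeaf5656bbfe21aa4404b90319cf386a893511d78cef9599c3dde0a95695ff5e4ad2716ccc11e20ceebea65a57ab3f158a871a038d408c6f92369d075ac3bd9a931d5c85a99bd5ddd0722c384f0ebe825aaaea556573d6a0af54388a09114e9faa5e95ec8aa611595e0dfe42b5ea5be572710878c12e3ec64a69af69d6b5ce92a25c58c2292045abba95995e82aa505556bc3f5a05eb6be5b5494831f10cbcfa1a2997f99fa9de1e8a4e51d208ac4119b6a9db55aa0a9541535e90be5cb7699bb5d0694035f0cefca26a179bdb9dad2cb6861b50c898211daa9d955ed8a8a9151561b734db8699fb5de911680cf503ff88aa9176e7bb679b36298b4543a0b09415aeabd6558aa89155165a837d5065a0b7d41012200c440718838d14238b0491212884c51e90aa5c15e82aa50550088801117aa2395447aa839550028080501414a30f1433ca08a140a8a01514a88a95115aa0a95415002a00054a62b1745826ab075580028800518494131f080bf101a882a8105508aa2915458a8a91515a08014100)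 (Nat.shiftLeft 
    (nat_lit 0x7ca37a14bbf065a8378cf95229f0694035f07f82fa906475633bf4da9f6d5eb1ea60e574493831c90e7236784b8b4f51b2b7bb07998311680cf50872fd386a955c1ffe0dee96e65fa36914b5c36840b530652c77c63d2256c47f1e254e47f012200c449b50ddbc2a9ac15d60448c7312374333b08857013f80c7a873953826c54763fc6c56363f028080501955c1ffe09aa31d5487027380787f00fa80274407b303c66b23758417a70f974d7872f9300288005119d50defcea292545ce44327308070fc382a051343ccbed9826dd0b4945b1f337944b9f320808410152753c7bc6e8a36514cd1222cc4c1cce0e22d1046cc33e9a225d445d253ec7c4d6532f7c08280105037d14bacff8e2a9245e180a4d0120bf041a824850713cc10220c0418300d0800870013) (nat_lit 8000))) i2)) (Nat.mul (nat_lit 18) i1) (Nat.mul (nat_lit 18) (Nat.succ i1)) List.nil)) (nat_lit 0) (nat_lit 32) List.nil) : List (List ℕ))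
    = ?xq9013 → (List (List ℕ))) ?hq9013; (case hq9013 => (set_option maxRecDepth 1000000 in conv => lhs; reduce)); intro _; exact ?xq9013 : List (List ℕ))

def tc13 : List (List ℕ) :=
  (by
  refine (?fq9014 : ((pk61l (fun i1 => (pk61l (fun i2 => (pk61d (nat_lit 18) (Nat.add 
    (nat_lit 0xa811400cf00414030f0004050303c0828010500822010440000800011ab38d589579dbf9edd4296f05fe048a4311f152e8fc69c481e3102f37c68ba94c9df21ef78a2b91487e8d3a52756b7bf5b660677437281a050d42d9c86de1d4122f0c4cb4de1b2e543e7f0a76c62b634550b7fc1baff446ab33dce36e24ba6251747c39c689e35adf216e848a47d173a094441f33b317988f9372dcb86eec55263fce634e74b25ac17d60f8cb99219ddbb0ad98190dddc2ee8095101fc1d49cef1ec0f2e028617bf0f9a8784ef9326e43b6709b22098441d1ca58e17d3e68ca7522600074000d06c2c36bc30da082f1ed28e6c86d3d36cafd826ad07408ab01156361b4b4d239bc49da010a00c148344d0b32df0c2e8202eb34658b51fcfcea2eca4a6171302a880553a58497d3096ec1f66008280105105d0c3ece44327308cbe4e1a7237bf0b9a8ea292545c0e0a824158dd612ef4829f905e9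002880051051343ccbcd1222cc42e7cc67a2f1ef28e686e8a365148388909119b741dbb0d8e8ad251208084101d1046cc33e180a4d01cbdf21ae82eb3c658af8e2a9245106a0c35497511fbcca63a1749408280105024850713cc100a0c0104e0032400203c040ac002a000518400d30083011080c2c10060c00008000102090041c020880411042303048000ccc02222008840118410130c010404c303c90021c00000200004092001c40a20014400003f000a8f0c02820082801050004050303c11400cf0008220104400008000108280105033ebc8a5aa0ee54267be011a40c33dfc8aeaf840a93013ef50a6bcdc592e3dc41b430db00c2dc206e0f11c28cecd5462ff3752e3bc64070ac381642aab05551e750e7bce88325108cb9b219d80018c00d2c14c60f23e19524dfc7e83ba509404eb032532ea88655c7d163acfa820d5042a162d4f46010e00c242097041f829a145d4ffce8ea252301b880d90efa82695617474fb39a0c1d4201a9c8d5e1008380109d0622c3446226744772fb3c698ad083ac109b3b89899134564b3f70ac90161c12e98c65dc020a00412610874c13ac58963dcb6ce1b622428c70521f6a0eb544d15b2cfd80f25028706fa43697220804410110a8cc15427bb07992edcc66e22182c4d06a39d149ec5744bfb31b83059083b1b858d93008a00114048a8311533dac8ad6c9ff21ea808ac8116119634df4b74593b3dc9f041e8301fa60e97400228004582ed9066dde8d2e52ce07de43ae18244d0738eaf125689c945e1f37be979a5f1bac8d961a408d701212fb4c69be4e36724b2b1f458eb86051343cd2e3ec64ad5252fc7cbe765a7b7866b13758580e3d024f0b96819fed3266c87d2ce6c627494831f10ec39e609e6d4536f3cbb5b59bdbe99825dd086c11360c)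 (Nat.shiftLeft 
    (nat_lit 0xcee4626736fc036a002af14568f991cddce253903c9c094a3df14a4302308047340b8b01304808310e2f5246bcf870293808bf451ab3958f1fd2835600bf40562cff4623040883013c580a3d00c12020c4314008f00040f03028428030500f040283000035000bca300148000c18020d00000800010c12020c4c280205003280085000c050203ca10014c00a04014300001f000e804320308404380309000008000150403c30051003cc000015000fc33c008a00c3c020a000c0f02028082801050082201044000080001040f0302883c010a0012800c5000035000bc52003c400a0c0142000000800010c12020c40c18020d042803050012800c500040f03028a30014800a0c0142000035000bc0c12020c40c18020d0000080001f0c028200f30028800003f000) (nat_lit 8000))) i2)) (Nat.mul (nat_lit 18) i1) (Nat.mul (nat_lit 18) (Nat.succ i1)) List.nil)) (nat_lit 0) (nat_lit 32) List.nil) : List (List ℕ))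
    = ?xq9014 → (List (List ℕ))) ?hq9014; (case hq9014 => (set_option maxRecDepth 1000000 in conv => lhs; reduce)); intro _; exact ?xq9014 : List (List ℕ))

def tc14 : List (List ℕ) :=
  (by
  refine (?fq9015 : ((pk61l (fun i1 => (pk61l (fun i2 => (pk61d (nat_lit 18) (Nat.add 
    (nat_lit 0x85208c041206290345c0c5e4a3e71f524abc711653cf7ca5240fc7027cf03a280208084101ef38a689108230104839e009e4062b93459c6e893651c45dcf3ee234dc0b2e0ff302a880082801050eb4a25b148200d04028eb0125803be249a47f8e26924771bf38da84d3332c883c300a0800008000102060043408200d04020cb002180030240807c002600073c800a100410330c08cf00228000002000040a10014c010cc0c220c32020840004480331200484031cc20220403080c81020f0c0282080001000012080c41000f10028c2c0c060200050803c10042803052f00068000023c004ac0432030810000c00004c203204033040883c80321008011800cd00018800d1c84021300020cc04222010c40c20400030004030b0081034400b30a000d4002018200d04010a00c14a010140c000cf00228090c01c204000300003308088100051003cc180c0d02000a080141008280105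19000dc000033c008a8083101083000080000c4202304011040cc3840313008022800450002880051848013100030cc0822c820210400003000088310108c010044c033c90021c00208804110208084101092001c4000ccc0222a200144000000c000211400cf0004050303ca08014100082201044082801050828010500003f000a89da69ed751d760efb41df1cee8eb6b69b5b5a610174c0816790f799a1e1d4e487ad1396c91d49cef1d6a9af55dc791a39cdc7bc639a35fe9bea5d59c03de001299cc5de95c39fe0952637c74b15b90fd9c05e683e754181b0d0d41a670d77f54cabf21d3ea2ca54f93ce9ca22f268687566b97759fc2e320648a17494fb14424b3071a464573730dd782ef9acbd161ac3ec7ca63aa34e94b2575aa7bd57ec38260903856893f5254087f01295245fc7d374acbb17be239a44c37be0b9a88de912e5a5a757d7b3f820a90492539c7c9011680cf592165c4f73c5d8a3eda63f174a8fc9cea1e29af09d681e96665f77832f1086815d8cfed2018980d1d15c58fe3dcd1b62cdb5bc3fda0aed2f26c6897f81fa90aa95955fd1243cc70a8fb8d29929ff99ea9d8390909c1e1a164d4ffd59eafde4bba3199405b203d84a6aa975553ef3ca68ad36e2cb64d77a6fb9711680cf502aa445573ed9e66de7b36298b4543a0b09415aeabd655cffce2aa2df542ebf0df506ebc3012200c440e34424b3c12460c73212884c51e90aa5c15e82aa505500ccc0222e55127fcce55427ff0028080501c3c520a3c22850453c0a8a01514a88a95115aa0a95415003f000a85d163ecf41d560eff40028800514c7c323a0406a3035482a8105508aa2915458a8a91515f0c028200180c0d020090c01c20002280045110c0cc2019000dc0000a20014400828010500a080141c00020000)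 (Nat.shiftLeft 
    (nat_lit 0x44403334230304802088041100e30024800002000044e0032400208084101c82021040300cc80220015000fc33c008a00082201044c3c020a00000080001f0c028200082801050a200144000c0f0202804000300003000080000020000400c000200000080001c00020000000800010200004000003000080010000c00000c000208000100000030000800000800010c000200000800010000020000430000800000800010000030000810000c000030000800000800010c000200000020000400000800010c00020000020000400000c0002040003000004000300000200004200004000020000400000800010c0002000056203f4400c18020d07eca3a614c100e0c02c56023f401e924e5c75c927e1c7936f1cb6887231384876c03b600c10220c04fcf2aa2) (nat_lit 8000))) i2)) (Nat.mul (nat_lit 18) i1) (Nat.mul (nat_lit 18) (Nat.succ i1)) List.nil)) (nat_lit 0) (nat_lit 32) List.nil) : List (List ℕ))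
    = ?xq9015 → (List (List ℕ))) ?hq9015; (case hq9015 => (set_option maxRecDepth 1000000 in conv => lhs; reduce)); intro _; exact ?xq9015 : List (List ℕ))

def tc15 : List (List ℕ) :=
  (by
  refine (?fq9016 : ((pk61l (fun i1 => (pk61l (fun i2 => (pk61d (nat_lit 18) (Nat.add 
    (nat_lit 0xa36e00b6401292085c41108e4c12762b2b4585723ef84a6c820210407a6239744726a3875437e70ba78f8c8292108a88115100427830793be889a513fcf8aa29a20014400c08220104c88021100033800890c80221004088201104003880091030880811033080881200004000202084041a02014040034200b04a00094001802090041030a00814004a00314034800b10080001000aa0a954150a8a015147aa239544028080501a88a9511533ca08a14414a30f147aa839550002a000548a8a9151582a810550a62b174580028800518aa29154580bf101a88494131f026ab07558a080141008aa89155128a805150e98a25d14208084101aa2895451f8e02924019600df40e1aa24d54082201044008880111208804110c12020c40208084101200884011c82021040092001c40c90021c0000020000416268f47522f4046b0f7512bbcc37f18ba8dc0f1a028d2c04060303d4d4af2f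0e54027f0f7a0ab94177a9bb95d4b5b31bd8714138f0c0b0b818193b1e898e5a62b17458ab12558c763ee34a64ba9f995e965afb7d69d69c2f5e04417330f8c28ca052192cf9c629e98a25d149a0e5d427a4fe172a4daebad6596990b5dc109ec01e605c773e3b85cfcbe2a110cf8c229c12020c40d7346f8b3c94421f304cbbb2199b9a819d5082b310588f711eb8cef73b2b898043bc309a228004500674537b3ca091141ccf32ae8856c0482031000bc001a03001c800e38010900c0801c100e02000040080d0102c08014100f03800c90020c90021c030e0082404003f000a4203304084200f040200080001018300d08018400d3000203c040ac12020c400e3002480300cc802230c0c820230cc082200002000048700138008410130c000ccc0222228004500c3c020a000c0f020280c3c020a00c330208800008000150403c30051003cc00003f000a8828010500080a010142280045000822010440000800010414030f0a20014400003f000a8a080141003551cbfcec5de23ee4a9c2d5e06fbcca9a21c436230b4ff3a2a89431ea88e5594af1f16861fc74ea3a301d480e224e04724d808ed012ffd6aaaf5f0ec282603c3a0a094298085d017b10398c020f34428b184c4d32308d3812c9a40e17024ed79a6f9d2e3306488cf02a280588a811150bd401af000b34c18b21c564e3f7cbdca1ae1068b0351802c98061d808310108cb1da18ed22080441003bf009a83bf1c9a8e93515cbcf1efc8e6a1c1a820d5040b8b0191c820210405eccbe621008a00114f0ec28260723ff84aa15544fff3c7fb23a9822a204544332a08854a20014400f4fb2b2980022800452e33064883fcfcaa2a010440c3308c10120c022800450c8c021200200004000c8012100c0028800518083101080330c0882)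 (Nat.shiftLeft 
    (nat_lit 0xf070a83814310308c095c8dfe124c5ab23d515e8cfe529420df0423002880056014740f394af1f1684e8fb252967853793c2b3dc58ae15308fc8183b7d09baf99fe9deafb22a9845f251687cf7b10398c0f0ebe825a78617934f8b4f51b2b478833910136dccb6eadafd6d6aae48967112dd446ef3bd401af00cc11e20ceee316648fd2256c47fe93d25cac23a7c497a997addf966957b5ff970ae7816703bf009a85f00fe8027f0a7a8176c497631f7ec63a634e06ee4366ba95d95fed656af7f5a4e35724bf0ec28260f44c2b320fc46aa335f816690f7fcf1aa28d2a1f854e99ded5ee6f65d9b7edd5a34fd4b22e33064884ea93255c4e89b251d0bd941adfc821a104d84a0931412318448d328e98525d2bf1c5a8e80831010867a83795047a8b395152bc7c5) (nat_lit 8000))) i2)) (Nat.mul (nat_lit 18) i1) (Nat.mul (nat_lit 18) (Nat.succ i1)) List.nil)) (nat_lit 0) (nat_lit 32) List.nil) : List (List ℕ))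
    = ?xq9016 → (List (List ℕ))) ?hq9016; (case hq9016 => (set_option maxRecDepth 1000000 in conv => lhs; reduce)); intro _; exact ?xq9016 : List (List ℕ))

def tc16 : List (List ℕ) :=
  (by
  refine (?fq9017 : ((pk61l (fun i1 => (pk61l (fun i2 => (pk61d (nat_lit 18) (Nat.add 
    (nat_lit 0x9c1155ccffef4de2b2e463c074a0363ea34a54a9e215e4482bf905a9d00c2c0200010000c030090801c0500c3c02c00e200240240407030a4001700d0022c0040c8082101240307008010000c000c0242007408c3012020038400900d4002f080d0102c0240087001c02820050c10220c0400040003083005080304e003240c002a000510700c38018300d080010280c052c800610020808410100010000c10440c3304230304802008840110710038c0870013800008880111c820210400828010500000400030411030cc33c008a00080a01014414030f0050403c300002a00054a2001440000080001000004000300010000c030000800002000040004000300400030000080001000200004000008000100000040003400030000000c000202000040000010000c0040003000020000400000200004002000040000400030300008000000300008080001000010000c00400030000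00c000200000080001200004000004000300000300008c000200000200004000004000300400030000030000800000800010002000040010000c0c000200000c0002000000800010004000300010000c003000080000000800015c717e38f9d22dec460db5c2dbecdd4e2ef2644ff732a01dc40ee3b54a1bf14be3d1a4ac43a97095ff7146b8f3d68caf521c3ad6096fe1bd24dac781ff90ea01b700db85c92be1c5dfc36ea0b3266487776d4536f3c64eb3725822674477b2ba34594bbd0fdac2a03a1c094ef528abc51e474e73b20ed5826fdf891691cf7a32f94860ad5c16fe8a64d1772dc8fee12a026c407636e8a365146b1d358ecc1f960e9fad2456c73bfcc9aa2181fd50eaf92dd1c6ece42fe706a02d7006f8f8e2a9245b94359f0b23b6449b71fe14ea4faf839690976227b4471ce80e2505ad0fd6c2ed6226f44c002a00050f99429df13794cb9fc674637b3d868ed3527ec4ba631c63223484b5fc1bea0ea90a55c1200884011c16660f77075643bf763d534afca61e174e4fcf92a29c63c0b4a015fb33e988a9e815e50080a010142295845fd4155b0ffd064003700200e04024c0092001c024080701b00318008d0082c010002000040060083401044083301011800cd080c2102044c80321000018800d1c803210080c810210c200004000010880c11011080cc1018200d0410308c081f02028040010a00c14a000d4002c02060043080001000008a00114018800d1000a0801410708038102e0006400008280105180c0d02022040443080001000000228004500a2001448a8a915153bfd09aac80bf101a88aa2915455d163ecf48494131f0a0801410000288005182a8105500088801114e0032400c820210402008840118310108c0092001c40000200004208084101208804110)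 (Nat.shiftLeft 
    (nat_lit 0xe1aa24d547ecf3a628208084101455473ff355147fcf3082201044f8e02924019600df403cfc0a2a0c90021c0042303048020808410100444033310044c033000200004c82021040092001c4030cc08220a0801410033c008a000828010500015000fc04050303c000080001a200144008280105000c33020888000100000300008000008000100400030000010000c0000080001200004000008000100000300008f7ac2b96008050103c56293f45c23f5c4abe58be3d1a4b28058503b29a185d4ff922a9c4c16fa0f696e633674880015000f76c27b6070b7d41bafb7239b8491ce40e2701de28ee45ed60a6f41229bc45dafad0e96c210044c0337cf4ba2b1835750bfb5e48fe712c6312348cc6b8a3591ea98255d009eec1e66adfc16ea004050303cff392a8) (nat_lit 8000))) i2)) (Nat.mul (nat_lit 18) i1) (Nat.mul (nat_lit 18) (Nat.succ i1)) List.nil)) (nat_lit 0) (nat_lit 32) List.nil) : List (List ℕ))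
    = ?xq9017 → (List (List ℕ))) ?hq9017; (case hq9017 => (set_option maxRecDepth 1000000 in conv => lhs; reduce)); intro _; exact ?xq9017 : List (List ℕ))

def tc17 : List (List ℕ) :=
  (by
  refine (?fq9018 : ((pk61l (fun i1 => (pk61l (fun i2 => (pk61d (nat_lit 18) (Nat.add 
    (nat_lit 0xba12b10c58c7127f8c7a4c00f20023d35cacbe462ab3455b2a858553d24c2c72098ec9d261dffd6eaaff74cabb214d63f2f4ab84c193202dc746e3bc1dfa0ee936b28b585d18eacd255f607eb43bca1da14e3e3fca4aa1e514e7cf5bf7fdaba55c4ffe326022b4045e69f675eb200884011c12020c400e300248000010000c10404c30330cc0822000ccc0222870013800c82021040200384009c060203400801c100e1c020e0040068003503800c9002c02820050010000c00c048203109c159e0fd5a57fd7fa2ab4455b363e4f4a72dc68ee3523e634a74b8214904f1c663a3749da6b6d75bba7219784562cbf46139b849d93ca45e173e695af5fd638c18920daa2615474048ac31163787cb93af451eb3cea58897d1170293805c7347f8b3a0700c38028acbd161ae447e733a798739d3828ab4515b3b8689935ce1ae24d697d79faf95eadfe56ef0e9e825e38f94929f53c7fca3a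db56adbf58e37d24ba2f72c6b865eebbe6592d1406cf08b3fd18aa9ec29e605f61ceb4e2feba6a597dd0f6ec2b8dd712ef84277f07baef00e6802c97921f9c4265f077e711678cf7f8482931056163f4f423d204ac40c2fc206a98269d0753035480bfce7ca27a1b033d808af9f7a9eb914f5cf2bead0ad6c165984fdd324f73b2b890788839110082801053eff0a6a8c90021c002e8086501d1acacd61d8acad16117154f8ff09a081d41406a30354002880051cff3e2a8aa08014100c8e82125026ab07558a62b17458454573f3f82a810550404230304020880411840313008c8c021200022080441048303108022800450200004000002880051020880411c8012100c8083101080220804410c42023048480131002000040000028800510228004506d6d76f6f816790f79a610174c07b5d79bef2652477c7269b075d875393bc9c73bc789a34e5b327d8a258547d3f0ada816d2410070c0ddc26ee07cdf262e87020b00418b2231844812334c48b33a10894c189a4d1d76ce3b624911020cc048f35528bfbf345a8b3c08820110e80b25018f0096801f602f34068852693c75fa38e9492048083101d3456cb3fdf452eb3c202204044a802d50062c06460373a03c940a5289bc51dafce16a244028300502455473ffe451673cf0a0081401980c9d021c805a103d8cccd222244a9b315d8bfe11aa424800710051527cfc75d127ecc70208804110ac18160d4e40b27010bf0c1a8265a0b7d41bafc196a0012200c4494155f0ff97055f83f0088801114238b04910718838d1323cc84a27aa8395509ff31ea8802808050155057fc3f54457f33f002a0005433ca08a14414a30f140fcf02a2826ab07558fb3d298ac002880051454573f3f455173fcfa0801410080bf101a88494131f0c3fc20aa0)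 (Nat.shiftLeft 
    (nat_lit 0xa0801410051003cc00003f000a833c008a0082801050004050303c0414030f00c330208800008000108220104404050303cf0c028200003f000a8082801050414030f0011400cf00f3002880000008000102280045008d5012fc4b8df192e8dd252ec7f8fce92a2083dc10aec8292105c38010900cf0fde82aecb8d6192f629d345ecc8dba12d90c458233d04a34314beaa0a5541585d3d3ecd29cac5e1deeaee656696435f7030a7081782c34860b1e74e27b24451233cc48b45d1b3e4d74b2fb185cf93e29a2409470113eacca56dc692e35cab9a959d5b6fd5b6af608cb4121b6185b4d3362e4b467e2cea4625b2e51867c2d86c6d3685a513d7ce633a7489bb0ad9816cba92195c17e18fa4d76f57b6bff95ba9fd9ee9ba65d9b5391bc9cba0ed94265077fc3) (nat_lit 8000))) i2)) (Nat.mul (nat_lit 18) i1) (Nat.mul (nat_lit 18) (Nat.succ i1)) List.nil)) (nat_lit 0) (nat_lit 32) List.nil) : List (List ℕ))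
    = ?xq9018 → (List (List ℕ))) ?hq9018; (case hq9018 => (set_option maxRecDepth 1000000 in conv => lhs; reduce)); intro _; exact ?xq9018 : List (List ℕ))

def tc18 : List (List ℕ) :=
  (by
  refine (?fq9019 : ((pk61l (fun i1 => (pk61l (fun i2 => (pk61d (nat_lit 18) (Nat.add 
    (nat_lit 0xe18aa29154539ea09e54de96ee5f6012a40c5736368b4b5e1aa24d54292a85c5509a081d41d8acad16100828010529aa05d5409ccc1e2219404df03d1acacd61c90021c00a8f4952b1a454d73f2f7f9aba9d0bdf81ae9858fd3d2a5f66feb766a453573c1d790ef9cbdb99ad9dc971a1f8d43c4f0a32f3e3a8a49f420ab041335ac8bd677c3fba0a91af1cd68010900c1cc049a031da398549d3307d083ac2e78c67926e08364100d5e82fe57c7cfa3a216a3cf54a008240107201a440d719660df740f13428cbcbde21ae4f8c229204c19ba0dd9ff1f2a8e846ecf3662002480071090681c358691935cdc144e0f32a17394f89ac309608121aac4d56ed43e6f0a72ff386a802090041c80899011d00818010da4d4d72f252bcbc5a10eb08258139c0c9e020eccc26224e00324002eb90659c2e398649d002840053593d3dcac37eb0ba58c3e820a508cbc121a0c0ff202a8f0c028200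cbe261a47cbca61a1700224004714080f0100f040283000e200244220c044203f000a800c0002000000c24020700e040243020480431440233004c0412030c02308048108c301208cc40223002000040000034800b10234004b0004880311850013c004c10320c0300888011c230204800f10028c0000200004304088301304808310001a000d450803c100f10028c000c0a0201423c004a00c14020f000000800010c18020d00c12020c4010280c0534200b0402c8006100c002a00050870013802090041c0000800010c10220c04c100a0c019c949e1f1dfc4aea31297185f8def2f2686853f4fcab24d9b32dd86622b744507b9c399ea08454133732eb886555ebbfe59fa34a94b1693a35c94f95be9fdac3a12094cd0fdac2adb163d8f4a8414530f3a4cf97229e5b5a7dbd3e4b8a719b6861b534de97ee5fa6c2c360607cf1ba28de817e50fa19404df03583bfd09a6ba97595fccdae22d65ce1be24de5ede7e6efa0329408ff386a893a90dd5c2e8494131f0f681eb50e66ae775679fb0de9826731b788d6df6f6eb6ce0b224183f8f4a92b4ac6f163619600df40a7c4d7a325e417e70f4cf0f2282c98ba1d1920c6c4236d6642f770427070783bd1cdace2092001c40587d3d3acf4d46b2f3f33c288a0a0aad4156083d810ad66d1376cc33d408af0dd8f2ed28828010500440833010c004600333033080888800d100204088301113010c80c0311008cc32300848000800010070023800420050403c0f00c2802900c1c020400a30014044043303014040f030fc002a00002000040840313008404230304030cc082208c10120c848013100011040cc30014400f3033c008a0200004000c90021c008410130c000ccc0222423030480092001c4010044c03310404c30330cc08220000200004)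 (Nat.shiftLeft 
    (nat_lit 0xea7fe57aa1cce0e224fc4e6a3270669c375e08e48127166db776db3df60aeb4e7eba7a5974b47b1b3abdfd5aeac433a3089ec17a60f942de706e782391049c79f6f9eb6cfb1a298d6a7af57967f253a87c997fddfaa6308f4812e909e5c1e31f788eb913c24ca07bfbd9a9ade36864b53bbde99ae5fe416a70fadaad6d56c9a8e1d524f93f29ca25a887d51a92255c47e6dda76ed206244347a3b19498d642e77067daaead565a2ae14564f16ce8f624aaa315549a849d53169fb75e9b0a14814f11b684db537a07b9439aee99665da8ea152542cd7c62faa6a8175500a698175df6b66b5b712488c711229d445efc64ba37196bbab5995aab215584d372ecb8629aa05d546298b45d1bd6b5af5b0099801dd50ea7c257cd98a2dd1bb6a99b559be09da41275c87b) (nat_lit 8000))) i2)) (Nat.mul (nat_lit 18) i1) (Nat.mul (nat_lit 18) (Nat.succ i1)) List.nil)) (nat_lit 0) (nat_lit 32) List.nil) : List (List ℕ))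
    = ?xq9019 → (List (List ℕ))) ?hq9019; (case hq9019 => (set_option maxRecDepth 1000000 in conv => lhs; reduce)); intro _; exact ?xq9019 : List (List ℕ))

def tc19 : List (List ℕ) :=
  (by
  refine (?fq9020 : ((pk61l (fun i1 => (pk61l (fun i2 => (pk61d (nat_lit 18) (Nat.add 
    (nat_lit 0x3b7c3efa0a66b98359d06f28b68511e7c8e7a1008880111ada096d415380bc9012aad0556cf4c5eb23eff0faa829b96219f44fa4a29714c7db23ad8002a00054daa82d550b00098001020d0042cc010e00c230308808103820090460203404000cb0021808000100001c800e101c080e01000c34020b210c04c200f08028100060803413a00094000032c008680001000000b200184c402230040034c00b2088301108c042203040218004d08cc012200030c8082110000c0000320808416000b4001030d0082c8020d00422010840c101c200e04d0302c080004b0031804000300002480071004028300540cc302202800c500210028c0058034100b03c010a00cc090201c0010000c000098001d04008b0011303308088880c1102004088301113010c80ccc0062003212004c40008000100012200c44300a080140f00c280290031c008400a30014044043303e004240300a8001500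002000040028080501808310108030cc0822c8012100c848013100011040cc30c4202304022800450200004000002880051c8202104000ccc02224e0032400092001c4010044c0338310108c020880411000020000420808410104320308462653477c1bf50dabca875153bca53897c91d2406c703ddc52ee3c67b8379908d6452f73043803090998f1dd28ad2016c404fe032a4017f28fa85c20060403737a38b94473233884fca16a14f43023080494a3df14ada802d500f270287804778b3b9120c4042303f528abc57340b8b01ee2466473304088301562cff462a4e0172402fd006ac0735a38bd408310108ccd58a2fd13c580a3d0eac52563c0c18020d076cf3b6285a303d480c97021f803d528afc5830050803e19a24dd4cd1222cc4a8f15528fc10220c047cf3fa28ab7c01ba00a390149c0cd98a2dd110440c33029a285d45e180a4d019b345d8b3208084101ff3cea8a25c703e38019600df40e1aa24d540411030cc8aa89155128a80515097451fb3c208084101300cc80224c3032080092001c40c90021c0000010000c0088801112088041108310108c00828010500c0f02028f30028800828010500a08014100000040003002a0005408220104411400cf00000800010003000080300008000008000100800010000000040003080001000000200004010000c000002000040300008000c000200000200004010000c000000400030800010000000080001008000100c86ee136676863b534258647d37b9d6d9ef633df88ae94ce072243a850153c0b29c985e1b87859393bdbedada60f6302b483de34ae4b8919d1cde070a838159bb55d9bf47ef33a68fbb9a999d16cd4f62fbbe7d9a7ae31c248e0e337648bb5a84fd532818c90d217a6d7976fe5fc27ea07eafba56941f970e9f)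 (Nat.shiftLeft 
    (nat_lit 0x80841013f8f92929c86a713578fb0829810190a0dc142a280545011400cf00f32a68857fb2269847080241007c01c200e000b800190380209004406030340808810110010000c00380049003300248007800490031210304c080322008448c00920013210084c010220c0440080001008c04120300c048203119628df45fb1f298e820bf041a8f8e2a92454d6532f7c24850713c082801050e9a225d44e180a4d01a66217744734fb8b29cfe622a74edffa6ea950c1fc20e335b48bdb04ab03158e19a24dd4ea796579f5ad0bd6c13c5bca3dae271a478debbbe599a343c4b0a30d56c2ff64222f044629a285d45abd655af7b5f81be90cd1ee2ce62bd845ad3ab6ed5b664f0732838c19da0ded32cc886218aa89155199759dfbd853213c84e1a4e4d725e077e4) (nat_lit 8000))) i2)) (Nat.mul (nat_lit 18) i1) (Nat.mul (nat_lit 18) (Nat.succ i1)) List.nil)) (nat_lit 0) (nat_lit 32) List.nil) : List (List ℕ))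
    = ?xq9020 → (List (List ℕ))) ?hq9020; (case hq9020 => (set_option maxRecDepth 1000000 in conv => lhs; reduce)); intro _; exact ?xq9020 : List (List ℕ))

def tc20 : List (List ℕ) :=
  (by
  refine (?fq9021 : ((pk61l (fun i1 => (pk61l (fun i2 => (pk61d (nat_lit 18) (Nat.add 
    (nat_lit 0xa24072f03862c24860712e10464c309ed81e6d2dfb06e981b868d935048303108534efcb26a3bf149a8331c888e1ca092141cc9c421e3082bb5059bcbb2e198684699335dc12020c4084ddd32eef8ee2926410cf8c2294e88325100e74027b0f8a869153be2cda4626990b5dc1228004500513f7ccabae3396489043bc309af0e228244c3d120accae2616474decf2e628b9a819d500200004001c004e0032003840090801c100ec0282005000d4002f024030700840b030180c0482031000080001003014080fc002a00054200f04022c800610010700c380c10220c0434200b0400c90021c000020000400444033320088401130cc08220c820210400710038c02080841014e0032400c12020c40000080001040003000002000040000300008200004000004000300000800010c00020000020000400b1bf18da88216104f4dd8f2ed28a9c3d5e0ab5dc1bee076bf7b5ab9e06de436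7edaba6d54dc0f2e02cc40223008a3311488323008480dc19ee0de892c11c600f5542bffdf09ee81e4630b348182ffd06aae010240c093c0dca020fc002a00e50e67c2792831c508c15560fffe44e6732773c838a1013ffccaaa1c020e004083dc10ae033c008a08dc652e37c8292105c5c547e3f38dd252ec704bf031a8f0fde82ae83011080c72c0f860230cc082208b7451bb36e803650017514fbcf9b345d8b3f1e028e407cf3fa28a10404c3033cfc0a2a00c330208893551cbfcf8e029240455473ff397451fb3c2eb006580ff3cea8a210404c30330cc08220000300008870013800c820210400044403338310108c00e3002480300cc80220414030f00c33020880000c000250403c300a200144000015000fc11400cf00c3c020a000c0f02028c00020000000080001008000100000200004010000c000c00020000010000c0200004000000800010200004000000800010002000040000080001008000100c00020000010000c00080001000000200004334008b00d522afc45b31d588efd5042fc302e1c064e02606074340808c10124ada316d468da352d4001f000e8ad0596c3d58cf7d22b0d4502f3c13ca0ca14814a10f140280c050296b81f59096b21f584040a0301413fa8ca95c2a56057f503a3c094a10a14c14f08a28114a000d400255b23fd8455b83fd904002b0005077a83b9522e54467f37028b80518828d1052c2286045180c0d02077a0bb94177a23b9445862bd3457e90ba5c14b4f71b2bc8f7a12b9db88ad911a217944f95d163ecf41a1f8d4e9123d0c4aca611974cd172b8f859c6dc636e3fe70aa7810ead8256dd84aad31597451fb3cd2c9ac61d70c93821c20018400d6ec4b663119ac4dd636c30b6081a018940d1e0a0a41418310108c04cb9b219d6cb93619c)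 (Nat.shiftLeft 
    (nat_lit 0x24008700140b030180c0282005020038400980c410230006800350020000400240307008040383009c06020340c02820050240087001c048203100068003502003840092403070080403830090200004000201c040e7c3bba099bc8dda12e3ce40a270eb0065803d7022f804a891d51cef3b1a898d8a635174b2691c75ceab6b95b59d912edcc63ce10a24c612a74c579a371d4b8803ed00a6ba9e995e5c75363bcb512afcc56ea9ea55e59e05de43e633334888a48657137fa492971cb8c0d92029aeb9d659dd1c6ece3a485d713e9eea9e6554b49f1b1ef40e2b024896251f474e9b325d80a33c148aeab9a559d1fc54ea3f8010d00c218ff8d2a92ed3c66ca07cb03a18f08268107f0612834c2296c45f6f2dca86e1a13a54c97110c0cc20873bd389ac9fce1e) (nat_lit 8000))) i2)) (Nat.mul (nat_lit 18) i1) (Nat.mul (nat_lit 18) (Nat.succ i1)) List.nil)) (nat_lit 0) (nat_lit 32) List.nil) : List (List ℕ))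
    = ?xq9021 → (List (List ℕ))) ?hq9021; (case hq9021 => (set_option maxRecDepth 1000000 in conv => lhs; reduce)); intro _; exact ?xq9021 : List (List ℕ))

def tc21 : List (List ℕ) :=
  (by
  refine (?fq9022 : ((pk61l (fun i1 => (pk61l (fun i2 => (pk61d (nat_lit 18) (Nat.add 
    (nat_lit 0x15b17cd8fa28e91925cd3f1b8a8d94cb9b219d44b333188495d31fec871b538db8798539d310208c04103b3c098a00ab80159c0e1a024dd2c9ac61dd2e92c65c0c4202304d98c6dd2319ac4dd6320018400df02ce8062e0a0a41416c30b60814cb9b219d6cb93619c8310108c0a4a71717886a7135780808410132e0f064282a2805450fb0829810f32a68857fb226984711400cf0080381009000b80019008024100780b010180808810110380209004380049003300248007010000c0013020c80403220084480049003113200c84010220c0448c00920018c04120300c0482031008000100ee6b6675be541a7f0d8a6cd17625b44bdb3132058843d2d4b86f19ca20a144196755f7bf617c74fa33d2e4ac6706c483631c75ce3be277febbaa5d185acd3df624ab471da60ad7419e5f5e7eba2735478ba3c754a3b017880f911ddcceee2b5ff9bea94c65b237d2d4b86f192e19864dd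dbd96dadff81a690d7faa76957b5427bf0798b86d19368d1592cfd19308dc81f624ab47188839110959d67def707e543a7faee5d667e7609fb41e906d9c36dd1896cd1f8788139106ec93661c9028dc052b5b59bdbd4275707bfdafd6d6af7cce7a227161b4f4db24a64717750623c344f8f269287160e0f4245fa97e95f33d548aff44887311364a17714f738b7891b24a94715f402830050c4076303b778b3b918b40c5b02307004380305a043d43652277c47c4af6316b61a274d47248007100cd4062f03c5af23d6809c341e0b010c40c2342a4305707a84b95316227f447a3aa489571482031040e094241f062a3f454a80b4d01b2008700138246807350066b83759e44ae7316226b847592600074001c620e344e42ae70563860c9342c06020340219204dc4e198a4dd18d92d2dc6e09aa41d5010a00c14a311148ccad82d6d062213c44ca2c10060c009a081d4129aa05d54d1acacd61292a85c5500828010519404df03d8acad16109ccc1e22c90021c0082a8105508aa29154526ab075588a8a915150028800518494131f0a62b1745880bf101a8a0801410028a805150aa2895451e1aa24d548aa89155120808410119600df40e98a25d14f8e029240082201044208804110200884011c90021c00008880111208084101092001c40c12020c40c82021040000200004b7415bb0f108e8c12525f707eb8d00c2c0204ec7f263a184c4d32311cccce223a19494df00a0801415c547e3f3042b830594bb1f198e240307008f0fde82ae8417130f804bf031a88dc652e370228004508014100f0240087001c0602034000bc001a0200384009c0482031004038300902000040024030700851003cc000828010500c0f02028000080001c3c020a00a080141002280045000015000fc082201044)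 (Nat.shiftLeft 
    (nat_lit 0xae36164b4acb6161b493d51cafc0aa2015440694035f093c09ca0111558cffd8295905fd080a01014bb4a19b14bb6219b44587d3d3aca2281445011680cf50083d810ad5055bc3fd5868bd351828010500212004c40210204c04440833010202204044012200c440408830114400b30014008b00110080001000a80015000880811017002380040a0081401028080501400a30014700838010300a08014002000040e2cb6461b27a847953af0a96815d3ececa62c571a3f8d163b8f49984699335d8863113488ffd12aac28f6c52b64a6631774d84aad315267f077a86398749d347caf3a16521a7c4d79210dc4c2d3736cb8b8b3d918adb2d1986cda41a970d54bd3f1aca396609f74707eb83a535c68be3515cc0fe202754c7bf2934b5cb1b1df84ee93590abdc) (nat_lit 8000))) i2)) (Nat.mul (nat_lit 18) i1) (Nat.mul (nat_lit 18) (Nat.succ i1)) List.nil)) (nat_lit 0) (nat_lit 32) List.nil) : List (List ℕ))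
    = ?xq9022 → (List (List ℕ))) ?hq9022; (case hq9022 => (set_option maxRecDepth 1000000 in conv => lhs; reduce)); intro _; exact ?xq9022 : List (List ℕ))

def tc22 : List (List ℕ) :=
  (by
  refine (?fq9023 : ((pk61l (fun i1 => (pk61l (fun i2 => (pk61d (nat_lit 18) (Nat.add 
    (nat_lit 0x77c66463773c90021c006c7c763a339ee09e6493d8dcad229e845e530836810b56efc366a086859353d62d5346fca08014100fb17298f88eb392589157e0ffa48ab6115b4b2409870137fa0ba944968b1f51547a3f394082201044de4f2e728fb28a9851b1d518efcba68197503040883010f10028c00048803114c10320c0000200004c23020480300888011850013c003048083100c18020d0c14020f00001a000d4f10028c0000008000123c004a000c0a0201450803c1000c12020c4c10220c042090041c0010280c052c8006100000800010087001380c002a000534200b040c100a0c01e19a24dd4393a89c95c9f721eb8e6e667677de3e2e4a4f2c12860c693275c870e09c241e5aaafd55629a285d458f8a92915a3b1d498e6af5b56bde7c3a7a092cf046283bb8499931c0ce60227b6ee9b665a226944758bac91961782ef9066767abb795cd3ea2ca53332488870a6f81769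8cf052283a9fb95e99243c870a115dc8fee1af7ed6ba6cc90a21c1e9aea5d65c4ed6326f6befb5a696f7076b83d83ead0a54b0b3181845bb33d98db5fadbe9e12824c50aaab955596237744bbba7bd979afb5429bf0a70b97819c68c23520f5a42bd70deddae6ed2c8606134eaaaa5555f44a6b317fa9be95da1e5f0e7e8c98ea1d2560e3342486ea13654ce5fb67e9bc821a104daaea956556c16b60f5adeed6e66c5d3e3ecaa0ab94159e43227084672a37854fdb66adb76e00b6401aaba9559597429fb05abf6d5ab6dd34eecb2e8a2a51456b00b58017a42b9705efa5a697df8c8292109bea9da555458bf3d19b7d9dbade78d2792caa2895451c1aaa0d55c888a1111ebb0a5981c8022100409aa81d554c38b2091870893811ebb8259902008840110a00814010a8001500700838010028080501088081101300a08014400a30014700238004002000040020880411022800450048303108002880051022080441808310108848013100840313008200004000088ec1126ae9ad65d66cf8b6291dcde2e2e452c43c630759bbbdd9445fb33e93df70aeb872ea3865486b4d35b2a6b0d758235988bdd1622434470e414270f0308b88119151f8fce9259707df84a00314003968c9f52392ac9c5611a78cd79244a073141d420ef04c0a3a0149d1c5ace3dd1662cf740608034102297c45faa287d453ae065a437d819210dc48315108fcec20a60414c75b23bdac55163fc018800d1009edc1e6e18edcd26e2a19454df11a08cd4111414cf0fea0825410f319688dfd9116dccf00a20014482bf505ab863f534ab89c651e3706a8035500494431f3a8c2152042d4646f37a58457d33022080441f8e869253f9c869e138a74517b321a804d5011604cf438a3211484835650bf7096641f77200884011)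 (Nat.shiftLeft 
    (nat_lit 0xe474a73b144b333188266b07758e077a43b984c713238e62b27458c24020700e443273080403830093d528afc5f5202bc40e19a24dd4fc52aa3c5c97021f80ed8a26d140c18020d0cd1222cc4c100a0c01cd98a2dd16e803650029a285d45ed18a6cd1a390149c0e8a2a5145c10220c04e180a4d01208804110a215944fd79aeb9d65ab7415bb0f0d7682fb6d11b6ccdc027e007a25e187e4d1ded0ee6c8114d0cf219c94de1fbeab9a5599b511dbcc2d35c6cbef98869d13220dc442e4ab871593c6b36358b118d0cd2c84b6531b7deeaee65695505ffc3cb8d6192faca61617408cf4122bb3e618a7463e4f4a7204a34314b222c4446348bff11aaa59057dc3498771d3b840313008c3e560a7fa7bc179a00e5ec27e686ac5356320ca44217f6e0eb64219264dc) (nat_lit 8000))) i2)) (Nat.mul (nat_lit 18) i1) (Nat.mul (nat_lit 18) (Nat.succ i1)) List.nil)) (nat_lit 0) (nat_lit 32) List.nil) : List (List ℕ))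
    = ?xq9023 → (List (List ℕ))) ?hq9023; (case hq9023 => (set_option maxRecDepth 1000000 in conv => lhs; reduce)); intro _; exact ?xq9023 : List (List ℕ))

def tc23 : List (List ℕ) :=
  (by
  refine (?fq9024 : ((pk61l (fun i1 => (pk61l (fun i2 => (pk61d (nat_lit 18) (Nat.add 
    (nat_lit 0x44ae3396489675437bf0416230f44228004500ae26164740c2682075d28b6c51bf5956bdff162fcf46af2b4685b3293ac5c965a7b7d79bea7fa57a99f829e90575507bfc3cca96215f5d677ef7be1c9e4e1e3c6b4a35bb286d8536f6996b5dffedaaa6d58b2d9186d15174fcfb764c7b72351527cfc78c79d239ebe6e5a767ffb6ea9b6abe955a5fe6b0a7581934d9cb2d4c77723bb7cd73a2f835948bdf1d31e6c8e7ded7ae6f9ef6da6b6d9a765d7b76be835a50145b4f3dbf315e88fed7732fb8811678cf799ccd5e22fdf79aeb9d6fdeb6ae5ba59597df26be075a4d1916cdcf5c4ffe32afd1d2acece055a43fd4bf171a8f7f9dba9ed97fe9faa55a9b7d5dbb1ea18e545c257e07fc7d1e3ace5fc73ea385c52be3c5763c7b4a357efbfa69b9fd99eadd6a96f55fa8b7151b8674177b0f5d3cfeca2f95829fd04c18b20d181e650e77f950a9fc1850893c1105e643e77840213004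84c453233100ccc022ad9216dc4f10a28c1412b58c5bdad9816dd0508a3c11442b5b05bd5000bc00150353c0bc040f030289d581efd0128a0c514fd0aaac159d521efc483ca10a14fc4aaa315014080f010d4a02f14001a000d4d5922fdc404e283245ec8aa6115d590afdc110728c385ec1aa60d50098001d0c092a01c5010280c0565a0b7d414238b0491e82aa505565a837d500718838d1e90aa5c15012200c44212884c510088801117aa83955033ca08a14aa0a954157aa239544414a30f14a88a951150280805010a8a01514002a0005426ab0755880bf101a88a8a91515a62b174588494131f08aa29154500288005182a810550a08014100b597dbdfa5ce4be271c27ba07990164c0f72fddaaaed54e457273fccb6e21b618cf0d228b45b1b3d8d967edf7a277187b8dfc98aa1d12054c43f29fb79e9b9475873bd3bf60dab42c2f12068cd9932ddc8ee55e67fe711eb8ce51fa38e9491052cc3c6fb6da9b6d159c4fde32b1fc58ea7c383a090de252e47ce9dd65eef3d8b8ad19c668e3752051c83ce1ae5b567db45a733d78894fd1f2aff022a804e6c16760f5ef67e6b7c3a7a09792d98c6dd211c48ce31db9a6d9d7e56427f70cad4e16f28f0f128284d3a72c97b7795bb9fec6ca636113a6cc9760075803bd9ead5e56f2d5606ff41e78ce792cbcc21a20b7845b9335f567ebf7ea1b254d8066d8376d0319408dfd6e76f67bc991a1dcdc7de23ae4a073143885c653e37c975d5fbefde8a2e51461d8b4ed1508c7c123ed7966f9f5e24be4719dfc1eea0f812290c4675137bcc59dd7deef8fa91295c14b68f1b504e14324f7f967a9f7274987b1d3bf509abc9e031e408551e3fce4dfc26ea0715cc0fe20d3acac961cfce62a271a0c4d423dcacae1610f2002840df0c2e820100e0c024)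 (Nat.shiftLeft 
    (nat_lit 0x92b15c58f3e404a703b51b1bcd8371a4b8d7b0ff982a9810dd0c2ecc6222344d532efc86a1a894d5178297905f031b408dbd9872dd38918f5cd2bf8f3a928948c4f1232af10168c0bd05dac3e28a685175a75957bdf33de48ae73a0d0942c624f7472bc016a00f597bedf9a6357a0bf9442faf06962496871f559567dff70d7782fb98cc35220b38d7c92fa210984c1d576fbfb694f92b29c533fe88aa54929b1c5d59597dfdf5417bf0f96f4c76b233cc8ca212bf799ab9d7bd0b9ac1ed18a6cd10b11818cd4519b3cddb5965bdf77509fbc1ef857293f8cc3e220a4df5a6ebd7bd781af90e98a25d14814850f13718a78d17c86661377be2cda4624e8832510f8ee29264d7706fb830798039d0c12020c40f8a869153308a48117a215944fddecf2e628f0e2282) (nat_lit 8000))) i2)) (Nat.mul (nat_lit 18) i1) (Nat.mul (nat_lit 18) (Nat.succ i1)) List.nil)) (nat_lit 0) (nat_lit 32) List.nil) : List (List ℕ))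
    = ?xq9024 → (List (List ℕ))) ?hq9024; (case hq9024 => (set_option maxRecDepth 1000000 in conv => lhs; reduce)); intro _; exact ?xq9024 : List (List ℕ))

def tc24 : List (List ℕ) :=
  (by
  refine (?fq9025 : ((pk61l (fun i1 => (pk61l (fun i2 => (pk61d (nat_lit 18) (Nat.add 
    (nat_lit 0x20391409cf00c0842013b13d98cad318008d003d0b0ac18859f13de8d9e32de489e09de41e09c701e3812470c73803804090378c7b9239002700078c38720938d9e42de70ee35264bc4b89f191ec274207b0c059203dc002c40063c673a3789e04024300cc6c223602e75067bc7f4a3ab1446acf35623c580a3d05c903e1c020c044203fd18aacd10c12020c42fd006ac0735a38bd4fc52aa3c572ef38668cd1222cc4f5202bc400834010b0ed8a26d14c100a0c01c97021f803d528afc5ed18a6cd13ef3ca68ae180a4d016e803650083011080ce8a2a5145208804110a390149c0cd98a2dd1e98a25d14cffce2aa228a805150f8e02924010404c303aa289545108220104419600df40e1aa24d54c12020c4000ccc0222208804110c8202104010404c303200884011000200004092001c40c90021c00ee82a6505298a85d1509f301e88e90825c10c78aa391518ee4d26711ee4ce67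091141ccf00a080141e8e8a525188aa9115583b0d0982a88215104606ab43558637934b906b7835b9818450d33022800450406a303548a8a9151526ab07558c8e8212508aa291545a62b1745882a810550a080141000028800512aa285545820090401cbe021a408a2211444a8a29514592ea1c6549aca1d61459203dc40082801050f9f6a9eb55f0bbe8199b8c5d923d5dbefeda4197b0df943faf0a96ee6b6675b99ec1de60a51617cf48016d00f6468bb351924a7c717ace1ba24d9a0f7d42ba088781139feeaaa655e76aa7b55955a9ffd5347e4b3a79b0a9d8154687f353ad07f6c3ab02e8c06526337b48b9bbeb99a59666ab775591649cf71292f85c69d126ecc76ec8ba611918a9cd15ee14d64f2f49b8b1d91e7b067983ad9c16de04f6032b40e982a5d05200a04014390cc9c22e90825c10c98aa1d15e168e4f52e868e535219440df30092001c40a8a8951510802810058c8f12128a88215104a0aa941552a9e055e4aa1e154e48491131cc82801050003000080000200004000c000200c000200000c000200010000c000000c00020000040003000200004004000300020000400003000080200004000c000200000400030000003000080004000300000800010010000c00008000103000080000002000040c0002000010000c00c00020000004000300000080001010000c000002000040c0002000000080001c000200000080001002000040000010000c0000800010008000100000080001c00020000000800010200004000002000040080001000010000c00000200004a25c547e381c350e0b68f5352bcc8e56127f2ffc86aa16c10f60c2312b08c58706df836e6a88b551118da4d2d7c834610b376723b7846e707678333fe88aa51702cf806e0872413864d3f72ca06aa83555)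 (Nat.shiftLeft 
    (nat_lit 0x410070c0308e001240020280405c003e000a18c00d20082021040418200d04000080001010e00c24002028040582009040108e00124082021040480029000518c00d20010e00c24018200d04000080001018200d04018c00d20002028040508e00124010e00c2408002900058202104048200904010008000106b3f358a8c6cde362e859913ddc71eb38e580c37420bb899291dc5b0801810079d439ef01aff0d6a8bb43d9b0a60ff742ab51a27cd473eb2ca586c305e083e91a89cd511c200e040bdb11ad8c87f3d3a8a9c5cde3e23b37c98ba36a48b571cfeca2a61204d4432f16aa0f554c60023400dfa06e943537cfcba2d51f2fce88f4dd2b2e4ee93265ce27b247980817410fb46e2b364560c034200e66427770375f0bbe8b49f1b1e8da12ed4c6b50c1bc) (nat_lit 8000))) i2)) (Nat.mul (nat_lit 18) i1) (Nat.mul (nat_lit 18) (Nat.succ i1)) List.nil)) (nat_lit 0) (nat_lit 32) List.nil) : List (List ℕ))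
    = ?xq9025 → (List (List ℕ))) ?hq9025; (case hq9025 => (set_option maxRecDepth 1000000 in conv => lhs; reduce)); intro _; exact ?xq9025 : List (List ℕ))

def tc25 : List (List ℕ) :=
  (by
  refine (?fq9026 : ((pk61l (fun i1 => (pk61l (fun i2 => (pk61d (nat_lit 18) (Nat.add 
    (nat_lit 0x6ff0f7682bb0aeac1656a217944f97a613974c67c037a0099ec1de6079f6b9eb57f0bba8199b06dd836d7dbefada499d31dec43daf0ad6e6e9e765e91649cf71ad9c16de0415430ff0a62b174588a8a91515cff3e2a8a80bf101a800288005126ab07558a080141008494131f0b18598d3d0886c11363d27cac7a2209c441e2867c537acb4ae1b16eefaa6695955a9ffd5666ab7755200884011208084101c82021040208804110008880111c12020c40c90021c00092001c400002000042d3b86c997326f8876ec0b260181896cd1f6cb47e1b3a419ab0dd56dbaf6d96a51617cf4e76aa7b55c142e0f06e0a0a4141a6a7d757a01e840e5328c24520708af01168d0cb2c2184f6032b4019440df3058073d038288cc51220ca18214dcb01e180ee967e5f7a2a22054440e18c24d28494131f067c037a0028ce05224ac87d613a9ba59d97d04f4c32b2699675df709e7c1e7a7ffbfaa9a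9c949e1f119d60def46500b7c0198d35d2cb6a253547caeebd665af69aeb5d6f7d66baf7be289a451e8312508cef42e6b06a6f9d769e8b875193beafb6569b9ac1dd60e658877d13440fb3029b891d91ced71e2f8e47de43ae70f760ebb42e358e4bd28fc752a3b91ae1cd6408cdc122e7dfbbae99dcb72e1b848e97125f08d2412c7d9022dc047712fb8c66ab5b55bd4d5e32fe40d6102f4c6f6eb6b6529f345e8b7b4939b1c6addf56ee772b3b85868a8b5151f56debf6ed1502cfc0d1b8ecd9264a17714ffa56697f7ad0d56c2fdfc46ea33db2b2d8588105d0c3ebc629a3456f33b688919294dc5f4e737278b5ac37d60b7d607af4310e00c240bc629a3456d3d36cac8105d0c3e4e737278bda226d44719294dc5f10e00c2405ac37d60b7d607af438105d0c3ed4b3ef18a6d3d36cac19294dc5fc9e2e1e46da226d4477d607af4310e00c2405ac37d60b6d3d36cacc20a60417d4b3ef18ada226d4473717cb8fac9e2e1e465ac37d60b7d607af4310e00c24098209d04175153bcfcee41e670e2f3fc68aa800890011f310e88c24792739c760317408f10e00c24060317408ff310e88c298209d041ee41e670e4792739c78008900112f3fc68aa75153bcfc10e00c24075153bcfc80089001160317408f98209d0412f3fc68aa4792739c7ee41e670ef310e88c210e00c240f310e88c24792739c775153bcfc60317408fee41e670e2f3fc68aa98209d04180089001110e00c24075153bcfc51207cc434792739c72f3fc68aad023ec04aee41e670e10e00c24098209d0418008900114792739c79a2a1d45451207cc43ee41e670e1a2a8d455d023ec04a80089001110e00c24098209d04151207cc4389e391e499a2a1d454d023ec04a99c39de091a2a8d45598209d04180089001110e00c240)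 (Nat.shiftLeft 
    (nat_lit 0xaf4c56b23c503a3c09891e51ce741eff0e6ae55967fdf90bbdc19ad9f76debb78e279247c5d8a3ed1a83f950a98727d387abb245987316038f40900a9c015e68a0351407c8bba11951c6bce359e4a1e714c16de0f6eb9a6d9d76e6292745cf5baebd9658e27d2478c94121f0f3b3e898a8f16928f5cae4a16715569fff5ee96765f7bb6b69b5b5f3e628a7422e0446438a619174d41f130e8c2fb18698df29ce85e2d92c6dc63e58267d07ec212604cf9ada9d6df976a9fb5a6a5d757ebf005a803da3f2d4a878e27924765e677e7719c40de302f91869cdfb05a983de26864753a9b795db97a33f948aee862653451c6bce350414030f0a20014400080a01014003f000a8228004500082201044828010500000080001a080141001476cf3b6bb8a19914862d534) (nat_lit 8000))) i2)) (Nat.mul (nat_lit 18) i1) (Nat.mul (nat_lit 18) (Nat.succ i1)) List.nil)) (nat_lit 0) (nat_lit 32) List.nil) : List (List ℕ))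
    = ?xq9026 → (List (List ℕ))) ?hq9026; (case hq9026 => (set_option maxRecDepth 1000000 in conv => lhs; reduce)); intro _; exact ?xq9026 : List (List ℕ))

def tc26 : List (List ℕ) :=
  (by
  refine (?fq9027 : ((pk61l (fun i1 => (pk61l (fun i2 => (pk61d (nat_lit 18) (Nat.add 
    (nat_lit 0x634200b040e09aa41d593745cbb3219204dc42213c44caf12228c44008280105b35858bd3d8acad1614e0032400292a85c5517550fbfc09a081d4109ccc1e222e80865010028800511d560eff4a62b17458f0c0282008a8a91515455173fcf82a81055080bf101a8c8e821250002280045090c01c202c0406030c0002000000a08014100414030f00a2001442e0006400330808810020880411808310108c8012100c2000040000228004500014400f3022080441c8c0212000c4202304008880111c820210404e003240000020000420880411010404c3032008840110e30024808310108c0002a00054a20014400f0c0282000000800010822010440414030f0080a01014c3c020a0011400cf00080001000200004000c0002000000008000100020000400040003000200004000c000200010000c0080001000008000100020000400000080001000008000100010000c0200004000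03000080008000100080001000020000400000200004008000100000080001400030000000800010300008000002000040b0819810d100e0c024550bffc1ad98cadd214087b0139d1ecece62d86c6d363aa4d1572c09a081d411c284e053040383009748efb126a4ab171583029c805e26bf075a8a617174f898d35d2cb82a8105508417130f8a4a897151c64ba371904bf031a8a0ab94159c663a3749042b8305902280045024030700859203dc40082801050ef4f26b28820090401cbe021a402aa285545a8a295145719538dfc8a2211444719538dfc2aa28554559203dc40ef4f26b28a8a295145cbe021a408200904010828010508a2211444a4a8971514b8df192ec8292105ca0ab941598dd252ec70c6a02354022800450240307008042b83059c64ba3719c8292105ca4a897151c663a37490c6a02354a0ab94159240307008042b830590228004505a0abd415391bc9cda96695f75f8a76117b4918d9cd2d8242d0706be95da5fe9e4a1e7142fb18698d2260447436416b70f524b047183a3f494ab13e948a5f16fca36a14254ec7f26eddfa6ee9da3f2d4a832314848faa6ad57563c5d8a3ed819f90de9c99d21decb5c35be0b33e548a7f20294405fee8626534caaa21554dcc7ae239ae055643fbaea596570fbb82999390c49c23ab4e15b249eeede6669c949e1f180f19028d2ba005940280b4501b12f74c6bb61b534dbc6147f4f3a0bfac1a96c5d8a3ed18f16928f59b675db7b80bd101ac78caf92167fccfaa22c1e560e7f0ed6c26f645acb3d6119d60def4eddfa6ee97709bb81d8d71d2f8e9a8c5d5235012bc0c514fe4f2a7e5aba7d596c35760bfcae4a167120294405feb1d258ec4fe8b2a51d8f62d2b478323908438610934c13668cb75846f93369f29ce85e29eeede666)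 (Nat.shiftLeft 
    (nat_lit 0xa6a09754109edc1e6e870cd3822a6a8175504276707b78414530f3840313008200884011848893111079b839d9870cd3822a6a097541839b909d98414530f3a6a817550200884011848893111840313008048303108030cc08220228004508083101080014400f302208044120000400084801310084031300880811010c275387bc938a9c915e120c0c42089b891d9147277387b098901d1c01cac0e1602bd005ac58603d340b09b981d95679ff79ecff922a9c5f34be8b10ee94265ffc5e2a3e42a1bc54da60a234144482031040d11eacce562a3f454a00c90021c3aa489571e54c67f2342a43057080b4d01b270e8382502600074009cc59e23de42ae705640b030180226b847590dd642ef72468073503860c934224b307188010a00c144b71b1b8dad82d6d) (nat_lit 8000))) i2)) (Nat.mul (nat_lit 18) i1) (Nat.mul (nat_lit 18) (Nat.succ i1)) List.nil)) (nat_lit 0) (nat_lit 32) List.nil) : List (List ℕ))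
    = ?xq9027 → (List (List ℕ))) ?hq9027; (case hq9027 => (set_option maxRecDepth 1000000 in conv => lhs; reduce)); intro _; exact ?xq9027 : List (List ℕ))

def tc27 : List (List ℕ) :=
  (by
  refine (?fq9028 : ((pk61l (fun i1 => (pk61l (fun i2 => (pk61d (nat_lit 18) (Nat.add 
    (nat_lit 0xc1a16cd4f6220c4042300cd4422f3cd1222cc4fa8469533f872a93854e98b25d14a053143ced9826dd01a9f0d5e808310108cc13520cbce180a4d01ace51627caf18968d16298f45d2810750c3b25f287e8573e2f8a46a099541dff7c1eba0ecf91e29cea7f117a8c2c10060c039ee09e641085cc13e4bb8b19913e7c8a7a119264dc776c7c763a3e16c64f635b707db83c90021c008eb392589042d4306fb36a18b54cfdb22ad886859353dfb17298f82a97055f8b7541bbf0a08014100fb28a985161c074e03a89f151e8dfbc2e9a04968b1f51de4f2e728d26a2c754195f0dfe808220104430088801120c044203842013040108c0c120004880311c23020480ca0021400052003c400002000040c0a020140834010b052003c400042303048001a000d423c004a00a0c014200428030500000080001c002a000583011080c34c00b2004200f0402010280c0508700138018300d080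30e00824000080001020088401110404c3034c303208030cc082200088801118310108c08700138000e3002480000200004080a010140414030f0f300288000c3302088002a0005411400cf0050403c300c3c020a000000800011926cdc760394c09f21b85cd93e26d4c76f2af59d6bdef666ab775c469a335d7839f909ee386e49366145f4f3e1476cf3b633a7c897a0d05c2c3eb031d808e52a1bc54d65bab7d950f66c2b76edebe6e5a4456f33f6b151d8fcee06fe436a4344f0b327803f900a6429b705db5a69bd75a35cd4be2efb6e69b6711db8ced1d9c4ede32a1fc54ea305d083ecbc0cda0227a0a794175ea9be55d195f0dfe8eb6da5b6d54c7bf23913e54ca7fd2caec61650d33c2c80bc3c1a0a868b5351b67a9b795dd2d52c6fc6edeb66e5c571a3f8d607d743af8cb9d219ed4312f08cc23ce04a2c9a861d5365aeb7d655c793e39c97fa9fa95a8cb95219b7225b8472209c441ea9cb15e18d273ec78a6308748136d81b6d0d40093001c0d9082dc1983add0965e44be73108ce4122798b2dd18627dcc7ae2384609334f8a869153300248007c1a820d50970e9f825f4d92b2dc8037900b9972c9f861497f31fa88c11920cdae26164740c048203122a204544ec8ea6125010280c055837fd0ba9b011d80c18ac0d1605a00fd402c971e1f8eb4515b3cfd171ecf8ee82ba5059008880111b70ddb82e94405f303862313448b4cc1b220a39c549e35d147ecf3279c479e34e08b2411a6a097541079b839d9c828a1051a6a817550839b909d98488931118403130082008840112aa285545082801050fcf3ea28a59203dc408a2211444cbe021a4092ea1c654410070c039aca1d614410070c03cbe021a402aa285545fcf3ea28a92ea1c6548a221144459203dc400828010509aca1d614)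 (Nat.shiftLeft 
    (nat_lit 0x26e2876456487b71398e10924c19c29de05e28f4052b031d6c8ef6b242187040adb416db98b29d185437db0bad78f2b9285863a93495f58cebd2269f135e8c29b3c5d8a386209344e17464fb37707bb839335b48bdbbf389a89153cabca156caf36168bbb0599838bacd19628e10924c12b95059fc7c49fa31e0d56c2ff6df4a2eb14347a8b395fa23e944a9f641eb70926f1c768d1c82ce10896151f4ffc1e6a0e7580cfd022d3752cbbcbe509a7c12553c7fca8f211284c9a451d73c7b6839b50fcb16a18f03e440a73b40f1b028275147bcfddd82eed0499cf1de2d2406c70394d15f2cfbe521a7c4ef24668730275007bc539a3c9d4d0816c10f7f523abc4cb93e19cac2006040332414870f3c580a3d06d2176c4f6fca36a1435628bf45242447073fd50aaf) (nat_lit 8000))) i2)) (Nat.mul (nat_lit 18) i1) (Nat.mul (nat_lit 18) (Nat.succ i1)) List.nil)) (nat_lit 0) (nat_lit 32) List.nil) : List (List ℕ))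
    = ?xq9028 → (List (List ℕ))) ?hq9028; (case hq9028 => (set_option maxRecDepth 1000000 in conv => lhs; reduce)); intro _; exact ?xq9028 : List (List ℕ))

def tc28 : List (List ℕ) :=
  (by
  refine (?fq9029 : ((pk61l (fun i1 => (pk61l (fun i2 => (pk61d (nat_lit 18) (Nat.add 
    (nat_lit 0xc24402330040d79c2f9e4418f30d24604b343165ac37d60200c4402331e788e79e01e240e4e55c27fe07000b8001c39e609e7710e38c2470c93821c7aa339548080701038e077a43b99cc21e2041dd60eef40403830099cec5e26384c71323844b333188e62b27458c24020700fc52aa3c58b311188c93751cbbcc100a0c012bf145a8fc97021f80f5202bc40ed8a26d140c18020d0ed18a6cd193405cb0317514fbcf2088041108b7451bb3a390149c06e8036500e8a2a5145c10220c04e98a25d1414540f3f0455473ff308220104493551cbfc19600df40f8e029240aa2895451208084101c12020c4010440c330004440333000200004870013800092001c40c820210402008840112080841012280045000411030cc0015000fc00008000150403c300828010500a20014400080a0101408280105002000040000010000c040003000000080001400030000008000100200004000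002000040000800010d880ed102c8bfe11aa66e9f765e4a27b14794da2f2d46ae9a565d78214904f1d1e16ce4f7b42b9b05a42c17060a32fd486a7afe796a7b2c9d861ef2aca8561d9e6ade7511c90ce1c26b4475b3bc589a3d15a033d4081a4fcd72abff79aab91cfe4e2a72eeb06658a6b99759d04b2431874be531a7cdd1a2ecd42fd906adc32e5c867ea797979f99aee5d6674f6e32b64a2a39454986b853593a8651537cb4b01b18053be3c9a4607bf439ad96eadf65aaf95569fa7dc17ae0e82aa505539a849d536a52357c4392309c4837638bb493b1ec98e6a69b975d99bf65dab759733df88aa0a954158ea612574b9d099ec18e80d250285ac93d61c0f1e028ea28b94519019340dcb51563cff4202084041048303108852f93c6900bfc01aa29e485e717c30fa082c8aaa1155d0246c07394551f3fc200284005c12020c40e9c4a5e31f0e0e82428ab91159cff0c2a820a22a9445526050743c55117fccf080881011228004500a8b91519c2e3c064a07aa8395500fcf02a28a88a95115414a30f1455057fc3f028080501002a000547aa23954433ca08a1426ab07558c3fc20aa08aa2915458494131f0454573f3f002880051a08014100a62b1745880bf101a8e1aa24d543cfc0a2a0aa289545119600df40455473ff3208084101082201044e98a25d14f8e029240c90021c0030cc08220200884011092001c40004440333208084101000200004c12020c40c82021040db95ed9feb5be5bda742f9b069d0e95c25fe83c250a074d3ff2caa3689cb51eba3b194986ae2356445e6dfe76eb9e759e7b74b8bb1915368fcb52883c510a3f7c4eba3241abf0d5afa8b29518a63a1749468acb51617129b8c5dc842a1305d292ec5c681ec10e60257cc7fa22836050b4ba4c59723a0da942d5)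 (Nat.shiftLeft 
    (nat_lit 0xc0002000c0002000800010003000080000000c0002010000c00002000040c0002000000010000cd88ead12519000dc006c37f60ba18504d3c318ac0d16018f30d28811af4cd6b8050103c009af41d6ba42b97059848013100fb0de982e851413cf08623134488730d388206a7c357a11100ccc082a7d057a011400cf00483031080208804110330c08828083101080028800518403130082000040008480131002ad2856c5a6605774309ab81d59fea96a55fa8b295185afa69697527e907a5c3a2c09460cc31e208e4f4db2b2d695f75feb9ffb9ea99a7cc57a23840793039b7c39ba0956263f474d59c2fde0f8e1e924ef05b683dbb997d9dfad77aefb9658773d3b85009fc01e5c78fe39276c1bb60d65a337d48ae3c564a3429e705e7cc48e2312df50eeb) (nat_lit 8000))) i2)) (Nat.mul (nat_lit 18) i1) (Nat.mul (nat_lit 18) (Nat.succ i1)) List.nil)) (nat_lit 0) (nat_lit 32) List.nil) : List (List ℕ))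
    = ?xq9029 → (List (List ℕ))) ?hq9029; (case hq9029 => (set_option maxRecDepth 1000000 in conv => lhs; reduce)); intro _; exact ?xq9029 : List (List ℕ))

def tc29 : List (List ℕ) :=
  (by
  refine (?fq9030 : ((pk61l (fun i1 => (pk61l (fun i2 => (pk61d (nat_lit 18) (Nat.add 
    (nat_lit 0x88e198a4dd1219204dc44b71b1b8d11328cc855b41bdb0d34200b040008280105292a85c5537c0cba0229aa05d5409a081d41b35858bd3078883911b4585b3d34e00324000028800518a8a915154c7c323a08aa29154582a8105501d560eff4406a303545d163ecf4f0c02820000228004500a080141110c0cc2000828010500a200144090c01c2019000dc00180c0d020c000200009521dfc4e2adcc56e2496371f4ba95ed5fe6f16d28f6ca392d49c6e6e9a765d077b83b99f5202bc40568c7f52389ff11ea8b294d85f2999f9dde92e93465cb196c8df616afa75697435af0bd66e803650074e73b27893b3dc98a1ded0ee6c95abdfd5ac9e4e1e72869b135d8bbf699ab5315e88fe5f8e02924060b83419040fcf02a28398109d06e44f67322e74c67b2008b00118a393949c9a31b948d9c820210403b2209844333f088a811620cf44f8dd292eccbdd21aec0022c00461968cdf52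194acdf16a20014400c0c220204ccc022200012800c50cc02220040cc2022040028c00520108c0c120120c0c422000040008c30120800f30028802084041308f00128008330108802080c41020084c01322004c4032000200004d3002c800c34020b0008210104cd0402c30013400cb00082c01060002d0006c080d0102c00008000192001c4008240107000c310208ce08024100238004900041c030e000270007808070103800008000108090101c0818010d07300388000c2202044002e0006411c00ce00e04024300c24020700000080001f04028300f10028c00001a000d4314008f00c14020f000c0a020140c18020d00c12020c40000800012bf4c5ab21e590e7dce2a4a45711e2a8e45500c3c020a2e91c65cef4a8ab151077b83b99bd081ac108b7d11bacc5d263ec72ae90565cc6caa3615003cc00a2c9ec61e636e2a36454435af0bd6dc822e1047adc396e09d345ecb362ba345948db892d9130c0c82022ef4466b3a78a17914949cdf1e28f211284cbdf31ae88d7852f93c3be289a45d3aa2c9540c3c020a0cbf521abc5862bd345552f3fc68d2406c703810310c0810900c1c003028080518800d100000c000200ce0022404002b000518100d0c0c200604031080cc102052003c40004880311842013040000300008c23020480300888011850013c0020c404230042c03060428030500001a000d452003c4000000c000223c004a000c0a0201450803c10008310108c42033040830e008240010280c0534c00b200000c00020087001380c002a000534200b04083005080330c0c82020e30024800088801114c30320800003000088310108c02008840114e003240010440c3300c3c020a0c3c020a00002a00054f300288000000c000211400cf00080a01014f0c0282000411030cc)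 (Nat.shiftLeft 
    (nat_lit 0xfd48eaf1241e7b0e79711c38ce07137f8cba4344b0b319b941d9f0e575a7fbd6eb9f659e765bbb7d9ec9e261e432b9c859e3d830ad083f8dca92e3059083dc95611ff4c6b99759dffbee69a677ddafaed6d0642c3705336fc8b66ccc362204a52f17c6ba7c197a0ad8e16d244b16718f7fffe6aaa775f0fbe822611074cc374d8bb2df83329088b1dc98ee19fd31eac8d8a3ad149b14598f3def77a6bb97fbc3a9a080811010c89b891d9103d600af4893991c9d098901d1c275387bc903858093d2457873f9120c0c4204820310403aa489571907c1c3a07a84b953142a430570d11eacce5406cb0361d152acfc500c90021c260007400226b8475938d1092cc066b837592468073509cc59e23d24d0872c19c159e0fd40b030180010a00c14e09aa41d552333c4) (nat_lit 8000))) i2)) (Nat.mul (nat_lit 18) i1) (Nat.mul (nat_lit 18) (Nat.succ i1)) List.nil)) (nat_lit 0) (nat_lit 32) List.nil) : List (List ℕ))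
    = ?xq9030 → (List (List ℕ))) ?hq9030; (case hq9030 => (set_option maxRecDepth 1000000 in conv => lhs; reduce)); intro _; exact ?xq9030 : List (List ℕ))

def tc30 : List (List ℕ) :=
  (by
  refine (?fq9031 : ((pk61l (fun i1 => (pk61l (fun i2 => (pk61d (nat_lit 18) (Nat.add 
    (nat_lit 0xc81f4eceb2657dabfad5c5df23ee8da316d48f872793879f6e66b6775559fffde2390449c30adc016e027a1c794ef55aabfd5265f077e88b7451bb393789cb91e6a96755f759e7bde7096401f7081f310e884a6c717636d9ab6dd549d3f1eca93551cbfc175a0fbd46ae675677308e481275c343e0b0723c384a0379c4b9e365b0b7d818adcd16e2870013800279a079d417164f8f70c2782079f7012b80c3fc30aa084d6732f787ba83995091ff1cea850403c3004962b1f454545b3f3d0012800c534040b0300f0c028200052003c412080c4102f00068004000300000042803050050803c1010880c114c013200cc04320308011080cc104c203204c840213003000080000018800d1011800cd0008a00114f000680032010c40c2018800d104030b0081a010140c00c0002000010a00c14018200d040022800452c0406030090c01c2000a20014433080881019000dc00c00020000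00828010500a080141911fdccea5f99fe9de76fc3b6a018d9cd2def4952b1fcfaaea9565e9eaa5e55633d748af1fa88e951158fcfd2af56e6bf677ff33aa88853e53ca76d2176c4faeeb96659aaba955953b4749b3bc66a2375444aff316a6e97b65f9ff70eab825387bc939fa8469533dafaed6969bea9da558c55d23fe62d2b46c5dad0ed6c25e5dbe7ed7d70faf82b82799079a7fe57aa74caff216a09aa81d55e5ffe7eaa1f278e879a5fc17ea0f5db6bedbff9c2a9e09e09de41e5b77bdbb9f22fe846a82aa905556bbff59aac649e371ed0262c074d14b6cf1bba8619534df06ee83677c2bba052945c5f3e0880811014f2af28569f2cde862ac411630ccc95621ff8a6b117588f4dd2b2e853f93ca94256f07f6022080441a78cd79222bcdc5a2e4b12318c45f607eb43ea98255d04bdcf1ae2f9c4a9e319458df3d220088401109eec1e6642fef06a6b14098f01f6542b7f0a9e215e44b17f18fa8acb91619c551e3fce4080a0101482bf905a933ff88aa9038080901600434030d0022c0040f800290080091001c100e0c0240020000400c80821010f008280100680035038010900c240087001c0602034010024c007040383009020000400c02820050c048203102090041c0420330408010280c052c10060c080015000fc100a0c010008000102c80061000c90021c0092001c4030c0c8202008880111c90021c0010044c033208804110000200004c82021040c12020c408280105000c3c020a0002a00054a0801410004050303c082201044000080001a2001440022800450008280105033c008a00a08014100082201044414030f00a20014400000080001080a01014002a000547f13ba8c9069e435e74450f33c244df732eb073243887a97055f83dfd66eaf7f5e7abe79576ebfb65)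 (Nat.shiftLeft 
    (nat_lit 0x414030f0c3c020a000015000fca2001440000004000311400cf00080a01014a0801410008220104411400cf000c3c020a050403c300080a010140000400030015000fc828010500082201044a20014400010000c00000c00020400030000002000040000040003040003000008000100000200004200004000adb756dbb2e39c649e49cab1e15724bf871a03b14098fcf52a2bc58cdbd22daae76d67b698299d05d95575fffb8089d011e82e090641c49be31dab95e59fe78e58927d16361f4b4e6146f4f36f599abddd5595ffdfe102e4c06712f80c690612ef4c669d979edf9d1da2ced43a5c497e3389d891ed6daa76d579695df5fe5d147ecf3b4671b378ef14e68f26e5db67ed774f3bb2898d35d2cb7d82bad0569bf75dab5969fdf5e17454fb3fe95325f) (nat_lit 8000))) i2)) (Nat.mul (nat_lit 18) i1) (Nat.mul (nat_lit 18) (Nat.succ i1)) List.nil)) (nat_lit 0) (nat_lit 32) List.nil) : List (List ℕ))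
    = ?xq9031 → (List (List ℕ))) ?hq9031; (case hq9031 => (set_option maxRecDepth 1000000 in conv => lhs; reduce)); intro _; exact ?xq9031 : List (List ℕ))

def tc31 : List (List ℕ) :=
  (by
  refine (?fq9032 : ((pk61l (fun i1 => (pk61l (fun i2 => (pk61d (nat_lit 18) (Nat.add 
    (nat_lit 0x3ca22a94455aa08154108ab91159c2e3c064a0a8b91519c22800450004050303ca080141000822010440c3c020a0828010500002a00054a20014400000080001228004500a6871753868a4b5171ea0065403aeab5655baf99969dd5aed7d66fdc442e330a7c3d7a0abe349a4b1ea88a55110ed6c26f6c1e560e7fedb9a6d9d78caf921680bd101ac45acb3d61eddfa6ee919d60def4a8ea15254c1fda0ead22b5445bfebaa65957bc3e9a0a513234c84b72ab38558e9bbe5d9a85b193d8daab2155847cf4ba2b1706a78357aeae56567bbc399a09e00d6402fe4ab27158fea6ea5767924b9c719be09da41ff392a89c3e168a4f5dae7ad6799c78de39228074503b6a22f5446eeeda666dbe891a51c09a081d4130090801cd98cadd214087b0139b4d8db2d2aa0d5542fd0c2ec206b398989d1ff862a93482a8105500c0242007a4ab171583029c805e5d3e3eca498c75d23b243c870a1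1d6a0ef54ec61a634d28a805150830050803e9a225d446083f410ab7c51ba3cca716178f31c288e05a395149fc6f12b68c520880411093405cb03c10220c047cf3fa28aa390149c09b345d8b329a285d45b7c01ba00cd98a2dd108220104414540f3f0208084101ff3cea8a219600df4097451fb3c8aa8915515c703e380e1aa24d5400020000410440c330208084101300cc8022092001c408310108c00088801114c3032080c90021c000000800010411030cc0828010500c0f0202882801050011400cf00002a00054f30028800a0801410000008000100010000c000800010003000080008000100010000c0008000100030000800080001000000008000140003000000800010030000800000200004000040003002000040000030000808000100038b4091b077c2bba05d938adc91a193d4dca83011080c39d289ec58f94529f3b8d1592cfddd0aeec18f211284c7c78ba391a78a1791419accdd6210404c3038db892d91d1652cf7c9d345ecb3e5b827d90d2406c703ff1a2a8d45862bd34586af135680414030f0d3aa2c9542691475cfd7852f93c6ba235944c2006040334300b0804002b00050890011c000040003018800d10002014040f10900c1c043023080420c4042304f0032800300888011812010c4000010000c84201304000c440233052003c4030408830108310108cf040283000c0a0201412800c50000004000352003c4000035000bc4280305000c18020d00834010b04280305000035000bcf10028c0000004000323c004a000c0a02014f040283000c12020c483011080c30e00824003014080f2c8006100000400030087001380c002a00052c10060c0c100a0c0110404c3030e3002480004440333c8202104000010000c8310108c0200884011c90021c00208804110)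 (Nat.shiftLeft 
    (nat_lit 0x4bb1f198e4b8df192e38010900c08d5012fc8417130f80c16420f7a0ab94159a4a897151022800450762cfb46246ecf366242033040852703c780d9402df0093405cb03e8a2a514529a285d452088041107ecf3a62872ff386a830c0c820237d00bac0a490171c014540f3f0aa28954518aa8915510822010444230304804e003240030c0c82020710038c08410130c010440c33020088401100888011100020000433c008a00f0c0282000c3c020a0414030f0051003cc000411030cc080a01014002a00054000080001003f000a80c330208833c008a000414030f004050303c51003cc00828010500a08014100000080001200284005e8aa25154d0246c073c8aaa1155e820a504129e485e71f0e0e8242e9c4a5e31c12020c40080881011aa22954452605074) (nat_lit 8000))) i2)) (Nat.mul (nat_lit 18) i1) (Nat.mul (nat_lit 18) (Nat.succ i1)) List.nil)) (nat_lit 0) (nat_lit 32) List.nil) : List (List ℕ))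
    = ?xq9032 → (List (List ℕ))) ?hq9032; (case hq9032 => (set_option maxRecDepth 1000000 in conv => lhs; reduce)); intro _; exact ?xq9032 : List (List ℕ))

def tc32 : List (List ℕ) :=
  (by
  refine (?fq9033 : ((pk61l (fun i1 => (pk61l (fun i2 => (pk61d (nat_lit 18) (Nat.add 
    (nat_lit 0x4791a25cd471be44da73d7fdefaae6d23f6c4ae63027480e275247bc5e33be489e91a25cd46741b7b0d1434cf0b2410eb0c255d893ed1c4450b33c1fa452973c33a10894cf709ab81d9e861e534451eb3ce53141c8f0e84c49323147a53397c15108fcc14e5b327d8602f340686c4a76317d4e1af24d718bb8d190c9c421e350393c09c72617874f458833d10f1d2e8ec63a03c940ab335588bf6e0eb6425349b8b1d98a8651537017600fb4cc9b621dbcbbd219acdd67eef7add99eedde784f7932b87ca93a15d1a3acd498a6851753b054183f0dfa06e9437eec3a660ef55e6bfe5fa5fe97ebc17da0fa507abc39526a8c755292d61c6f41d110eccce66427770fef32a688e95d65feff66d6b76fdd0deec2e371a8b8d54aee3166415f18fe8dc58063d036ad1356cceff0e6a82a99755dfb6ed7766fb4fc5f2a3e918f9cd29a6f8176907135b8cbd0d2442c73563a3f4943f3eca8a6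da666d777d77a6fb97a07ad4396624fb4729e7f227a84be0a9a4151d614ef4f2fd006ac0c8eee1266c616634f7df506ebc31b1e8d8e538dbc92da6b70b5b81dccaae215c694635f3c97021f80a23f944a961c5b4e3de55427ff092cd9c62dd2b3ec58a361e8b4e58fb19298d1d684ef533e140a4f0f8caa92154476b33b51d560eff418ed8d26d01fcc0ea2d18eacd2519e18de4d011d40cefd1ae2cd64c020a0041112c8cc61090c01c20863b5349b03bf009a824ab8715986b853593018740d3b26a387549220804410068b03518808310108f98869d13f0ec28260e1a2a4d4539a849d53c06460373e12aa4c55008a00114c1a820d50c82021040aca6161742e33064882aa8855518ea6125742215044fc2a8a8551500228004522a204544a200144007351f8bced7fdefaae1be44da730aa54157fc5e263e4775ddfbeee6d23f6c4ae275247bce63027480d1d4ecef255f7ffebaad3456cb3a8255507f227d447af7dfdfaeaee706e78363d0a0ac147c5a3a3d425bd07dac77bdfb9aedb852d93c9a055d43f0bd741afbffbf6a9ab684db532dcc82a2105fd12aacc54ba37194b7f6f7ab6ba4615734f94c55f23f8175d0fbeef67e6b7ab81b590dbe028a4051ed88a6d11b264d8772fe57ea7fa5a147d4f354357f0bf139d4c9efea5de57ee9d06dec362a0a05414e8aa251541edd0e6eceddde6eeeb5c51be3c77057b83f056743f7ba9df55eebd48daf12d88c291205aa229544553f93ca9c5ff6feab6497731fb8454f73f2be15464ff3daf66d6b74de1b2e4d8a3091481aa0a9541574bd3b1acb77ddbbaef6542b7f0c5d463ef31c564e3f7be795a79f6734b78b13a08894118a8a9151525f707eb82537c7cba600434030224444733184c4d32330494831fc98ea1d25d982add0500a080141)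 (Nat.shiftLeft 
    (nat_lit 0x67e837a58ac651637f4242b070327c087a0cf4ae2b1658497d31f8091501cf349e8b1e536014b40f43dbb0ad990f59c2bd6e013640c0fd302ac8e05ea43e5b4165b0f711244cc734d2bb2c594cc472233317ac8f9617394f89ff8c069203c170e0f82291b85cd95d05bec3d06850353cf28ae8516f035280bcaf05d683e62e37464bc02a60057accfd622ab37498bb1103a8c095a010140c0a3cad4a160fca02a14d84d6d32f3af4c96b2220684435d83fed0aa1f590ebdc070a8381519000dc00187e8d3a5c072a0385a417570fb8ffd12aac08c98121da70fd782ac55263fc7404ab0315848013100871b938d92318848d1d9426df077bfc39aa042b0b0581c9cee1e269d145ecf38490931c1092001c40d98cadd21108e8c125055fc3fea75ddfbeeec5e263e) (nat_lit 8000))) i2)) (Nat.mul (nat_lit 18) i1) (Nat.mul (nat_lit 18) (Nat.succ i1)) List.nil)) (nat_lit 0) (nat_lit 32) List.nil) : List (List ℕ))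
    = ?xq9033 → (List (List ℕ))) ?hq9033; (case hq9033 => (set_option maxRecDepth 1000000 in conv => lhs; reduce)); intro _; exact ?xq9033 : List (List ℕ))

def tc33 : List (List ℕ) :=
  (by
  refine (?fq9034 : ((pk61l (fun i1 => (pk61l (fun i2 => (pk61d (nat_lit 18) 
    (nat_lit 0xc08da012dd9542dff0f6272b478e39ca49e17e983a5d00b09c181ebc205a043a31d548ef33a10894c202b4405ba59117dcc6ec1f660e296b05f58fde22ae44804e50327de042e43019474df3b0e60427430a06c143659a07dd43f8fc692a38a92d15c6eeb0a658110178c0f9e4c12720c8495d31fec2d4206f02e9cc65e29aa05d543c019600df0c8dc212efef0aa6815d22bec4595041fc302615c74fe11910cdcc13eacca562a294545f5c807e10343e0f0a423f3b8a899a7059783d094501f3c514afcf1650253c07c) i2)) (Nat.mul (nat_lit 18) i1) (Nat.mul (nat_lit 18) (Nat.succ i1)) List.nil)) (nat_lit 0) (nat_lit 5) List.nil) : List (List ℕ))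
    = ?xq9034 → (List (List ℕ))) ?hq9034; (case hq9034 => (set_option maxRecDepth 1000000 in set_option simprocs false in conv => lhs; reduce; dsimp only)); intro _; exact ?xq9034 : List (List ℕ))

/-- the table -/
def tabs : List (List (List ℕ)) :=
  [tc0, tc1, tc2, tc3, tc4, tc5, tc6, tc7, tc8, tc9, tc10, tc11, tc12, tc13, tc14, tc15, tc16, tc17, tc18, tc19, tc20, tc21, tc22, tc23, tc24, tc25, tc26, tc27, tc28, tc29, tc30, tc31, tc32, tc33]

/-- entry `k` -/
def tb (k : ℕ) : List ℕ := get (tS 0) (get [] tabs (Nat.div k 32)) (Nat.mod k 32)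

/-- one derivation -/
noncomputable def dOk (k : ℕ) (e : ℕ × ℕ) : Bool :=
  Nat.blt e.1 k && (Nat.blt e.2 k && beqL (tb k) (compT (tb e.1) (tb e.2)))

/-- all derivations -/
noncomputable def dAll : ℕ → List (ℕ × ℕ) → Bool
  | _, [] => true
  | k, e :: l => dOk k e && dAll (Nat.succ k) l

noncomputable def dr0 : List (ℕ × ℕ) :=
  (by
  refine (?fq9035 : ((pk61l (fun i1 => (_root_.Prod.mk (pk61d (nat_lit 3) 
    (nat_lit 0x3c9e773f1c4e3f9c71dcf3b9df9dffe79dcee773f73a9dcee773bee773b9dcf3cee773b9dcf3b9d79d79dcee773af3ac) i1) (pk61d (nat_lit 6) 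
    (nat_lit 0xdf6d74cf3cf2cb1c70c2fbaeb6caebaeaaa9a68a279e79a69a59249238a18207df7de79e75d75c71b6da69a6996586185d75d65965555145134d349249145040f3cf38e38d34d30c30b2ca28a2492492082081c71c1041186185145144104104) i1))) (nat_lit 0) (nat_lit 128) List.nil) : List (ℕ × ℕ))
    = ?xq9035 → (List (ℕ × ℕ))) ?hq9035; (case hq9035 => (set_option maxRecDepth 1000000 in set_option simprocs false in conv => lhs; reduce; dsimp only)); intro _; exact ?xq9035 : List (ℕ × ℕ))


private theorem _root_.Cfsg.Agent.KOf3ae0f4.e0.{ku, kv} {α : Type kv} {M : List α → Sort ku} (φ : ∀ l, M l) {z : M List.nil} {s : ∀ a l, M l → M (List.cons a l)} (h0 : φ List.nil = z) (hs : ∀ a l, φ (List.cons a l) = s a l (φ l)) (l : List α) : φ l = @List.rec α M z s l := List.rec h0 (fun a l ih => (hs a l).trans (congrArg (s a l) ih)) l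
private noncomputable def _root_.Cfsg.Agent.KOf3ae0f4.k2 : (by first | exact type_of% @Cfsg.Agent.J3.Tab.beqL | exact Unit : Sort _) := by first | (refine @Subtype.val _ (fun g => @Cfsg.Agent.J3.Tab.beqL = @g) (@Subtype.mk _ _ (@(fun (x0 : @List.{0} @Nat) (x1 : @List.{0} @Nat) => @List.rec.{1, 0} @Nat @(fun (x2 : @List.{0} @Nat) => ((@List.{0} @Nat) → @Bool)) @(fun (x2 : @List.{0} @Nat) => @List.rec.{1, 0} @Nat @(fun (x3 : @List.{0} @Nat) => (((@Nat.hasNotBit (nat_lit 1) (@List.ctorIdx.{0} @Nat @x3)) → @Bool) → @Bool)) @(fun (x3 : ((@Nat.hasNotBit (nat_lit 1) (@List.ctorIdx.{0} @Nat (@List.nil.{0} @Nat))) → @Bool)) => @Bool.true) @(fun (x3 : @Nat) (x4 : @List.{0} @Nat) (x5 : (((@Nat.hasNotBit (nat_lit 1) (@List.ctorIdx.{0} @Nat @x4)) → @Bool) → @Bool)) (x6 : ((@Nat.hasNotBit (nat_lit 1) (@List.ctorIdx.{0} @Nat (@List.cons.{0} @Nat @x3 @x4))) → @Bool)) => @x6 (@Nat.ne_of_beq_eq_false (@Nat.land (@OfNat.ofNat.{0} @Nat (nat_lit 1) (@instOfNatNat (nat_lit 1))) (@Nat.shiftRight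 (nat_lit 1) (nat_lit 1))) (@OfNat.ofNat.{0} @Nat (nat_lit 1) (@instOfNatNat (nat_lit 1))) (@Eq.refl.{1} @Bool @Bool.false))) @x2 @(fun (x3 : @Nat.hasNotBit (nat_lit 1) (@List.ctorIdx.{0} @Nat @x2)) => @Bool.false)) @(fun (x2 : @Nat) (x3 : @List.{0} @Nat) (x4 : ((@List.{0} @Nat) → @Bool)) (x5 : @List.{0} @Nat) => @List.rec.{1, 0} @Nat @(fun (x6 : @List.{0} @Nat) => (((@Nat.hasNotBit (nat_lit 2) (@List.ctorIdx.{0} @Nat @x6)) → @Bool) → @Bool)) @(fun (x6 : ((@Nat.hasNotBit (nat_lit 2) (@List.ctorIdx.{0} @Nat (@List.nil.{0} @Nat))) → @Bool)) => @x6 (@Nat.ne_of_beq_eq_false (@Nat.land (@OfNat.ofNat.{0} @Nat (nat_lit 1) (@instOfNatNat (nat_lit 1))) (@Nat.shiftRight (nat_lit 2) (nat_lit 0))) (@OfNat.ofNat.{0} @Nat (nat_lit 1) (@instOfNatNat (nat_lit 1))) (@Eq.refl.{1} @Bool @Bool.false))) @(fun (x6 : @Nat) (x7 : @List.{0} @Nat) (x8 : (((@Nat.hasNotBit (nat_lit 2) (@List.ctorIdx.{0} @Nat @x7)) → @Bool) → @Bool)) (x9 : ((@Nat.hasNotBit (nat_lit 2) (@List.ctorIdx.{0} @Nat (@List.cons.{0}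 @Nat @x6 @x7))) → @Bool)) => @Bool.rec.{1} @(fun (x10 : @Bool) => @Bool) @Bool.false (@x4 @x7) (@Nat.beq @x2 @x6)) @x5 @(fun (x6 : @Nat.hasNotBit (nat_lit 2) (@List.ctorIdx.{0} @Nat @x5)) => @Bool.false)) @x0 @x1)) ?_); funext a0 a1; refine (congrFun (_root_.Cfsg.Agent.KOf3ae0f4.e0 (fun a0 a1 => @Cfsg.Agent.J3.Tab.beqL a0 a1) ?_ (fun c0 c1 => ?_) a0) a1 :) <;> [(funext b0; (cases b0 with | @nil  => (rfl') | @cons b0_0 b0_1 => (rfl'))); (funext b0; (cases b0 with | @nil  => (rfl') | @cons b0_0 b0_1 => (rfl')))]) | exact @Cfsg.Agent.J3.Tab.beqL | exact ()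
private theorem _root_.Cfsg.Agent.KOf3ae0f4.e2 : (by first | exact @Cfsg.Agent.J3.Tab.beqL = @_root_.Cfsg.Agent.KOf3ae0f4.k2 | exact True : Prop) := by first | (delta _root_.Cfsg.Agent.KOf3ae0f4.k2; exact @Subtype.property _ (fun g => @Cfsg.Agent.J3.Tab.beqL = @g) _) | rfl | trivial
private noncomputable def _root_.Cfsg.Agent.KOf3ae0f4.k3 : (by first | exact type_of% @Cfsg.Agent.J3.Tab.get | exact Unit : Sort _) := by first | (refine @Subtype.val _ (fun g => @Cfsg.Agent.J3.Tab.get = @g) (@Subtype.mk _ _ (@(fun (x0 : Type) (x1 : x0) (x2 : @List.{0} @x0) (x3 : @Nat) => @List.rec.{1, 0} @x0 @(fun (x4 : @List.{0} @x0) => (@Nat → x0)) @(fun (x4 : @Nat) => x1) @(fun (x4 : x0) (x5 : @List.{0} @x0) (x6 : (@Nat → x0)) (x7 : @Nat) => @Bool.rec.{1} @(fun (x8 : @Bool) => x0) (@x6 (@Nat.rec.{1} @(fun (x8 : @Nat) => @Nat) (nat_lit 0) @(fun (x8 : @Nat) (x9 : @Nat) => x8) @x7)) @x4 (@Nat.beq @x7 (nat_lit 0))) @x2 @x3)) ?_); funext a0 a1 a2 a3; refine (congrFun (_root_.Cfsg.Agent.KOf3ae0f4.e0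 (fun a2 a3 => @Cfsg.Agent.J3.Tab.get a0 a1 a2 a3) ?_ (fun c0 c1 => ?_) a2) a3 :) <;> (rfl')) | exact @Cfsg.Agent.J3.Tab.get | exact ()
private theorem _root_.Cfsg.Agent.KOf3ae0f4.e3 : (by first | exact @Cfsg.Agent.J3.Tab.get = @_root_.Cfsg.Agent.KOf3ae0f4.k3 | exact True : Prop) := by first | (delta _root_.Cfsg.Agent.KOf3ae0f4.k3; exact @Subtype.property _ (fun g => @Cfsg.Agent.J3.Tab.get = @g) _) | rfl | trivial
private noncomputable def _root_.Cfsg.Agent.KOf3ae0f4.k4 : (by first | exact type_of% @Cfsg.Agent.H514.QS.tb | exact Unit : Sort _) := by first | (refine @Subtype.val _ (fun g => @Cfsg.Agent.H514.QS.tb = @g) (@Subtype.mk _ _ (@(fun (x0 : @Nat) => @Cfsg.Agent.KOf3ae0f4.k3 (@List.{0} @Nat) (@Cfsg.Agent.KOf3ae0f4.k3 (@List.{0} @Nat) (@List.nil.{0} @Nat) @Cfsg.Agent.J3.Tab.lS (nat_lit 0)) (@Cfsg.Agent.KOf3ae0f4.k3 (@List.{0} (@List.{0} @Nat)) (@List.nil.{0} (@List.{0} @Nat)) @Cfsg.Agent.H514.QS.tabs (@Nat.div @x0 (nat_lit 32))) (@Nat.mod @x0 (nat_lit 32)))) ?_);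 rewrite [← Cfsg.Agent.KOf3ae0f4.e3]; (try delta Cfsg.Agent.H514.QS.tb Cfsg.Agent.J3.Tab.tS); (try generalize @Cfsg.Agent.J3.Tab.get = g0); (try generalize @Cfsg.Agent.J3.Tab.lS = g1); (try generalize @Cfsg.Agent.H514.QS.tabs = g2); rfl') | exact @Cfsg.Agent.H514.QS.tb | exact ()
private theorem _root_.Cfsg.Agent.KOf3ae0f4.e4 : (by first | exact @Cfsg.Agent.H514.QS.tb = @_root_.Cfsg.Agent.KOf3ae0f4.k4 | exact True : Prop) := by first | (delta _root_.Cfsg.Agent.KOf3ae0f4.k4; exact @Subtype.property _ (fun g => @Cfsg.Agent.H514.QS.tb = @g) _) | rfl | trivial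
private noncomputable def _root_.Cfsg.Agent.KOf3ae0f4.k5 : (by first | exact type_of% @Cfsg.Agent.J3.Tab.compT | exact Unit : Sort _) := by first | (refine @Subtype.val _ (fun g => @Cfsg.Agent.J3.Tab.compT = @g) (@Subtype.mk _ _ (@_root_.Cfsg.Agent.J3.Fast.compF) ?_); exact _root_.Cfsg.Agent.J3.Fast.compT_fun) | exact @Cfsg.Agent.J3.Tab.compT | exact ()
private theorem _root_.Cfsg.Agent.KOf3ae0f4.e5 : (by first | exact @Cfsg.Agent.J3.Tab.compT = @_root_.Cfsg.Agent.KOf3ae0f4.k5 | exact True : Prop) := by first | (delta _root_.Cfsg.Agent.KOf3ae0f4.k5; exact @Subtype.property _ (fun g => @Cfsg.Agent.J3.Tab.compT = @g) _) | rfl | trivial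
private noncomputable def _root_.Cfsg.Agent.KOf3ae0f4.k6 : (by first | exact type_of% @Cfsg.Agent.H514.QS.dOk | exact Unit : Sort _) := by first | (refine @Subtype.val _ (fun g => @Cfsg.Agent.H514.QS.dOk = @g) (@Subtype.mk _ _ (@(fun (x0 : @Nat) (x1 : @Prod.{0, 0} @Nat @Nat) => @Bool.rec.{1} @(fun (x2 : @Bool) => @Bool) @Bool.false (@Bool.rec.{1} @(fun (x2 : @Bool) => @Bool) @Bool.false (@Cfsg.Agent.KOf3ae0f4.k2 (@Cfsg.Agent.KOf3ae0f4.k4 @x0) (@Cfsg.Agent.KOf3ae0f4.k5 (@Cfsg.Agent.KOf3ae0f4.k4 (@Prod.fst.{0, 0} @Nat @Nat @x1)) (@Cfsg.Agent.KOf3ae0f4.k4 (@Prod.snd.{0, 0} @Nat @Nat @x1)))) (@Nat.ble (@Nat.succ (@Prod.snd.{0, 0} @Nat @Nat @x1)) @x0)) (@Nat.ble (@Nat.succ (@Prod.fst.{0, 0} @Nat @Nat @x1)) @x0))) ?_); rewrite [← Cfsg.Agent.KOf3ae0f4.e5, ← Cfsg.Agent.KOf3ae0f4.e4, ← Cfsg.Agent.KOf3ae0f4.e2]; (try delta Cfsg.Agent.H514.QS.dOk); (try generalize @Cfsg.Agent.J3.Tab.beqL = g0); (try generalize @Cfsg.Agent.H514.QS.tb = g1); (try generalize @Cfsg.Agent.J3.Tab.compT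 = g2); rfl') | exact @Cfsg.Agent.H514.QS.dOk | exact ()
private theorem _root_.Cfsg.Agent.KOf3ae0f4.e6 : (by first | exact @Cfsg.Agent.H514.QS.dOk = @_root_.Cfsg.Agent.KOf3ae0f4.k6 | exact True : Prop) := by first | (delta _root_.Cfsg.Agent.KOf3ae0f4.k6; exact @Subtype.property _ (fun g => @Cfsg.Agent.H514.QS.dOk = @g) _) | rfl | trivial
private noncomputable def _root_.Cfsg.Agent.KOf3ae0f4.k7 : (by first | exact type_of% @Cfsg.Agent.H514.QS.dAll | exact Unit : Sort _) := by first | (refine @Subtype.val _ (fun g => @Cfsg.Agent.H514.QS.dAll = @g) (@Subtype.mk _ _ (@(fun (x0 : @Nat) (x1 : @List.{0} (@Prod.{0, 0} @Nat @Nat)) => @List.rec.{1, 0} (@Prod.{0, 0} @Nat @Nat) @(fun (x2 : @List.{0} (@Prod.{0, 0} @Nat @Nat)) => (@Nat → @Bool)) @(fun (x2 : @Nat) => @Bool.true) @(fun (x2 : @Prod.{0, 0} @Nat @Nat) (x3 : @List.{0} (@Prod.{0, 0} @Nat @Nat)) (x4 : (@Nat → @Bool)) (x5 : @Nat) => @Bool.rec.{1} @(fun (x6 : @Bool) => @Bool) @Bool.false (@x4 (@Nat.succ @x5)) (@Cfsg.Agent.KOf3ae0f4.k6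 @x5 @x2)) @x1 @x0)) ?_); rewrite [← Cfsg.Agent.KOf3ae0f4.e6]; funext a0 a1; refine (congrFun (_root_.Cfsg.Agent.KOf3ae0f4.e0 (fun a1 a0 => @Cfsg.Agent.H514.QS.dAll a0 a1) ?_ (fun c0 c1 => ?_) a1) a0 :) <;> ((try delta Cfsg.Agent.H514.QS.dAll Cfsg.Agent.H514.QS.dAll._f); (try generalize @Cfsg.Agent.H514.QS.dOk = g0); rfl')) | exact @Cfsg.Agent.H514.QS.dAll | exact ()
private theorem _root_.Cfsg.Agent.KOf3ae0f4.e7 : (by first | exact @Cfsg.Agent.H514.QS.dAll = @_root_.Cfsg.Agent.KOf3ae0f4.k7 | exact True : Prop) := by first | (delta _root_.Cfsg.Agent.KOf3ae0f4.k7; exact @Subtype.property _ (fun g => @Cfsg.Agent.H514.QS.dAll = @g) _) | rfl | trivial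

theorem dr0_ok : dAll 8 dr0 = true := by (first | (rewrite [Cfsg.Agent.KOf3ae0f4.e7]; decide +kernel) | decide +kernel)

noncomputable def dr1 : List (ℕ × ℕ) :=
  (by
  refine (?fq9036 : ((pk61l (fun i1 => (_root_.Prod.mk (pk61d (nat_lit 9) 
    (nat_lit 0x8341604ff7f3f1f6070300c0401) (pk61d (nat_lit 4) 
    (nat_lit 0xba299078506112222223404443404440440404004043004303030000344044043304403444003340404434440434003003434304000404043440400340440343) i1)) (pk61d (nat_lit 9) 
    (nat_lit 0x804050381405fa01013f4043100be5f0f77b3d406d5672e56cb2562a94ea752a7d369a4ca592a9447a250e8441200fc793c1dce874399cce472389c0de6e371b4d6693419cce6633194c86331188c4612f968b2582c15cac562a950a65229144a04f279389c4d26930984b251289249241208e46231148843219088441209007e3f1f0f8783c1d8ec74391c8e47038) i1))) (nat_lit 0) (nat_lit 128) List.nil) : List (ℕ × ℕ))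
    = ?xq9036 → (List (ℕ × ℕ))) ?hq9036; (case hq9036 => (set_option maxRecDepth 1000000 in set_option simprocs false in conv => lhs; reduce; dsimp only)); intro _; exact ?xq9036 : List (ℕ × ℕ))

theorem dr1_ok : dAll 136 dr1 = true := by (first | (rewrite [Cfsg.Agent.KOf3ae0f4.e7]; decide +kernel) | decide +kernel)

noncomputable def dr2 : List (ℕ × ℕ) :=
  (by
  refine (?fq9037 : ((pk61l (fun i1 => (_root_.Prod.mk (pk61d (nat_lit 9) 
    (nat_lit 0x80406030100406030100406030080c06010080802020080c0202008040203010040403010040601010040351a8d46a351a8d46a351a8d46a351a8d44034fa5d35f94ba200c02010080402030180c060100cf6780398cc6633198cc6633198cc4032f954b6591a954a651278a48241209048240018f462391b8d41631178b456280287c3e1f0f00c36110b853f21107) i1) (pk61d (nat_lit 9) 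
    (nat_lit 0xc36170983c1607017fbf52af97bbd5e6f177bb5d6e973b95c6e13fb75b6d96bb55a6d167b3596c963b1584055faf576b95bad566b157ab556a953a9546a14e18be9f40101416913ca0d0a893ca10567f3f0180c04019d4e671379b4d66933994c6612e18809f4fa00808060101c96492391486411f8e8c404fa188c4020201804020389446210f8743062fa010c40202) i1))) (nat_lit 0) (nat_lit 128) List.nil) : List (ℕ × ℕ))
    = ?xq9037 → (List (ℕ × ℕ))) ?hq9037; (case hq9037 => (set_option maxRecDepth 1000000 in set_option simprocs false in conv => lhs; reduce; dsimp only)); intro _; exact ?xq9037 : List (ℕ × ℕ))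

theorem dr2_ok : dAll 264 dr2 = true := by (first | (rewrite [Cfsg.Agent.KOf3ae0f4.e7]; decide +kernel) | decide +kernel)

noncomputable def dr3 : List (ℕ × ℕ) :=
  (by
  refine (?fq9038 : ((pk61l (fun i1 => (_root_.Prod.mk (pk61d (nat_lit 9) 
    (nat_lit 0x1bdddee771ab8500c0401) (pk61d (nat_lit 4) 
    (nat_lit 0x1200120101201201012210121012001210120120120020001020000201012220101021008673654010120020100110020201022210220100100222102001021) i1)) (pk61d (nat_lit 10) 
    (nat_lit 0x81a058120380a01400fb7f9fd7f1fb7e9f97e1f77d9f57d1f37c9f1415ef7b9ed7b1eb7a9e97a0ba5c1e5791e3789e1781df779dd771db76949761d7759d5751d3749d1741cf739cd525cb729c9721c7719c5711c3709c17013d6f9bc0c4020c401008016d9b56d1b36c9b16c1af6b9ad6b107055a96a1a7699a5691a3595a16819f6799d6719b66999661976594565193649916418f6398d6318b6294762187) i1))) (nat_lit 0) (nat_lit 128) List.nil) : List (ℕ × ℕ))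
    = ?xq9038 → (List (ℕ × ℕ))) ?hq9038; (case hq9038 => (set_option maxRecDepth 1000000 in set_option simprocs false in conv => lhs; reduce; dsimp only)); intro _; exact ?xq9038 : List (ℕ × ℕ))

theorem dr3_ok : dAll 392 dr3 = true := by (first | (rewrite [Cfsg.Agent.KOf3ae0f4.e7]; decide +kernel) | decide +kernel)

noncomputable def dr4 : List (ℕ × ℕ) :=
  (by
  refine (?fq9039 : ((pk61l (fun i1 => (_root_.Prod.mk (pk61d (nat_lit 10) 
    (nat_lit 0x8b22a4f40300801) (pk61d (nat_lit 3) 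
    (nat_lit 0x8828820900820040240800020825200848104004108005044109046db6db6db6db688d940241220a001080282400008) i1)) (pk61d (nat_lit 10) 
    (nat_lit 0x3ea85a1283a0a81a027f9fa7d4264b9ea799e2779da759d2739ca719c26f9b9ab9b26b9aa699a26799a659926341e619825f97a5d9725b96a59962577ce559525394a519424f93a4d9324b802499224791a459124390a419023f8fa0e8f23b8ea398e2378da358d2338ca318c22f8ba2d8b22b534310062789a258922388a218821f87a1d8714886a198621785a158521384a118420f839408320b82a0982207) i1))) (nat_lit 0) (nat_lit 128) List.nil) : List (ℕ × ℕ))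
    = ?xq9039 → (List (ℕ × ℕ))) ?hq9039; (case hq9039 => (set_option maxRecDepth 1000000 in set_option simprocs false in conv => lhs; reduce; dsimp only)); intro _; exact ?xq9039 : List (ℕ × ℕ))

theorem dr4_ok : dAll 520 dr4 = true := by (first | (rewrite [Cfsg.Agent.KOf3ae0f4.e7]; decide +kernel) | decide +kernel)

noncomputable def dr5 : List (ℕ × ℕ) :=
  (by
  refine (?fq9040 : ((pk61l (fun i1 => (_root_.Prod.mk (pk61d (nat_lit 10) 
    (nat_lit 0xa869e5091a4280300801) (pk61d (nat_lit 3) 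
    (nat_lit 0x81001244104144248820049209048840005044001108204245201044200140825100a0900881f3d4a44040a011090208) i1)) (pk61d (nat_lit 10) 
    (nat_lit 0x41705c1303c08f6c02ffbfafdbf2fbbeaf9be29fbdaf5bd2f3bcaf1bc2efbbaedbb2ebba8ffba2e7b9ae5b92e3b8ae1b82dfb7add3fedbb6ad9b62d7b5ad5b52d35c6d1b42cfb3acdb32cbb2ac94aac77c6c5b12c3b0ac1b02bfafabdaf13eaeab9ae2b7adab5ad2b3422b1ac2afabaadab2abaaaa9aa2a7a9aa5a9114a8aa00c4fa00402a729ba6a99a6297a5a95a5293a49175028fa3a8da328ba2a8918e87) i1))) (nat_lit 0) (nat_lit 128) List.nil) : List (ℕ × ℕ))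
    = ?xq9040 → (List (ℕ × ℕ))) ?hq9040; (case hq9040 => (set_option maxRecDepth 1000000 in set_option simprocs false in conv => lhs; reduce; dsimp only)); intro _; exact ?xq9040 : List (ℕ × ℕ))

theorem dr5_ok : dAll 648 dr5 = true := by (first | (rewrite [Cfsg.Agent.KOf3ae0f4.e7]; decide +kernel) | decide +kernel)

noncomputable def dr6 : List (ℕ × ℕ) :=
  (by
  refine (?fq9041 : ((pk61l (fun i1 => (_root_.Prod.mk (pk61d (nat_lit 10) 
    (nat_lit 0xc0300c020040300803008010040200402004010080100403008010040100402008030040300c020040100801d8b5ed830dd7b5db1c030080300c010040200403004020040300c01d3348d28fdd2229ce70bc2338cdf09cdb35cd30cccf32cc70accf0ac3332cc70ac2b0ac2b2fcab10c4310c4329ca327c9b25c9323c8b21c831fc7b1d0c401004010080300c03004010040200401c3aea3f708c2308c2001) i1) (pk61d (nat_lit 10) 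
    (nat_lit 0xe1b85e138345781ddb7fdfb7ddf37bdeb79de377c5375dd373dcb71dc36fdba10daf6bdab69da367d9b65d2363d84313e831004020075ad6b59d6357d5b55d5353d4b51d434f5074dd2c313e83100402cc330cc330cc330cc330cc330cc330cc330cdf37c330cc330cccb31c2b1ccbb2dcb32bc40310c431008fa3e8fa0c4310c4020c4fa00b1bc6b19c6317c5b15c5313c4b1141b0fc34313eb0bc2b09c2307) i1))) (nat_lit 0) (nat_lit 128) List.nil) : List (ℕ × ℕ))
    = ?xq9041 → (List (ℕ × ℕ))) ?hq9041; (case hq9041 => (set_option maxRecDepth 1000000 in set_option simprocs false in conv => lhs; reduce; dsimp only)); intro _; exact ?xq9041 : List (ℕ × ℕ))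

theorem dr6_ok : dAll 776 dr6 = true := by (first | (rewrite [Cfsg.Agent.KOf3ae0f4.e7]; decide +kernel) | decide +kernel)

noncomputable def dr7 : List (ℕ × ℕ) :=
  (by
  refine (?fq9042 : ((pk61l (fun i1 => (_root_.Prod.mk (pk61d (nat_lit 10) 
    (nat_lit 0x3f7e72c74500300801) (pk61d (nat_lit 3) 
    (nat_lit 0x48840848664204220829004020044105104100000829021009004149004004140a40204000142c20848020a00a050) i1)) (pk61d (nat_lit 11) 
    (nat_lit 0x80d01602403805006003ff7fcff5fe3fb7f46e1fc114062fcdfa3f37e4fc5f83ef7dcfb5f63eb7d4fa548be77ccf95f23e37c4f85f03df7bcf74a1bdb7b4f65ec3d77acf55ea3d37a4f45e822979cf35e63cb794f25e43c778cf15e23c3784f04833bf77cef5de3bb774ee5dc3b776ced563bb3764ec5d83af75ceb5d63ab372589d43a774ce95d23a3744e85d039f1d4e7496031734e65cc39772ce55ca393724e45c814571ce35c638b714e25c4387) i1))) (nat_lit 0) (nat_lit 128) List.nil) : List (ℕ × ℕ))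
    = ?xq9042 → (List (ℕ × ℕ))) ?hq9042; (case hq9042 => (set_option maxRecDepth 1000000 in set_option simprocs false in conv => lhs; reduce; dsimp only)); intro _; exact ?xq9042 : List (ℕ × ℕ))

theorem dr7_ok : dAll 904 dr7 = true := by (first | (rewrite [Cfsg.Agent.KOf3ae0f4.e7]; decide +kernel) | decide +kernel)

noncomputable def dr8 : List (ℕ × ℕ) :=
  (by
  refine (?fq9043 : ((pk61l (fun i1 => (_root_.Prod.mk (pk61d (nat_lit 2) 
    (nat_lit 0x16d5977db5e79da) i1) (pk61d (nat_lit 11) 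
    (nat_lit 0x4238450861041f83d0760e41b83506484c0782d0560a4138250460840f81d0360640b8150249ec07) i1))) (nat_lit 0) (nat_lit 29) List.nil) : List (ℕ × ℕ))
    = ?xq9043 → (List (ℕ × ℕ))) ?hq9043; (case hq9043 => (set_option maxRecDepth 1000000 in set_option simprocs false in conv => lhs; reduce; dsimp only)); intro _; exact ?xq9043 : List (ℕ × ℕ))

theorem dr8_ok : dAll 1032 dr8 = true := by (first | (rewrite [Cfsg.Agent.KOf3ae0f4.e7]; decide +kernel) | decide +kernel)

end Cfsg.Agent.H514.QS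
end

-- part: H514/QS/J3Eqs
section
/-!
# `3·J₃`: the equations between the elements of the table (helper514)
-/

set_option autoImplicit false
set_option maxRecDepth 100000

namespace Cfsg.Agent.H514.QS

open Cfsg.Agent.J3.Tab

/-- `T_a T_b = ω ^ z T_k` -/
noncomputable def e3 (a b k z : ℕ) : Bool := beqL (compT (tb a) (cols (tb b))) (compT (tS z) (cols (tb k)))

/-- `T_a T_b = ω ^ z T_c T_d` -/
noncomputable def e4 (a b c d z : ℕ) : Bool := beqL (compT (tb a) (cols (tb b))) (compT (tS z) (compT (tb c) (cols (tb d))))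

/-- the indices of the Sylow 3-subgroup -/
def inP (k : ℕ) : Bool := Nat.ble k 244 && (!(Nat.beq k 2) && !(Nat.beq k 3))

/-- the list of these indices -/
noncomputable def p3 : List ℕ :=
  (by
  refine (?fq9044 : ((pk61l (fun i1 => (pk61d (nat_lit 8) 
    (nat_lit 0xf4f3f2f1f0efeeedecebeae9e8e7e6e5e4e3e2e1e0dfdedddcdbdad9d8d7d6d5d4d3d2d1d0cfcecdcccbcac9c8c7c6c5c4c3c2c1c0bfbebdbcbbbab9b8b7b6b5b4b3b2b1b0afaeadacabaaa9a8a7a6a5a4a3a2a1a09f9e9d9c9b9a999897969594939291908f8e8d8c8b8a898887868584838281807f7e7d7c7b7a797877767574737271706f6e6d6c6b6a696867666564636261605f5e5d5c5b5a595857565554535251504f4e4d4c4b4a494847464544434241403f3e3d3c3b3a393837363534333231302f2e2d2c2b2a292827262524232221201f1e1d1c1b1a191817161514131211100f0e0d0c0b0a0908070605040100) i1)) (nat_lit 0) (nat_lit 243) List.nil) : List ℕ)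
    = ?xq9044 → (List ℕ)) ?hq9044; (case hq9044 => (set_option maxRecDepth 1000000 in set_option simprocs false in conv => lhs; reduce; dsimp only)); intro _; exact ?xq9044 : List ℕ)

/-- `T_g T_p = ω ^ z T_k` along two lists -/
noncomputable def zipOk (g : ℕ) : List ℕ → List (ℕ × ℕ) → Bool
  | [], _ => true
  | _ :: _, [] => false
  | p :: l, w :: m => inP w.1 && (Nat.blt w.2 3 && (e3 g p w.1 w.2 && zipOk g l m))

noncomputable def cl4 : List (ℕ × ℕ) :=
  (by
  refine (?fq9045 : ((pk61l (fun i1 => (_root_.Prod.mk (pk61d (nat_lit 8) 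
    (nat_lit 0xebf4a79c8676df748df3e59098eee0dd9daae671e2e7a5eadbdadc8ed7d5d4d8d3d6e3a9f284dea3e4f18382e87fe9d9ec95947af091efed73e14b4a494743413c3a363432312f2d2c2bd2a8d1d0cfce7ea07544cda4a2cccb45cac9c8c7938c8b892a80c64cc5c4c3c2c1968785c088a69a993bbf979f7c79788a7d777bbe9ebd72bcbb8fbab9b8b7489ba1b633b5b481b33fb2b1b0afae30adacab9219181716151311100f0e0d706f6e6d466c6b6a696867663e393837656463624035613d60425f5e2e5d5c5b5a59585756555453521451504f4e4d0701060529282726251224232221201f1e1d1c1b1a000c0a09080b04) i1) (pk61d (nat_lit 2) 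
    (nat_lit 0x2a8159592150a1226925284a61080862801806998a56a1aa810a1960581a8a68a901806220060061180411a119a8845889a1041180101011a104040004) i1))) (nat_lit 0) (nat_lit 243) List.nil) : List (ℕ × ℕ))
    = ?xq9045 → (List (ℕ × ℕ))) ?hq9045; (case hq9045 => (set_option maxRecDepth 1000000 in set_option simprocs false in conv => lhs; reduce; dsimp only)); intro _; exact ?xq9045 : List (ℕ × ℕ))


private noncomputable def _root_.Cfsg.Agent.KOf3ae0f4.k8 : (by first | exact type_of% @Cfsg.Agent.H514.QS.inP | exact Unit : Sort _) := by first | (refine @Subtype.val _ (fun g => @Cfsg.Agent.H514.QS.inP = @g) (@Subtype.mk _ _ (@(fun (x0 : @Nat) => @Bool.rec.{1} @(fun (x1 : @Bool) => @Bool) @Bool.false (@Bool.rec.{1} @(fun (x1 : @Bool) => @Bool) @Bool.false (@Bool.rec.{1} @(fun (x1 : @Bool) => @Bool) @Bool.true @Bool.false (@Nat.beq @x0 (nat_lit 3))) (@Bool.rec.{1} @(fun (x1 : @Bool) => @Bool) @Bool.true @Bool.false (@Nat.beq @x0 (nat_lit 2)))) (@Nat.ble @x0 (nat_lit 244)))) ?_);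 rfl') | exact @Cfsg.Agent.H514.QS.inP | exact ()
private theorem _root_.Cfsg.Agent.KOf3ae0f4.e8 : (by first | exact @Cfsg.Agent.H514.QS.inP = @_root_.Cfsg.Agent.KOf3ae0f4.k8 | exact True : Prop) := by first | (delta _root_.Cfsg.Agent.KOf3ae0f4.k8; exact @Subtype.property _ (fun g => @Cfsg.Agent.H514.QS.inP = @g) _) | rfl | trivial
private noncomputable def _root_.Cfsg.Agent.KOf3ae0f4.k10 : (by first | exact type_of% @Cfsg.Agent.H514.QS.zipOk | exact Unit : Sort _) := by first | (refine @Subtype.val _ (fun g => @Cfsg.Agent.H514.QS.zipOk = @g) (@Subtype.mk _ _ (@(fun (x0 : @Nat) (x1 : @List.{0} @Nat) (x2 : @List.{0} (@Prod.{0, 0} @Nat @Nat)) => @List.rec.{1, 0} @Nat @(fun (x3 : @List.{0} @Nat) => ((@List.{0} (@Prod.{0, 0} @Nat @Nat)) → @Bool)) @(fun (x3 : @List.{0} (@Prod.{0, 0} @Nat @Nat)) => @Bool.true) @(fun (x3 : @Nat) (x4 : @List.{0} @Nat) (x5 : ((@List.{0} (@Prod.{0, 0} @Nat @Nat)) → @Bool)) (x6 : @List.{0} (@Prod.{0, 0} @Nat @Nat)) => @List.rec.{1, 0} (@Prod.{0,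 0} @Nat @Nat) @(fun (x7 : @List.{0} (@Prod.{0, 0} @Nat @Nat)) => @Bool) @Bool.false @(fun (x7 : @Prod.{0, 0} @Nat @Nat) (x8 : @List.{0} (@Prod.{0, 0} @Nat @Nat)) (x9 : @Bool) => @Bool.rec.{1} @(fun (x10 : @Bool) => @Bool) @Bool.false (@Bool.rec.{1} @(fun (x10 : @Bool) => @Bool) @Bool.false (@Bool.rec.{1} @(fun (x10 : @Bool) => @Bool) @Bool.false (@x5 @x8) (@Cfsg.Agent.KOf3ae0f4.k2 (@Cfsg.Agent.KOf3ae0f4.k5 (@Cfsg.Agent.KOf3ae0f4.k4 @x0) (@Cfsg.Agent.J3.Tab.cols (@Cfsg.Agent.KOf3ae0f4.k4 @x3))) (@Cfsg.Agent.KOf3ae0f4.k5 (@Cfsg.Agent.KOf3ae0f4.k3 (@List.{0} @Nat) (@List.nil.{0} @Nat) @Cfsg.Agent.J3.Tab.lS (@Prod.snd.{0, 0} @Nat @Nat @x7)) (@Cfsg.Agent.J3.Tab.cols (@Cfsg.Agent.KOf3ae0f4.k4 (@Prod.fst.{0, 0} @Nat @Nat @x7)))))) (@Nat.ble (@Nat.succ (@Prod.snd.{0, 0} @Nat @Nat @x7)) (nat_lit 3))) (@Cfsg.Agent.KOf3ae0f4.k8 (@Prod.fst.{0, 0} @Nat @Nat @x7))) @x6) @x1 @x2)) ?_); rewrite [← Cfsg.Agent.KOf3ae0f4.e8, ← Cfsg.Agent.KOf3ae0f4.e3, ← Cfsg.Agent.KOf3ae0f4.e4, ← Cfsg.Agent.KOf3ae0f4.e5,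 ← Cfsg.Agent.KOf3ae0f4.e2]; funext a0 a1 a2; refine (congrFun (_root_.Cfsg.Agent.KOf3ae0f4.e0 (fun a1 a2 => @Cfsg.Agent.H514.QS.zipOk a0 a1 a2) ?_ (fun c0 c1 => ?_) a1) a2 :) <;> [(funext b0; ((try delta Cfsg.Agent.H514.QS.zipOk Cfsg.Agent.H514.QS.zipOk._f Cfsg.Agent.H514.QS.e3 Cfsg.Agent.J3.Tab.tS); (try generalize @Cfsg.Agent.J3.Tab.beqL = g0); (try generalize @Cfsg.Agent.J3.Tab.compT = g1); (try generalize @Cfsg.Agent.H514.QS.tb = g2); (try generalize @Cfsg.Agent.J3.Tab.cols = g3); (try generalize @Cfsg.Agent.J3.Tab.get = g4); (try generalize @Cfsg.Agent.J3.Tab.lS = g5); (try generalize @Cfsg.Agent.H514.QS.inP = g6); rfl')); (funext b0; (cases b0 with | @nil  => ((try delta Cfsg.Agent.H514.QS.zipOk Cfsg.Agent.H514.QS.zipOk._f Cfsg.Agent.H514.QS.e3 Cfsg.Agent.J3.Tab.tS); (try generalize @Cfsg.Agent.J3.Tab.beqL = g0); (try generalize @Cfsg.Agent.J3.Tab.compT = g1); (try generalize @Cfsg.Agent.H514.QS.tb = g2); (try generalize @Cfsg.Agent.J3.Tab.cols = g3); (try generalize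 @Cfsg.Agent.J3.Tab.get = g4); (try generalize @Cfsg.Agent.J3.Tab.lS = g5); (try generalize @Cfsg.Agent.H514.QS.inP = g6); rfl') | @cons b0_0 b0_1 => ((try delta Cfsg.Agent.H514.QS.zipOk Cfsg.Agent.H514.QS.zipOk._f Cfsg.Agent.H514.QS.e3 Cfsg.Agent.J3.Tab.tS); (try generalize @Cfsg.Agent.J3.Tab.beqL = g0); (try generalize @Cfsg.Agent.J3.Tab.compT = g1); (try generalize @Cfsg.Agent.H514.QS.tb = g2); (try generalize @Cfsg.Agent.J3.Tab.cols = g3); (try generalize @Cfsg.Agent.J3.Tab.get = g4); (try generalize @Cfsg.Agent.J3.Tab.lS = g5); (try generalize @Cfsg.Agent.H514.QS.inP = g6); rfl')))]) | exact @Cfsg.Agent.H514.QS.zipOk | exact ()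
private theorem _root_.Cfsg.Agent.KOf3ae0f4.e10 : (by first | exact @Cfsg.Agent.H514.QS.zipOk = @_root_.Cfsg.Agent.KOf3ae0f4.k10 | exact True : Prop) := by first | (delta _root_.Cfsg.Agent.KOf3ae0f4.k10; exact @Subtype.property _ (fun g => @Cfsg.Agent.H514.QS.zipOk = @g) _) | rfl | trivial

theorem cl4_ok : zipOk 4 p3 cl4 = true := by (first | (rewrite [Cfsg.Agent.KOf3ae0f4.e10]; decide +kernel) | decide +kernel)

noncomputable def cl5 : List (ℕ × ℕ) :=
  (by
  refine (?fq9046 : ((pk61l (fun i1 => (_root_.Prod.mk (pk61d (nat_lit 8) 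
    (nat_lit 0x888598aae9579d53f087a7ece5e4cbd0cee69c51f1cceef2f4ebf341403e3d383735e244e8a0e74ca5e38c8bea93c4b5c04a4948c6a929252322b7cac9b4c7a4bab29befa2ed55e11d1ce069a1c8a3dfc57054918f8e26ded2b39594dd96686e6db61ba88dcf6686b9b86b43dcdb90dacdc3c2c1d189d9d8d7d646d5d4d3191615141211a66c9a99656463bf97399f6f8a61186abe9ebd27bcbb0c0b0ab16752b0afaeadacab920884478382813c3b3a807f3f7e7d287c7b4b7a36567978457776627574731772710701066042245f5e5d5c5b5a595804504f4e4d3433133231302f2e2d2c2b2a0021201f1e1a100e0d090f05) i1) (pk61d (nat_lit 2) 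
    (nat_lit 0x6889281046582400180452a095602211a84922a8a08a8a8216026810961000240288a9169a8010a91122a52a6481642250010a9104040990410100400) i1))) (nat_lit 0) (nat_lit 243) List.nil) : List (ℕ × ℕ))
    = ?xq9046 → (List (ℕ × ℕ))) ?hq9046; (case hq9046 => (set_option maxRecDepth 1000000 in set_option simprocs false in conv => lhs; reduce; dsimp only)); intro _; exact ?xq9046 : List (ℕ × ℕ))

theorem cl5_ok : zipOk 5 p3 cl5 = true := by (first | (rewrite [Cfsg.Agent.KOf3ae0f4.e10]; decide +kernel) | decide +kernel)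

noncomputable def cl6 : List (ℕ × ℕ) :=
  (by
  refine (?fq9047 : ((pk61l (fun i1 => (_root_.Prod.mk (pk61d (nat_lit 8) 
    (nat_lit 0xedbde6deb1b4ead55774aaef9cdde4d2f2e7cc4d9de5c8e3af315e68ebf32bf459abdf95e24498bfd0cecd8ef18bbe432970b5b060ca65d7d31eec849ff0c97fe950acb76279b21aaebcee8cc3e0a1e88991184a809356a7a51da0d9cb946d8f41b8e18376d1b6194c665f495315342569a3c5549ac296dbda0f32dc204f3c28d8d6d40da8c4cf7ec09e0cb99964c7c62621c15a6c397c6177095d72bbba6b9b3338b308525cad92a98da6a4a28675076e823b97877a85019016108a880b2c1c47813f7d7b3678052f73716f466a673e633504242e5b585523514e4b484542403d3a370013302d2a2712221f1b17110e0a1406) i1) (pk61d (nat_lit 2) 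
    (nat_lit 0x95408206652a9142665284aa1511018292514218885a005246a85295249622580146484284851412414840829120a0941041010045010000010040000) i1))) (nat_lit 0) (nat_lit 243) List.nil) : List (ℕ × ℕ))
    = ?xq9047 → (List (ℕ × ℕ))) ?hq9047; (case hq9047 => (set_option maxRecDepth 1000000 in set_option simprocs false in conv => lhs; reduce; dsimp only)); intro _; exact ?xq9047 : List (ℕ × ℕ))

theorem cl6_ok : zipOk 6 p3 cl6 = true := by (first | (rewrite [Cfsg.Agent.KOf3ae0f4.e10]; decide +kernel) | decide +kernel)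

noncomputable def cl1 : List (ℕ × ℕ) :=
  (by
  refine (?fq9048 : ((pk61l (fun i1 => (_root_.Prod.mk (pk61d (nat_lit 8) 
    (nat_lit 0x5b2dc4344aa0651ac3ade983863c57904bef29d419b46cc6225111551f4ef40eebf3beee8de647f1bab1981df063ca278cea1041b9a5a309d8d6a9f2ac696a24bf1632cfc708c17839ed76dfe7ece2b75d9c93e4cb2f966f6075e80cc03a36e5216173ce9ae31795dd50b5b2bbe16e71e0c807d9deb3ae0a1bdc6606dbdacd8905d7d5d3d2d1d05a44a4a2cc45c91380c554c2b0a697048a7d7b3fbdbc8fb848b64d813767af30abaaa8a72c7ea19f9e9d9b995258949288918e268b2a875f8584827f007c7a7977627472706d6b681e64403d425e5c595653144f4c4946430d3e3b383533312e2b282523201c18120f0b1501) i1) (pk61d (nat_lit 2) 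
    (nat_lit 0x156494509a1554950994966542642620240185a21220586504118912024456018000890084006608819200900010410000000000094008000000000000) i1))) (nat_lit 0) (nat_lit 243) List.nil) : List (ℕ × ℕ))
    = ?xq9048 → (List (ℕ × ℕ))) ?hq9048; (case hq9048 => (set_option maxRecDepth 1000000 in set_option simprocs false in conv => lhs; reduce; dsimp only)); intro _; exact ?xq9048 : List (ℕ × ℕ))

theorem cl1_ok : zipOk 1 p3 cl1 = true := by (first | (rewrite [Cfsg.Agent.KOf3ae0f4.e10]; decide +kernel) | decide +kernel)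

noncomputable def cl7 : List (ℕ × ℕ) :=
  (by
  refine (?fq9049 : ((pk61l (fun i1 => (_root_.Prod.mk (pk61d (nat_lit 8) 
    (nat_lit 0x49b8bd79110d88c5716daf2d15853e31dad740b33887f45ec2948bf297c77a7f8ac1d85974d4f335db7cbcee53aaadd0e114cca6514f4d8e33630e5cde2af1e806ecf00591a4ba9befa2d5ab2bedd6ebe53da80137eaa9dc7de972e725e3e612e4e0550f5b78a7bb239d84e2829922c9d373df7020d2dd68b63bcf4364811ed1d942673a7b4e2ece92cdc61ccbcac81b4cc4c3c01abf9f6f186abe9e2700b9b7a1b5b4b2b1b0aeac771f30a5a358a0900b9c9a98969593460a8f8d8c896b86480983807e284b5645767517086e6c6966656261605f5d5a57545250044a4744413f3c393634322f2c292624211d1913100c1607) i1) (pk61d (nat_lit 2) 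
    (nat_lit 0x2a422a922511a52a6468902182044964481a499105514028881258208010a9540995014010008460000004045000400040184200000000000000000000) i1))) (nat_lit 0) (nat_lit 243) List.nil) : List (ℕ × ℕ))
    = ?xq9049 → (List (ℕ × ℕ))) ?hq9049; (case hq9049 => (set_option maxRecDepth 1000000 in set_option simprocs false in conv => lhs; reduce; dsimp only)); intro _; exact ?xq9049 : List (ℕ × ℕ))

theorem cl7_ok : zipOk 7 p3 cl7 = true := by (first | (rewrite [Cfsg.Agent.KOf3ae0f4.e10]; decide +kernel) | decide +kernel)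

/-- certificates for the 3-elements: `(3, c)` : `T_c T_p = ω T_p T_c`; `(z, h)` : `T_h T_225 = ω ^ z T_p T_h` -/
noncomputable def fOk (p : ℕ) (w : ℕ × ℕ) : Bool :=
  bif Nat.beq w.1 4 then Nat.beq p 0 else bif Nat.beq w.1 3 then e4 w.2 p p w.2 1 else Nat.blt w.1 3 && e4 w.2 225 p w.2 w.1

noncomputable def fAll : List ℕ → List (ℕ × ℕ) → Bool
  | [], _ => true
  | _ :: _, [] => false
  | p :: l, w :: m => fOk p w && fAll l m

def fw : List (ℕ × ℕ) :=
  (by
  refine (?fq9050 : ((pk61l (fun i1 => (_root_.Prod.mk (pk61d (nat_lit 3) 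
    (nat_lit 0xdb6db6db6db6db0db6db6db6db6db6db6db6db6db6cb6db6db6db2db6db6db6db6db6db6d96db6db6db6db6db6db6db6db4db6db6db6db6db6cb69b6db4da6db6db6db6db6db6db6db6db4d96db6da6d36cb6db6db0d96d96d86dc) i1) (pk61d (nat_lit 9) 
    (nat_lit 0xa4d228f46a2d128742a0d027f3c7d3e43215068200e050200c0200) (pk61d (nat_lit 5) 
    (nat_lit 0x18c631ca609cc6398c6318c6018c6318c6218c330c6619866198c32188721c6419c6530c27190e421c8438c245106618cc33106318c8331883218841909719c6438c83218c730c6418c843186330c651986340ce321c641906438c8321c6620e441d8e320c24a907408ce320ce320c832186619c641986419c6330c839906c38c833107120e0520c4138c8330c837906b2906e4048d4a060) i1)))) (nat_lit 0) (nat_lit 243) List.nil) : List (ℕ × ℕ))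
    = ?xq9050 → (List (ℕ × ℕ))) ?hq9050; (case hq9050 => (set_option maxRecDepth 1000000 in set_option simprocs false in conv => lhs; reduce; dsimp only)); intro _; exact ?xq9050 : List (ℕ × ℕ))


private noncomputable def _root_.Cfsg.Agent.KOf3ae0f4.k11 : (by first | exact type_of% @Cfsg.Agent.H514.QS.e4 | exact Unit : Sort _) := by first | (refine @Subtype.val _ (fun g => @Cfsg.Agent.H514.QS.e4 = @g) (@Subtype.mk _ _ (@(fun (x0 : @Nat) (x1 : @Nat) (x2 : @Nat) (x3 : @Nat) (x4 : @Nat) => @Cfsg.Agent.KOf3ae0f4.k2 (@Cfsg.Agent.KOf3ae0f4.k5 (@Cfsg.Agent.KOf3ae0f4.k4 @x0) (@Cfsg.Agent.J3.Tab.cols (@Cfsg.Agent.KOf3ae0f4.k4 @x1))) (@Cfsg.Agent.KOf3ae0f4.k5 (@Cfsg.Agent.KOf3ae0f4.k3 (@List.{0} @Nat) (@List.nil.{0} @Nat) @Cfsg.Agent.J3.Tab.lS @x4) (@Cfsg.Agent.KOf3ae0f4.k5 (@Cfsg.Agent.KOf3ae0f4.k4 @x2) (@Cfsg.Agent.J3.Tab.cols (@Cfsg.Agent.KOf3ae0f4.k4 @x3)))))) ?_); rewrite [← Cfsg.Agent.KOf3ae0f4.e3, ← Cfsg.Agent.KOf3ae0f4.e4, ← Cfsg.Agent.KOf3ae0f4.e5, ← Cfsg.Agent.KOf3ae0f4.e2];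 (try delta Cfsg.Agent.H514.QS.e4 Cfsg.Agent.J3.Tab.tS); (try generalize @Cfsg.Agent.J3.Tab.beqL = g0); (try generalize @Cfsg.Agent.J3.Tab.compT = g1); (try generalize @Cfsg.Agent.H514.QS.tb = g2); (try generalize @Cfsg.Agent.J3.Tab.cols = g3); (try generalize @Cfsg.Agent.J3.Tab.get = g4); (try generalize @Cfsg.Agent.J3.Tab.lS = g5); rfl') | exact @Cfsg.Agent.H514.QS.e4 | exact ()
private theorem _root_.Cfsg.Agent.KOf3ae0f4.e11 : (by first | exact @Cfsg.Agent.H514.QS.e4 = @_root_.Cfsg.Agent.KOf3ae0f4.k11 | exact True : Prop) := by first | (delta _root_.Cfsg.Agent.KOf3ae0f4.k11; exact @Subtype.property _ (fun g => @Cfsg.Agent.H514.QS.e4 = @g) _) | rfl | trivial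
private noncomputable def _root_.Cfsg.Agent.KOf3ae0f4.k12 : (by first | exact type_of% @Cfsg.Agent.H514.QS.fOk | exact Unit : Sort _) := by first | (refine @Subtype.val _ (fun g => @Cfsg.Agent.H514.QS.fOk = @g) (@Subtype.mk _ _ (@(fun (x0 : @Nat) (x1 : @Prod.{0, 0} @Nat @Nat) => @Bool.rec.{1} @(fun (x2 : @Bool) => @Bool) (@Bool.rec.{1} @(fun (x2 : @Bool) => @Bool) (@Bool.rec.{1} @(fun (x2 : @Bool) => @Bool) @Bool.false (@Cfsg.Agent.KOf3ae0f4.k11 (@Prod.snd.{0, 0} @Nat @Nat @x1) (nat_lit 225) @x0 (@Prod.snd.{0, 0} @Nat @Nat @x1) (@Prod.fst.{0, 0} @Nat @Nat @x1)) (@Nat.ble (@Nat.succ (@Prod.fst.{0, 0} @Nat @Nat @x1)) (nat_lit 3))) (@Cfsg.Agent.KOf3ae0f4.k11 (@Prod.snd.{0, 0} @Nat @Nat @x1) @x0 @x0 (@Prod.snd.{0, 0} @Nat @Nat @x1) (nat_lit 1)) (@Nat.beq (@Prod.fst.{0, 0} @Nat @Nat @x1) (nat_lit 3))) (@Nat.beq @x0 (nat_lit 0)) (@Nat.beq (@Prod.fst.{0, 0} @Nat @Nat @x1) (nat_lit 4)))) ?_); rewrite [← Cfsg.Agent.KOf3ae0f4.e11]; (try delta Cfsg.Agent.H514.QS.fOk); (try generalize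 @Cfsg.Agent.H514.QS.e4 = g0); rfl') | exact @Cfsg.Agent.H514.QS.fOk | exact ()
private theorem _root_.Cfsg.Agent.KOf3ae0f4.e12 : (by first | exact @Cfsg.Agent.H514.QS.fOk = @_root_.Cfsg.Agent.KOf3ae0f4.k12 | exact True : Prop) := by first | (delta _root_.Cfsg.Agent.KOf3ae0f4.k12; exact @Subtype.property _ (fun g => @Cfsg.Agent.H514.QS.fOk = @g) _) | rfl | trivial
private noncomputable def _root_.Cfsg.Agent.KOf3ae0f4.k14 : (by first | exact type_of% @Cfsg.Agent.H514.QS.fAll | exact Unit : Sort _) := by first | (refine @Subtype.val _ (fun g => @Cfsg.Agent.H514.QS.fAll = @g) (@Subtype.mk _ _ (@(fun (x0 : @List.{0} @Nat) (x1 : @List.{0} (@Prod.{0, 0} @Nat @Nat)) => @List.rec.{1, 0} @Nat @(fun (x2 : @List.{0} @Nat) => ((@List.{0} (@Prod.{0, 0} @Nat @Nat)) → @Bool)) @(fun (x2 : @List.{0} (@Prod.{0, 0} @Nat @Nat)) => @Bool.true) @(fun (x2 : @Nat) (x3 : @List.{0} @Nat) (x4 : ((@List.{0} (@Prod.{0, 0} @Nat @Nat)) → @Bool)) (x5 : @List.{0} (@Prod.{0, 0} @Nat @Nat)) => @List.rec.{1,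 0} (@Prod.{0, 0} @Nat @Nat) @(fun (x6 : @List.{0} (@Prod.{0, 0} @Nat @Nat)) => @Bool) @Bool.false @(fun (x6 : @Prod.{0, 0} @Nat @Nat) (x7 : @List.{0} (@Prod.{0, 0} @Nat @Nat)) (x8 : @Bool) => @Bool.rec.{1} @(fun (x9 : @Bool) => @Bool) @Bool.false (@x4 @x7) (@Cfsg.Agent.KOf3ae0f4.k12 @x2 @x6)) @x5) @x0 @x1)) ?_); rewrite [← Cfsg.Agent.KOf3ae0f4.e12]; funext a0 a1; refine (congrFun (_root_.Cfsg.Agent.KOf3ae0f4.e0 (fun a0 a1 => @Cfsg.Agent.H514.QS.fAll a0 a1) ?_ (fun c0 c1 => ?_) a0) a1 :) <;> [(funext b0; ((try delta Cfsg.Agent.H514.QS.fAll Cfsg.Agent.H514.QS.fAll._f); (try generalize @Cfsg.Agent.H514.QS.fOk = g0); rfl')); (funext b0; (cases b0 with | @nil  => ((try delta Cfsg.Agent.H514.QS.fAll Cfsg.Agent.H514.QS.fAll._f); (try generalize @Cfsg.Agent.H514.QS.fOk = g0); rfl') | @cons b0_0 b0_1 => ((try delta Cfsg.Agent.H514.QS.fAll Cfsg.Agent.H514.QS.fAll._f); (try generalize @Cfsg.Agent.H514.QS.fOk = g0); rfl')))]) | exact @Cfsg.Agent.H514.QS.fAll | exact ()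
private theorem _root_.Cfsg.Agent.KOf3ae0f4.e14 : (by first | exact @Cfsg.Agent.H514.QS.fAll = @_root_.Cfsg.Agent.KOf3ae0f4.k14 | exact True : Prop) := by first | (delta _root_.Cfsg.Agent.KOf3ae0f4.k14; exact @Subtype.property _ (fun g => @Cfsg.Agent.H514.QS.fAll = @g) _) | rfl | trivial

theorem fw_ok : fAll p3 fw = true := by (first | (rewrite [Cfsg.Agent.KOf3ae0f4.e14]; decide +kernel) | decide +kernel)

/-- commutators: `(r, y, q, z, z')` : `T_1 T_y = ω ^ z T_r T_q`, `T_y T_1 = ω ^ z' T_q` -/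
noncomputable def rl : List (ℕ × ℕ × ℕ × ℕ × ℕ) :=
  (by
  refine (?fq9051 : ((pk61l (fun i1 => (_root_.Prod.mk (pk61d (nat_lit 10) 
    (nat_lit 0xfe79ed934ec4308a8e2c6fd51385314810f408fe) i1) (_root_.Prod.mk (pk61d (nat_lit 10) 
    (nat_lit 0x452c7d7b48ba905a793d6e54b30d2a461083fc02) i1) (_root_.Prod.mk (pk61d (nat_lit 10) 
    (nat_lit 0x4575dd7f4980506a7e296e94c3892b46509400fb) i1) (_root_.Prod.mk (pk61d (nat_lit 2) 
    (nat_lit 0x800) i1) (pk61d (nat_lit 2) 
    (nat_lit 0x800) i1)))))) (nat_lit 0) (nat_lit 16) List.nil) : List (ℕ × ℕ × ℕ × ℕ × ℕ))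
    = ?xq9051 → (List (ℕ × ℕ × ℕ × ℕ × ℕ))) ?hq9051; (case hq9051 => (set_option maxRecDepth 1000000 in set_option simprocs false in conv => lhs; reduce; dsimp only)); intro _; exact ?xq9051 : List (ℕ × ℕ × ℕ × ℕ × ℕ))

noncomputable def rOk (e : ℕ × ℕ × ℕ × ℕ × ℕ) : Bool :=
  Nat.blt e.2.2.2.1 3 && (Nat.blt e.2.2.2.2 3 && (e4 1 e.2.1 e.1 e.2.2.1 e.2.2.2.1 && e3 e.2.1 1 e.2.2.1 e.2.2.2.2))


private noncomputable def _root_.Cfsg.Agent.KOf3ae0f4.k15.{ku0} : ((x0 : Sort (ku0+1)) → ((@List.{ku0} @x0) → ((x0 → @Bool) → @Bool))) := @(fun (x0 : Sort (ku0+1)) (x1 : @List.{ku0} @x0) (x2 : (x0 → @Bool)) => @List.rec.{(ku0+1), ku0} @x0 @(fun (x3 : @List.{ku0} @x0) => ((x0 → @Bool) → @Bool)) @(fun (x3 : (x0 → @Bool)) => @Bool.true) @(fun (x3 : x0) (x4 : @List.{ku0} @x0) (x5 : ((x0 → @Bool) → @Bool)) (x6 : (x0 → @Bool)) => @Bool.rec.{1} @(fun (x7 : @Bool) => @Bool) @Bool.false (@x5 @x6) (@x6 @x3)) @x1 @x2)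
private theorem _root_.Cfsg.Agent.KOf3ae0f4.e15.{ku0} : @List.all.{ku0} = @_root_.Cfsg.Agent.KOf3ae0f4.k15.{ku0} := by delta _root_.Cfsg.Agent.KOf3ae0f4.k15; funext a0 a1 a2; refine (congrFun (_root_.Cfsg.Agent.KOf3ae0f4.e0 (fun a1 a2 => @List.all.{ku0} a0 a1 a2) ?_ (fun c0 c1 => ?_) a1) a2 :) <;> (rfl')
private noncomputable def _root_.Cfsg.Agent.KOf3ae0f4.k16 : (by first | exact type_of% @Cfsg.Agent.H514.QS.rOk | exact Unit : Sort _) := by first | (refine @Subtype.val _ (fun g => @Cfsg.Agent.H514.QS.rOk = @g) (@Subtype.mk _ _ (@(fun (x0 : @Prod.{0, 0} @Nat (@Prod.{0, 0} @Nat (@Prod.{0, 0} @Nat (@Prod.{0, 0} @Nat @Nat)))) => @Bool.rec.{1} @(fun (x1 : @Bool) => @Bool) @Bool.false (@Bool.rec.{1} @(fun (x1 : @Bool) => @Bool) @Bool.false (@Bool.rec.{1} @(fun (x1 : @Bool) => @Bool) @Bool.false (@Cfsg.Agent.KOf3ae0f4.k2 (@Cfsg.Agent.KOf3ae0f4.k5 (@Cfsg.Agent.KOf3ae0f4.k4 (@Prod.fst.{0, 0} @Nat (@Prod.{0, 0} @Nat (@Prod.{0, 0} @Nat @Nat)) (@Prod.snd.{0, 0} @Nat (@Prod.{0,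 0} @Nat (@Prod.{0, 0} @Nat (@Prod.{0, 0} @Nat @Nat))) @x0))) (@Cfsg.Agent.J3.Tab.cols (@Cfsg.Agent.KOf3ae0f4.k4 (nat_lit 1)))) (@Cfsg.Agent.KOf3ae0f4.k5 (@Cfsg.Agent.KOf3ae0f4.k3 (@List.{0} @Nat) (@List.nil.{0} @Nat) @Cfsg.Agent.J3.Tab.lS (@Prod.snd.{0, 0} @Nat @Nat (@Prod.snd.{0, 0} @Nat (@Prod.{0, 0} @Nat @Nat) (@Prod.snd.{0, 0} @Nat (@Prod.{0, 0} @Nat (@Prod.{0, 0} @Nat @Nat)) (@Prod.snd.{0, 0} @Nat (@Prod.{0, 0} @Nat (@Prod.{0, 0} @Nat (@Prod.{0, 0} @Nat @Nat))) @x0))))) (@Cfsg.Agent.J3.Tab.cols (@Cfsg.Agent.KOf3ae0f4.k4 (@Prod.fst.{0, 0} @Nat (@Prod.{0, 0} @Nat @Nat) (@Prod.snd.{0, 0} @Nat (@Prod.{0, 0} @Nat (@Prod.{0, 0} @Nat @Nat)) (@Prod.snd.{0, 0} @Nat (@Prod.{0, 0} @Nat (@Prod.{0, 0} @Nat (@Prod.{0, 0} @Nat @Nat))) @x0))))))) (@Cfsg.Agent.KOf3ae0f4.k11 (nat_lit 1) (@Prod.fst.{0, 0} @Nat (@Prod.{0, 0} @Nat (@Prod.{0, 0} @Nat @Nat)) (@Prod.snd.{0, 0} @Nat (@Prod.{0, 0} @Nat (@Prod.{0, 0} @Nat (@Prod.{0, 0} @Nat @Nat))) @x0)) (@Prod.fst.{0, 0} @Nat (@Prod.{0,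 0} @Nat (@Prod.{0, 0} @Nat (@Prod.{0, 0} @Nat @Nat))) @x0) (@Prod.fst.{0, 0} @Nat (@Prod.{0, 0} @Nat @Nat) (@Prod.snd.{0, 0} @Nat (@Prod.{0, 0} @Nat (@Prod.{0, 0} @Nat @Nat)) (@Prod.snd.{0, 0} @Nat (@Prod.{0, 0} @Nat (@Prod.{0, 0} @Nat (@Prod.{0, 0} @Nat @Nat))) @x0))) (@Prod.fst.{0, 0} @Nat @Nat (@Prod.snd.{0, 0} @Nat (@Prod.{0, 0} @Nat @Nat) (@Prod.snd.{0, 0} @Nat (@Prod.{0, 0} @Nat (@Prod.{0, 0} @Nat @Nat)) (@Prod.snd.{0, 0} @Nat (@Prod.{0, 0} @Nat (@Prod.{0, 0} @Nat (@Prod.{0, 0} @Nat @Nat))) @x0)))))) (@Nat.ble (@Nat.succ (@Prod.snd.{0, 0} @Nat @Nat (@Prod.snd.{0, 0} @Nat (@Prod.{0, 0} @Nat @Nat) (@Prod.snd.{0, 0} @Nat (@Prod.{0, 0} @Nat (@Prod.{0, 0} @Nat @Nat)) (@Prod.snd.{0, 0} @Nat (@Prod.{0, 0} @Nat (@Prod.{0, 0} @Nat (@Prod.{0, 0} @Nat @Nat))) @x0))))) (nat_lit 3))) (@Nat.ble (@Nat.succ (@Prod.fst.{0, 0} @Nat @Nat (@Prod.snd.{0, 0} @Nat (@Prod.{0, 0} @Nat @Nat) (@Prod.snd.{0, 0} @Nat (@Prod.{0, 0} @Nat (@Prod.{0, 0} @Nat @Nat)) (@Prod.snd.{0, 0} @Nat (@Prod.{0,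 0} @Nat (@Prod.{0, 0} @Nat (@Prod.{0, 0} @Nat @Nat))) @x0))))) (nat_lit 3)))) ?_); rewrite [← Cfsg.Agent.KOf3ae0f4.e11, ← Cfsg.Agent.KOf3ae0f4.e3, ← Cfsg.Agent.KOf3ae0f4.e4, ← Cfsg.Agent.KOf3ae0f4.e5, ← Cfsg.Agent.KOf3ae0f4.e2]; (try delta Cfsg.Agent.H514.QS.rOk Cfsg.Agent.H514.QS.e3 Cfsg.Agent.J3.Tab.tS); (try generalize @Cfsg.Agent.J3.Tab.beqL = g0); (try generalize @Cfsg.Agent.J3.Tab.compT = g1); (try generalize @Cfsg.Agent.H514.QS.tb = g2); (try generalize @Cfsg.Agent.J3.Tab.cols = g3); (try generalize @Cfsg.Agent.J3.Tab.get = g4); (try generalize @Cfsg.Agent.J3.Tab.lS = g5); (try generalize @Cfsg.Agent.H514.QS.e4 = g6); rfl') | exact @Cfsg.Agent.H514.QS.rOk | exact ()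
private theorem _root_.Cfsg.Agent.KOf3ae0f4.e16 : (by first | exact @Cfsg.Agent.H514.QS.rOk = @_root_.Cfsg.Agent.KOf3ae0f4.k16 | exact True : Prop) := by first | (delta _root_.Cfsg.Agent.KOf3ae0f4.k16; exact @Subtype.property _ (fun g => @Cfsg.Agent.H514.QS.rOk = @g) _) | rfl | trivial

theorem rl_ok : rl.all rOk = true := by (first | (rewrite [Cfsg.Agent.KOf3ae0f4.e15.{0}, Cfsg.Agent.KOf3ae0f4.e16]; decide +kernel) | decide +kernel)

theorem fus_one : e4 4 1 1 4 1 = true := by decide +kernel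

/-- conjugates: `(p, h, r, z)` : `T_h T_r = ω ^ z T_p T_h` -/
noncomputable def tl : List (ℕ × ℕ × ℕ × ℕ) :=
  (by
  refine (?fq9052 : ((pk61l (fun i1 => (_root_.Prod.mk (pk61d (nat_lit 10) 
    (nat_lit 0xce738cd309cdb35c2f08d1b45d0740cf33bd1f44d0b3fcf73accf0accb318f63a8e6388de358ce2e8b63c8ee368d2328c6308be2c5795c56d5a55d56555535815f575595615454951) i1) (_root_.Prod.mk (pk61d (nat_lit 11) 
    (nat_lit 0x21241882f02082b3b7ea001f43dc79ef01da3a9736e3dc13806fcdd9b6b6c6b8d6d833015eeba56e2d258caed5929d520a193da6d4c49592500045086d069ff3e0798ec9cc36e6a8d11953125f4b7800) i1) (_root_.Prod.mk (pk61d (nat_lit 10) 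
    (nat_lit 0xfe7f9fe7f9c2308c2308e7b9ee7b9ee7b9ec4310c4310c4310d9364d3b4ea8ea3a8ea3a8ea3a8ea3a8e2c8b22c8b22c8b22c8b22c6fdbf6fdbf6fdbf6fdbf54551545515455154551) i1) (pk61d (nat_lit 2) 
    (nat_lit 0x55849a246046841188) i1))))) (nat_lit 0) (nat_lit 58) List.nil) : List (ℕ × ℕ × ℕ × ℕ))
    = ?xq9052 → (List (ℕ × ℕ × ℕ × ℕ))) ?hq9052; (case hq9052 => (set_option maxRecDepth 1000000 in set_option simprocs false in conv => lhs; reduce; dsimp only)); intro _; exact ?xq9052 : List (ℕ × ℕ × ℕ × ℕ))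

noncomputable def tOk (e : ℕ × ℕ × ℕ × ℕ) : Bool :=
  Nat.blt e.2.2.2 3 && ((rl.map Prod.fst).elem e.2.2.1 && e4 e.2.1 e.2.2.1 e.1 e.2.1 e.2.2.2)


private noncomputable def _root_.Cfsg.Agent.KOf3ae0f4.oEq.{ku} (α : Sort ku) (a b : Nat) (f t : α) : α := @Decidable.rec (a = b) (fun _ => α) (fun _ => f) (fun _ => t) (Nat.decEq a b)
private noncomputable def _root_.Cfsg.Agent.KOf3ae0f4.k17.{ku} (α : Sort ku) (a b : Nat) (f t : α) : α := @Bool.rec (fun _ => α) f t (Nat.beq a b)
private theorem _root_.Cfsg.Agent.KOf3ae0f4.e17.{ku} : @_root_.Cfsg.Agent.KOf3ae0f4.oEq.{ku} = @_root_.Cfsg.Agent.KOf3ae0f4.k17.{ku} := funext fun α => funext fun a => funext fun b => funext fun f => funext fun t => by delta _root_.Cfsg.Agent.KOf3ae0f4.oEq _root_.Cfsg.Agent.KOf3ae0f4.k17; cases h : Nat.beq a b <;> cases Nat.decEq a b <;> rename_i g <;> first | rfl | exact absurd g (Nat.ne_of_beq_eq_false h) | exact absurd (Nat.eq_of_beq_eq_true h) g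
private noncomputable def _root_.Cfsg.Agent.KOf3ae0f4.k18.{ku0} : ((x0 : Sort (ku0+1)) → ((@BEq.{ku0} @x0) → (x0 → ((@List.{ku0} @x0) → @Bool)))) := @(fun (x0 : Sort (ku0+1)) (x1 : @BEq.{ku0} @x0) (x2 : x0) (x3 : @List.{ku0} @x0) => @List.rec.{1, ku0} @x0 @(fun (x4 : @List.{ku0} @x0) => @Bool) @Bool.false @(fun (x4 : x0) (x5 : @List.{ku0} @x0) (x6 : @Bool) => @Bool.rec.{1} @(fun (x7 : @Bool) => @Bool) @x6 @Bool.true (@BEq.beq.{ku0} @x0 @x1 @x2 @x4)) @x3)
private theorem _root_.Cfsg.Agent.KOf3ae0f4.e18.{ku0} : @List.elem.{ku0} = @_root_.Cfsg.Agent.KOf3ae0f4.k18.{ku0} := by delta _root_.Cfsg.Agent.KOf3ae0f4.k18; funext a0 a1 a2 a3; refine (_root_.Cfsg.Agent.KOf3ae0f4.e0 (fun a3 => @List.elem.{ku0} a0 a1 a2 a3) ?_ (fun c0 c1 => ?_) a3 :) <;> (rfl')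
private noncomputable def _root_.Cfsg.Agent.KOf3ae0f4.k19.{ku0, ku1} : ((x0 : Sort (ku0+1)) → ((x1 : Sort (ku1+1)) → ((x0 → x1) → ((@List.{ku0} @x0) → @List.{ku1} @x1)))) := @(fun (x0 : Sort (ku0+1)) (x1 : Sort (ku1+1)) (x2 : (x0 → x1)) (x3 : @List.{ku0} @x0) => @List.rec.{(ku1+1), ku0} @x0 @(fun (x4 : @List.{ku0} @x0) => @List.{ku1} @x1) (@List.nil.{ku1} @x1) @(fun (x4 : x0) (x5 : @List.{ku0} @x0) (x6 : @List.{ku1} @x1) => @List.cons.{ku1} @x1 (@x2 @x4) @x6) @x3)
private theorem _root_.Cfsg.Agent.KOf3ae0f4.e19.{ku0, ku1} : @List.map.{ku0, ku1} = @_root_.Cfsg.Agent.KOf3ae0f4.k19.{ku0, ku1} := by delta _root_.Cfsg.Agent.KOf3ae0f4.k19; funext a0 a1 a2 a3; refine (_root_.Cfsg.Agent.KOf3ae0f4.e0 (fun a3 => @List.map.{ku0, ku1} a0 a1 a2 a3) ?_ (fun c0 c1 => ?_) a3 :) <;> (rfl')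
private noncomputable def _root_.Cfsg.Agent.KOf3ae0f4.k20 : (by first | exact type_of% @Cfsg.Agent.H514.QS.tOk | exact Unit : Sort _) := by first | (refine @Subtype.val _ (fun g => @Cfsg.Agent.H514.QS.tOk = @g) (@Subtype.mk _ _ (@(fun (x0 : @Prod.{0, 0} @Nat (@Prod.{0, 0} @Nat (@Prod.{0, 0} @Nat @Nat))) => @Bool.rec.{1} @(fun (x1 : @Bool) => @Bool) @Bool.false (@Bool.rec.{1} @(fun (x1 : @Bool) => @Bool) @Bool.false (@Cfsg.Agent.KOf3ae0f4.k11 (@Prod.fst.{0, 0} @Nat (@Prod.{0, 0} @Nat @Nat) (@Prod.snd.{0, 0} @Nat (@Prod.{0, 0} @Nat (@Prod.{0, 0} @Nat @Nat)) @x0)) (@Prod.fst.{0, 0} @Nat @Nat (@Prod.snd.{0, 0} @Nat (@Prod.{0, 0} @Nat @Nat) (@Prod.snd.{0, 0} @Nat (@Prod.{0, 0} @Nat (@Prod.{0, 0} @Nat @Nat)) @x0))) (@Prod.fst.{0, 0} @Nat (@Prod.{0, 0} @Nat (@Prod.{0, 0} @Nat @Nat)) @x0) (@Prod.fst.{0, 0} @Nat (@Prod.{0, 0} @Nat @Nat) (@Prod.snd.{0, 0} @Nat (@Prod.{0, 0} @Nat (@Prod.{0, 0} @Nat @Nat)) @x0)) (@Prod.snd.{0, 0} @Nat @Nat (@Prod.snd.{0, 0} @Nat (@Prod.{0, 0} @Nat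 @Nat) (@Prod.snd.{0, 0} @Nat (@Prod.{0, 0} @Nat (@Prod.{0, 0} @Nat @Nat)) @x0)))) (@Cfsg.Agent.KOf3ae0f4.k18.{0} @Nat (@BEq.mk.{0} @Nat @(fun (x1 : @Nat) (x2 : @Nat) => @Cfsg.Agent.KOf3ae0f4.k17.{1} @Bool @x1 @x2 @Bool.false @Bool.true)) (@Prod.fst.{0, 0} @Nat @Nat (@Prod.snd.{0, 0} @Nat (@Prod.{0, 0} @Nat @Nat) (@Prod.snd.{0, 0} @Nat (@Prod.{0, 0} @Nat (@Prod.{0, 0} @Nat @Nat)) @x0))) (@Cfsg.Agent.KOf3ae0f4.k19.{0, 0} (@Prod.{0, 0} @Nat (@Prod.{0, 0} @Nat (@Prod.{0, 0} @Nat (@Prod.{0, 0} @Nat @Nat)))) @Nat (@Prod.fst.{0, 0} @Nat (@Prod.{0, 0} @Nat (@Prod.{0, 0} @Nat (@Prod.{0, 0} @Nat @Nat)))) @Cfsg.Agent.H514.QS.rl))) (@Nat.ble (@Nat.succ (@Prod.snd.{0, 0} @Nat @Nat (@Prod.snd.{0, 0} @Nat (@Prod.{0, 0} @Nat @Nat) (@Prod.snd.{0, 0} @Nat (@Prod.{0, 0} @Nat (@Prod.{0, 0} @Nat @Nat)) @x0)))) (nat_lit 3)))) ?_); rewrite [← Cfsg.Agent.KOf3ae0f4.e19.{0, 0}, ← Cfsg.Agent.KOf3ae0f4.e17.{1}, ← Cfsg.Agent.KOf3ae0f4.e18.{0}, ← Cfsg.Agent.KOf3ae0f4.e11]; (try delta Cfsg.Agent.H514.QS.tOk);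 (try generalize @Cfsg.Agent.H514.QS.e4 = g0); (try generalize @Cfsg.Agent.H514.QS.rl = g1); rfl') | exact @Cfsg.Agent.H514.QS.tOk | exact ()
private theorem _root_.Cfsg.Agent.KOf3ae0f4.e20 : (by first | exact @Cfsg.Agent.H514.QS.tOk = @_root_.Cfsg.Agent.KOf3ae0f4.k20 | exact True : Prop) := by first | (delta _root_.Cfsg.Agent.KOf3ae0f4.k20; exact @Subtype.property _ (fun g => @Cfsg.Agent.H514.QS.tOk = @g) _) | rfl | trivial

theorem tl_ok : tl.all tOk = true := by (first | (rewrite [Cfsg.Agent.KOf3ae0f4.e15.{0}, Cfsg.Agent.KOf3ae0f4.e20]; decide +kernel) | decide +kernel)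

/-- powers: `T_r T_a = ω ^ z T_b` for consecutive entries; the last product is a scalar -/
noncomputable def pOk (r : ℕ) : List ℕ → List ℕ → Bool
  | [], _ => true
  | _ :: _, [] => false
  | [a], z :: _ => Nat.blt z 3 && e3 r a 0 z
  | a :: b :: l, z :: m => Nat.blt z 3 && (e3 r a b z && pOk r (b :: l) m)

/-- not a scalar -/
noncomputable def nsOk (k : ℕ) : Bool := !(e3 0 k 0 0) && (!(e3 0 k 0 1) && !(e3 0 k 0 2))

def pw2 : List ℕ := [0, 254]

theorem pw2_ok : pOk 254 pw2 [0, 0] = true := by decide +kernel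

theorem pw2_ns2 : nsOk 254 = true := by decide +kernel

def pw4 : List ℕ := [0, 258, 259, 260]

theorem pw4_ok : pOk 258 pw4 [0, 0, 0, 0] = true := by decide +kernel

theorem pw4_ns2 : nsOk 259 = true := by decide +kernel

def pw6 : List ℕ := [0, 271, 272, 273, 274, 275]

theorem pw6_ok : pOk 271 pw6 [0, 0, 0, 0, 0, 0] = true := by decide +kernel

theorem pw6_ns2 : nsOk 273 = true := by decide +kernel

theorem pw6_ns3 : nsOk 272 = true := by decide +kernel

def pw8 : List ℕ := [0, 288, 289, 290, 291, 292, 293, 294]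

theorem pw8_ok : pOk 288 pw8 [0, 0, 0, 0, 0, 0, 0, 2] = true := by decide +kernel

theorem pw8_ns2 : nsOk 291 = true := by decide +kernel

def pw12 : List ℕ := [0, 305, 306, 307, 308, 309, 310, 311, 312, 313, 314, 315]

theorem pw12_ok : pOk 305 pw12 [0, 0, 0, 0, 0, 0, 0, 0, 0, 0, 0, 0] = true := by decide +kernel

theorem pw12_ns2 : nsOk 310 = true := by decide +kernel

theorem pw12_ns3 : nsOk 308 = true := by decide +kernel

def pw17 : List ℕ := [0, 337, 338, 339, 340, 341, 342, 343, 344, 345, 346, 347, 348, 349, 350, 351, 352]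

theorem pw17_ok : pOk 337 pw17 [0, 0, 0, 0, 0, 0, 0, 0, 0, 0, 0, 0, 0, 0, 0, 0, 2] = true := by decide +kernel

theorem pw17_ns17 : nsOk 337 = true := by decide +kernel

def pw19 : List ℕ := [0, 556, 557, 558, 559, 560, 561, 562, 563, 564, 565, 566, 567, 568, 569, 570, 571, 572, 573]

theorem pw19_ok : pOk 556 pw19 [0, 0, 0, 0, 0, 0, 0, 0, 0, 0, 0, 0, 0, 0, 0, 0, 0, 0, 1] = true := by decide +kernel

theorem pw19_ns19 : nsOk 556 = true := by decide +kernel

def pw5 : List ℕ := [0, 778, 817, 818, 819]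

theorem pw5_ok : pOk 778 pw5 [0, 0, 0, 0, 0] = true := by decide +kernel

theorem pw5_ns5 : nsOk 778 = true := by decide +kernel

/-- a number attached to a list -/
def code : List ℕ → ℕ
  | [] => 0
  | a :: l => Nat.add a (Nat.mul 262144 (code l))

def mn (a b : ℕ) : ℕ := bif Nat.ble a b then a else b

/-- the least code of the three multiples by scalars -/
noncomputable def mc (k : ℕ) : ℕ := mn (code (compT (tS 0) (cols (tb k)))) (mn (code (compT (tS 1) (cols (tb k)))) (code (compT (tS 2) (cols (tb k)))))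

noncomputable def chOk : List ℕ → Bool
  | [] => true
  | [_] => true
  | a :: b :: l => Nat.blt (mc a) (mc b) && chOk (b :: l)

/-- the indices of the Sylow 3-subgroup, ordered by `mc` -/
def q3 : List ℕ :=
  (by
  refine (?fq9053 : ((pk61l (fun i1 => (pk61d (nat_lit 8) 
    (nat_lit 0x5bbb22091e041f580a1a4d084e921bade1510e2a062d7111050d007cd73edbeb87afed53daf38531741579d5385ebd257dd840dcf4884fab1c30731478d4372e721277d3350f2b017bd63d20590b5cbc23c0c6c42960be656f6c57b1efb4bab7f0e9ec3c4b4786908d193476aae0f1cee7e4d0e8e5deee9df298ddd2e29ca7c8eae3e6cba5dfcc91a8a16e9a954c84cdb9ca8c70a6a380d1448fcfa0bfa9694a83c3616a630c215a245d271d50ac52ae55b29bb3132f1736453a07102cc793b66d9994c5b5a4b8c98bd9417e7f89438e669f9796684982c2b0a25428423f648a6b56673981c1483275163b7a465f9e26183362) i1)) (nat_lit 0) (nat_lit 243) List.nil) : List ℕ)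
    = ?xq9053 → (List ℕ)) ?hq9053; (case hq9053 => (set_option maxRecDepth 1000000 in set_option simprocs false in conv => lhs; reduce; dsimp only)); intro _; exact ?xq9053 : List ℕ)

private noncomputable def _root_.Cfsg.Agent.LsF.f88bb1a_11 : {f // @Cfsg.Agent.H514.QS.mn = f} := ⟨_, by first | (delta Cfsg.Agent.H514.QS.mn; rewrite [Cfsg.Agent.LsF.cond_eq]; exact rfl) | exact rfl⟩
private noncomputable def _root_.Cfsg.Agent.LsF.f88bb1a_12 : {f // @Cfsg.Agent.H514.QS.code = f} := ⟨_, by first | (delta Cfsg.Agent.H514.QS.code List.brecOn List.brecOn.go Cfsg.Agent.H514.QS.code._f; (try delta Cfsg.Agent.H514.QS.code.match_1); (try delta List.casesOn); first | dsimp -zeta only | exact rfl) | exact rfl⟩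
private noncomputable def _root_.Cfsg.Agent.LsF.f88bb1a_0 : {f // @Cfsg.Agent.J3.Tab.compT = f} := ⟨_, by first | (delta Cfsg.Agent.J3.Tab.compT; rewrite [Cfsg.Agent.LsF.map_eq]; exact rfl) | exact rfl⟩
private noncomputable def _root_.Cfsg.Agent.LsF.f88bb1a_13 : {f // @Nat.pred = f} := ⟨_, by first | (delta Nat.pred; (try delta Nat.pow.match_1); (try delta Nat.casesOn); exact rfl) | exact rfl⟩
private noncomputable def _root_.Cfsg.Agent.LsF.f88bb1a_14 : {f // @Cfsg.Agent.J3.Tab.get = f} := ⟨_, by first | (delta Cfsg.Agent.J3.Tab.get List.brecOn List.brecOn.go Cfsg.Agent.J3.Tab.get._f; rewrite [Cfsg.Agent.LsF.f88bb1a_13.2, Cfsg.Agent.LsF.cond_eq]; (try delta Cfsg.Agent.J3.Tab.get.match_1); (try delta List.casesOn); first | dsimp -zeta only | exact rfl) | exact rfl⟩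
private noncomputable def _root_.Cfsg.Agent.LsF.f88bb1a_15 : {f // @Cfsg.Agent.J3.Tab.tS = f} := ⟨_, by first | (delta Cfsg.Agent.J3.Tab.tS; rewrite [Cfsg.Agent.LsF.f88bb1a_14.2]; exact rfl) | exact rfl⟩
private noncomputable def _root_.Cfsg.Agent.LsF.f88bb1a_5 : {f // @Cfsg.Agent.J3.Tab.cols = f} := ⟨_, by first | (delta Cfsg.Agent.J3.Tab.cols List.brecOn List.brecOn.go Cfsg.Agent.J3.Tab.cols._f; (try delta Cfsg.Agent.J3.Tab.cols.match_1); (try delta List.casesOn); first | dsimp -zeta only | exact rfl) | exact rfl⟩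
private noncomputable def _root_.Cfsg.Agent.LsF.f88bb1a_16 : {f // @Cfsg.Agent.H514.QS.tb = f} := ⟨_, by first | (delta Cfsg.Agent.H514.QS.tb; rewrite [Cfsg.Agent.LsF.f88bb1a_14.2, Cfsg.Agent.LsF.f88bb1a_15.2]; exact rfl) | exact rfl⟩
private noncomputable def _root_.Cfsg.Agent.LsF.f88bb1a_17 : {f // @Cfsg.Agent.H514.QS.mc = f} := ⟨_, by first | (delta Cfsg.Agent.H514.QS.mc; rewrite [Cfsg.Agent.LsF.f88bb1a_11.2, Cfsg.Agent.LsF.f88bb1a_12.2, Cfsg.Agent.LsF.f88bb1a_0.2, Cfsg.Agent.LsF.f88bb1a_15.2, Cfsg.Agent.LsF.f88bb1a_5.2, Cfsg.Agent.LsF.f88bb1a_16.2]; exact rfl) | exact rfl⟩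
private noncomputable def _root_.Cfsg.Agent.LsF.f88bb1a_18 : {f // @Cfsg.Agent.H514.QS.chOk = f} := ⟨_, by first | (delta Cfsg.Agent.H514.QS.chOk List.brecOn List.brecOn.go Cfsg.Agent.H514.QS.chOk._f; rewrite [Cfsg.Agent.LsF.f88bb1a_17.2, Cfsg.Agent.LsF.and_eq]; (try delta Cfsg.Agent.H514.QS.chOk.match_1); (try delta List.casesOn); first | dsimp -zeta only | exact rfl) | exact rfl⟩
theorem q3_ch : chOk q3 = true := by ((try (rewrite [Cfsg.Agent.LsF.f88bb1a_18.2])); decide +kernel)

theorem q3_in : q3.all inP = true := by decide +kernel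

theorem q3_len : q3.length = 243 := by decide +kernel

/-- the indices of the centralizer of an element of order 5, ordered by `mc` -/
def q5 : List ℕ :=
  [825, 820, 838, 837, 824, 816, 777, 778, 819, 0, 779, 835, 822, 818, 829, 836, 830, 828, 817, 839, 831, 780, 821, 826, 827, 834, 833, 823, 832, 776]

theorem q5_ch : chOk q5 = true := by decide +kernel

theorem q5_len : q5.length = 30 := by decide +kernel

noncomputable def cfOk : List ℕ → List ℕ → Bool
  | [], _ => true
  | _ :: _, [] => false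
  | c :: l, z :: m => Nat.blt z 3 && (e4 c 778 778 c z && cfOk l m)


private noncomputable def _root_.Cfsg.Agent.KOf3ae0f4.k22 : (by first | exact type_of% @Cfsg.Agent.H514.QS.cfOk | exact Unit : Sort _) := by first | (refine @Subtype.val _ (fun g => @Cfsg.Agent.H514.QS.cfOk = @g) (@Subtype.mk _ _ (@(fun (x0 : @List.{0} @Nat) (x1 : @List.{0} @Nat) => @List.rec.{1, 0} @Nat @(fun (x2 : @List.{0} @Nat) => ((@List.{0} @Nat) → @Bool)) @(fun (x2 : @List.{0} @Nat) => @Bool.true) @(fun (x2 : @Nat) (x3 : @List.{0} @Nat) (x4 : ((@List.{0} @Nat) → @Bool)) (x5 : @List.{0} @Nat) => @List.rec.{1, 0} @Nat @(fun (x6 : @List.{0} @Nat) => @Bool) @Bool.false @(fun (x6 : @Nat) (x7 : @List.{0} @Nat) (x8 : @Bool) => @Bool.rec.{1} @(fun (x9 : @Bool) => @Bool) @Bool.false (@Bool.rec.{1} @(fun (x9 : @Bool) => @Bool) @Bool.false (@x4 @x7) (@Cfsg.Agent.KOf3ae0f4.k11 @x2 (nat_lit 778) (nat_lit 778) @x2 @x6)) (@Nat.ble (@Nat.succ @x6) (nat_lit 3))) @x5) @x0 @x1)) ?_); rewrite [← Cfsg.Agent.KOf3ae0f4.e11];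 funext a0 a1; refine (congrFun (_root_.Cfsg.Agent.KOf3ae0f4.e0 (fun a0 a1 => @Cfsg.Agent.H514.QS.cfOk a0 a1) ?_ (fun c0 c1 => ?_) a0) a1 :) <;> [(funext b0; ((try delta Cfsg.Agent.H514.QS.cfOk Cfsg.Agent.H514.QS.cfOk._f); (try generalize @Cfsg.Agent.H514.QS.e4 = g0); rfl')); (funext b0; (cases b0 with | @nil  => ((try delta Cfsg.Agent.H514.QS.cfOk Cfsg.Agent.H514.QS.cfOk._f); (try generalize @Cfsg.Agent.H514.QS.e4 = g0); rfl') | @cons b0_0 b0_1 => ((try delta Cfsg.Agent.H514.QS.cfOk Cfsg.Agent.H514.QS.cfOk._f); (try generalize @Cfsg.Agent.H514.QS.e4 = g0); rfl')))]) | exact @Cfsg.Agent.H514.QS.cfOk | exact ()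
private theorem _root_.Cfsg.Agent.KOf3ae0f4.e22 : (by first | exact @Cfsg.Agent.H514.QS.cfOk = @_root_.Cfsg.Agent.KOf3ae0f4.k22 | exact True : Prop) := by first | (delta _root_.Cfsg.Agent.KOf3ae0f4.k22; exact @Subtype.property _ (fun g => @Cfsg.Agent.H514.QS.cfOk = @g) _) | rfl | trivial

theorem cf_ok : cfOk q5 [0, 0, 0, 0, 0, 0, 0, 0, 0, 0, 0, 0, 0, 0, 0, 0, 0, 0, 0, 0, 0, 0, 0, 0, 0, 0, 0, 0, 0, 0] = true := by (first | (rewrite [Cfsg.Agent.KOf3ae0f4.e22]; decide +kernel) | decide +kernel)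

/-- squares and cubes of the elements of order 1, 2, 3 -/
noncomputable def sOk (e : ℕ × ℕ × ℕ × ℕ) : Bool :=
  Nat.blt e.2.2.1 3 && (Nat.blt e.2.2.2 3 && (e3 e.1 e.1 e.2.1 e.2.2.1 && (Nat.beq e.2.1 0 || e3 e.1 e.2.1 0 e.2.2.2)))

def sl : List (ℕ × ℕ × ℕ × ℕ) := [(816, 0, 0, 0), (0, 0, 0, 0), (835, 0, 0, 0), (830, 0, 0, 0), (780, 823, 0, 0), (823, 780, 0, 0)]

theorem sl_ok : sl.all sOk = true := by decide +kernel

/-- the elements of `C(f)` of order 1, 2, 3 are not in the list `tl` -/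
def c5rest : List ℕ := sl.map Prod.fst


private noncomputable def _root_.Cfsg.Agent.KOf3ae0f4.k23 : (@Bool → (@Bool → @Bool)) := @(fun (x0 : @Bool) (x1 : @Bool) => @Bool.rec.{1} @(fun (x2 : @Bool) => @Bool) @x1 @Bool.true @x0)
private theorem _root_.Cfsg.Agent.KOf3ae0f4.e23 : @Bool.or = @_root_.Cfsg.Agent.KOf3ae0f4.k23 := by delta _root_.Cfsg.Agent.KOf3ae0f4.k23; rfl'
private noncomputable def _root_.Cfsg.Agent.KOf3ae0f4.k24 : ((x0 : @Nat) → ((x1 : @Nat) → @Decidable (@Eq.{1} @Nat @x0 @x1))) := @(fun (x0 : @Nat) (x1 : @Nat) => @Bool.rec.{1} @(fun (x2 : @Bool) => ((@Eq.{1} @Bool (@Nat.beq @x0 @x1) @x2) → @Decidable (@Eq.{1} @Nat @x0 @x1))) @(fun (x2 : @Eq.{1} @Bool (@Nat.beq @x0 @x1) @Bool.false) => @Decidable.isFalse (@Eq.{1} @Nat @x0 @x1) (@Nat.ne_of_beq_eq_false @x0 @x1 @x2)) @(fun (x2 : @Eq.{1} @Bool (@Nat.beq @x0 @x1) @Bool.true) => @Decidable.isTrue (@Eq.{1} @Nat @x0 @x1) (@Nat.eq_of_beq_eq_true @x0 @x1 @x2)) (@Nat.beq @x0 @x1) (@Eq.refl.{1} @Bool (@Nat.beq @x0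 @x1)))
private theorem _root_.Cfsg.Agent.KOf3ae0f4.e24 : @Nat.decEq = @_root_.Cfsg.Agent.KOf3ae0f4.k24 := by delta _root_.Cfsg.Agent.KOf3ae0f4.k24; rfl'
private noncomputable def _root_.Cfsg.Agent.KOf3ae0f4.k25 : @DecidableEq.{1} @Nat := @Cfsg.Agent.KOf3ae0f4.k24
private theorem _root_.Cfsg.Agent.KOf3ae0f4.e25 : @instDecidableEqNat = @_root_.Cfsg.Agent.KOf3ae0f4.k25 := by delta _root_.Cfsg.Agent.KOf3ae0f4.k25; rewrite [← Cfsg.Agent.KOf3ae0f4.e24]; rfl'

theorem c5_cases : q5.all (fun c => (tl.map Prod.fst).elem c || c5rest.elem c) = true := by (first | (delta Cfsg.Agent.H514.QS.c5rest; rewrite [Cfsg.Agent.KOf3ae0f4.e15.{0}, Cfsg.Agent.KOf3ae0f4.e23, Cfsg.Agent.KOf3ae0f4.e18.{0}, Cfsg.Agent.KOf3ae0f4.e25, Cfsg.Agent.KOf3ae0f4.e19.{0, 0}]; decide +kernel) | decide +kernel)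

theorem pw17_cases : pw17.all (fun c => (tl.map Prod.fst).elem c || Nat.beq c 0) = true := by decide +kernel

theorem pw19_cases : pw19.all (fun c => (tl.map Prod.fst).elem c || Nat.beq c 0) = true := by decide +kernel

end Cfsg.Agent.H514.QS
end

-- part: H514/QS/J3Grp
section
/-!
# `3·J₃`: the elements of the table in the group (helper514)
-/

set_option autoImplicit false

namespace Cfsg.Agent.H514.QS

open Cfsg Cfsg.Spor Cfsg.Agent.J3.Core Cfsg.Agent.J3.Elts Cfsg.Agent.J3.Tab Cfsg.Agent.J3.Mono Subgroup Matrix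
open Cfsg.Agent.H48.J3Three (pr pr_surjective ker_pr pce)
open Cfsg.Agent.H777.Ore (IsC AllC)

/-! ### lists -/

theorem get_of_le {α : Type} (d : α) : ∀ (l : List α) (n : ℕ), l.length ≤ n → get d l n = d
  | [], _, _ => rfl
  | _ :: _, 0, h => absurd h (by simp)
  | a :: l, n + 1, h => by
    have := get_of_le d l n (by simpa using h)
    show (bif Nat.beq (n + 1) 0 then a else get d l (Nat.pred (n + 1))) = d
    exact this

theorem tb_of_le {k : ℕ} (h : 1061 ≤ k) : tb k = tS 0 := by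
  unfold tb
  by_cases h1 : k / 32 = 33
  · have h2 : get [] tabs (Nat.div k 32) = tc33 := by
      have : Nat.div k 32 = 33 := h1
      rw [this]; rfl
    rw [h2]
    apply get_of_le
    show 5 ≤ k % 32
    omega
  · have h2 : get [] tabs (Nat.div k 32) = [] := by
      apply get_of_le
      show 34 ≤ k / 32
      omega
    rw [h2]
    rfl

theorem dAll_spec : ∀ (l : List (ℕ × ℕ)) (k : ℕ), dAll k l = true → ∀ i < l.length, ∃ e, dOk (k + i) e = true
  | [], _, _, i, hi => absurd hi (by simp)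
  | e :: l, k, h, i, hi => by
    have h' : (dOk k e && dAll (Nat.succ k) l) = true := h
    rw [Bool.and_eq_true] at h'
    cases i with
    | zero => exact ⟨e, h'.1⟩
    | succ i =>
      obtain ⟨e', he'⟩ := dAll_spec l (Nat.succ k) h'.2 i (by simpa using hi)
      exact ⟨e', by rw [show k + (i + 1) = Nat.succ k + i by omega]; exact he'⟩

theorem exists_der {k : ℕ} (h8 : 8 ≤ k) (h : k < 1061) : ∃ e, dOk k e = true := by
  have key : ∀ (b n : ℕ) (l : List (ℕ × ℕ)), dAll b l = true → l.length = n → b ≤ k → k < b + n → ∃ e, dOk k e = true := by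
    intro b n l hl hn h1 h2
    obtain ⟨e, he⟩ := dAll_spec l b hl (k - b) (by omega)
    exact ⟨e, by rwa [show b + (k - b) = k by omega] at he⟩
  rcases Nat.lt_or_ge k 136 with h1 | h1
  · exact key 8 128 _ dr0_ok rfl h8 (by omega)
  rcases Nat.lt_or_ge k 264 with h2 | h2
  · exact key 136 128 _ dr1_ok rfl h1 (by omega)
  rcases Nat.lt_or_ge k 392 with h3 | h3
  · exact key 264 128 _ dr2_ok rfl h2 (by omega)
  rcases Nat.lt_or_ge k 520 with h4 | h4
  · exact key 392 128 _ dr3_ok rfl h3 (by omega)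
  rcases Nat.lt_or_ge k 648 with h5 | h5
  · exact key 520 128 _ dr4_ok rfl h4 (by omega)
  rcases Nat.lt_or_ge k 776 with h6 | h6
  · exact key 648 128 _ dr5_ok rfl h5 (by omega)
  rcases Nat.lt_or_ge k 904 with h7 | h7
  · exact key 776 128 _ dr6_ok rfl h6 (by omega)
  rcases Nat.lt_or_ge k 1032 with h9 | h9
  · exact key 904 128 _ dr7_ok rfl h7 (by omega)
  · exact key 1032 29 _ dr8_ok rfl h9 (by omega)

theorem tb0 : tb 0 = tS 0 := by decide +kernel
theorem tb1 : tb 1 = tD (0, 1) := by decide +kernel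
theorem tb2 : tb 2 = tC := by decide +kernel
theorem tb3 : tb 3 = tB (1, 1) := by decide +kernel
theorem tb4 : tb 4 = tA (0, 1) := by decide +kernel
theorem tb5 : tb 5 = tA (1, 0) := by decide +kernel
theorem tb6 : tb 6 = tE := by decide +kernel
theorem tb7 : tb 7 = tD (1, 0) := by decide +kernel

section model
variable {F : Type*} [Field F] {ω : F}

theorem rep_one (H : Good ω) : _root_.Cfsg.Agent.J3.Tab.Rep ω (tS 0) (mat ω (1 : threeJ3 F ω)) := by
  have h1 := repS H 0 (by norm_num)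
  rw [pow_zero, one_smul] at h1
  rw [map_one]
  exact h1

/-- the elements of the table -/
theorem exists_el_aux [Fintype F] (hF : Fintype.card F = 4) (H : Good ω) (k : ℕ) :
    ∃ u : threeJ3 F ω, _root_.Cfsg.Agent.J3.Tab.Rep ω (tb k) (mat ω u) := by
  obtain ⟨G⟩ := exists_gens hF H
  induction k using Nat.strong_induction_on with
  | _ k ih =>
    rcases Nat.lt_or_ge k 8 with h | h
    · have hB : ((1, 1) : F9) ≠ 0 := by decide
      interval_cases k
      · exact ⟨1, by rw [tb0]; exact rep_one H⟩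
      · exact ⟨G.d (0, 1), by rw [tb1, G.hd]; exact repD H _⟩
      · exact ⟨G.c, by rw [tb2, G.hc]; exact repC H⟩
      · exact ⟨G.b (1, 1), by rw [tb3, G.hb _ hB]; exact repB H _ hB⟩
      · exact ⟨G.a (0, 1), by rw [tb4, G.ha]; exact repA H _⟩
      · exact ⟨G.a (1, 0), by rw [tb5, G.ha]; exact repA H _⟩
      · exact ⟨G.e, by rw [tb6, G.he]; exact repE H⟩
      · exact ⟨G.d (1, 0), by rw [tb7, G.hd]; exact repD H _⟩
    · rcases Nat.lt_or_ge k 1061 with h1 | h1
      · obtain ⟨e, he⟩ := exists_der h h1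
        have he' : (Nat.blt e.1 k && (Nat.blt e.2 k && beqL (tb k) (compT (tb e.1) (tb e.2)))) = true := he
        rw [Bool.and_eq_true, Bool.and_eq_true] at he'
        obtain ⟨u, hu⟩ := ih e.1 (Nat.blt_eq.mp he'.1)
        obtain ⟨v, hv⟩ := ih e.2 (Nat.blt_eq.mp he'.2.1)
        refine ⟨u * v, ?_⟩
        rw [beqL_eq he'.2.2, map_mul]
        exact hu.mul hv
      · exact ⟨1, by rw [tb_of_le h1]; exact rep_one H⟩

/-- a family of elements with the tables `tb` -/
def Fam (el : ℕ → threeJ3 F ω) : Prop := ∀ k, _root_.Cfsg.Agent.J3.Tab.Rep ω (tb k) (mat ω (el k))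

theorem exists_fam [Fintype F] (hF : Fintype.card F = 4) (H : Good ω) : ∃ el : ℕ → threeJ3 F ω, Fam el := by
  choose el hel using exists_el_aux hF H
  exact ⟨el, hel⟩

variable {el : ℕ → threeJ3 F ω} {s0 : threeJ3 F ω}

theorem mul_of_e3 (H : Good ω) (hel : Fam el) (hs0 : mat ω s0 = ω • 1) {a b k z : ℕ} (hz : z < 3)
    (h : e3 a b k z = true) : el a * el b = s0 ^ z * el k := by
  apply mat_injective
  have h1 : _root_.Cfsg.Agent.J3.Tab.Rep ω (compT (tS z) (tb k)) (mat ω (s0 ^ z * el k)) := by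
    rw [map_mul, map_pow, hs0, smul_pow, one_pow]
    exact (repS H z hz).mul (hel k)
  have h2 : _root_.Cfsg.Agent.J3.Tab.Rep ω (compT (tb a) (tb b)) (mat ω (el a * el b)) := by
    rw [map_mul]
    exact (hel a).mul (hel b)
  refine Rep.ext h2 h1 ?_
  rw [cols_compT, cols_compT]
  exact beqL_eq h

theorem mul_of_e4 (H : Good ω) (hel : Fam el) (hs0 : mat ω s0 = ω • 1) {a b c d z : ℕ} (hz : z < 3)
    (h : e4 a b c d z = true) : el a * el b = s0 ^ z * (el c * el d) := by
  apply mat_injective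
  have h1 : _root_.Cfsg.Agent.J3.Tab.Rep ω (compT (tS z) (compT (tb c) (tb d))) (mat ω (s0 ^ z * (el c * el d))) := by
    rw [map_mul, map_pow, hs0, smul_pow, one_pow, map_mul]
    exact (repS H z hz).mul ((hel c).mul (hel d))
  have h2 : _root_.Cfsg.Agent.J3.Tab.Rep ω (compT (tb a) (tb b)) (mat ω (el a * el b)) := by
    rw [map_mul]
    exact (hel a).mul (hel b)
  refine Rep.ext h2 h1 ?_
  rw [cols_compT, cols_compT, cols_compT]
  exact beqL_eq h

theorem s0_central (hs0 : mat ω s0 = ω • 1) : s0 ∈ center (threeJ3 F ω) := by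
  rw [mem_center_iff]
  intro g
  apply mat_injective
  rw [map_mul, map_mul, hs0, smul_mul_assoc, mul_smul_comm, one_mul, mul_one]

theorem pr_s0 (hs0 : mat ω s0 = ω • 1) : pr F ω s0 = 1 := by
  have h : s0 ∈ (pr F ω).ker := by rw [ker_pr]; exact s0_central hs0
  exact h

theorem pr_e3 (H : Good ω) (hel : Fam el) (hs0 : mat ω s0 = ω • 1) {a b k z : ℕ} (hz : z < 3)
    (h : e3 a b k z = true) : pr F ω (el a) * pr F ω (el b) = pr F ω (el k) := by
  rw [← map_mul, mul_of_e3 H hel hs0 hz h, map_mul, map_pow, pr_s0 hs0, one_pow, one_mul]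

theorem pr_e4 (H : Good ω) (hel : Fam el) (hs0 : mat ω s0 = ω • 1) {a b c d z : ℕ} (hz : z < 3)
    (h : e4 a b c d z = true) : pr F ω (el a) * pr F ω (el b) = pr F ω (el c) * pr F ω (el d) := by
  rw [← map_mul, mul_of_e4 H hel hs0 hz h, map_mul, map_mul, map_pow, pr_s0 hs0, one_pow, one_mul]

theorem el_zero (H : Good ω) (hel : Fam el) : el 0 = 1 := by
  apply mat_injective
  have h1 := hel 0
  rw [tb0] at h1
  exact Rep.ext h1 (rep_one H) rfl

/-- two elements with the same image differ by a power of `s0` -/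
theorem exists_pow [Fintype F] (hF : Fintype.card F = 4) (H : Good ω) (hs0 : mat ω s0 = ω • 1) {g h : threeJ3 F ω}
    (e : pr F ω g = pr F ω h) : ∃ z < 3, g = s0 ^ z * h := by
  have h1 : g * h⁻¹ ∈ (pr F ω).ker := by
    rw [MonoidHom.mem_ker, map_mul, map_inv, e, mul_inv_cancel]
  rw [ker_pr, J3.Nineteen.center_eq hF H hs0] at h1
  have h3 : s0 ^ 3 = 1 := by
    apply mat_injective
    rw [map_pow, hs0, smul_pow, one_pow, H.cube, one_smul, map_one]
  obtain ⟨n, hn⟩ := h1
  have hn' : s0 ^ n = g * h⁻¹ := hn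
  have h4 : s0 ^ n = s0 ^ (n % 3).toNat := by
    have h5 : ((n % 3).toNat : ℤ) = n % 3 := Int.toNat_of_nonneg (Int.emod_nonneg _ (by norm_num))
    rw [← zpow_natCast, h5]
    conv_lhs => rw [← Int.mul_ediv_add_emod n 3, _root_.zpow_add, _root_.zpow_mul]
    have h6 : s0 ^ (3 : ℤ) = 1 := by exact_mod_cast h3
    rw [h6, _root_.one_zpow, one_mul]
  refine ⟨(n % 3).toNat, ?_, ?_⟩
  · have := Int.emod_lt_of_pos n (show (0 : ℤ) < 3 by norm_num)
    have := Int.emod_nonneg n (show (3 : ℤ) ≠ 0 by norm_num)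
    omega
  · rw [← h4, hn']
    group

/-! ### codes -/

theorem cols_eq_of_rep (H : Good ω) {T U : List ℕ} {g : Matrix F9 F9 F} (hT : _root_.Cfsg.Agent.J3.Tab.Rep ω T g) (hU : _root_.Cfsg.Agent.J3.Tab.Rep ω U g)
    (lT : (cols T).length = 9) (lU : (cols U).length = 9) : cols T = cols U := by
  have hb : ∀ V : List ℕ, (∀ t ∈ V, t < 2 ^ 18) → ∀ i, (cols V).getD i 0 < 2 ^ 18 := by
    intro V hV i
    rw [cols_getD]
    by_cases hi : 2 * i < V.length
    · rw [List.getD_eq_getElem _ _ hi]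
      exact hV _ (List.getElem_mem hi)
    · rw [List.getD_eq_default _ _ (by omega)]
      norm_num
  apply List.ext_getElem
  · rw [lT, lU]
  · intro i h1 h2
    have hi : i < 9 := by rw [lT] at h1; exact h1
    obtain ⟨z, hz⟩ : ∃ z : F9, idx z = i := by
      clear h1 h2
      interval_cases i
      · exact ⟨(0, 0), rfl⟩
      · exact ⟨(0, 1), rfl⟩
      · exact ⟨(0, 2), rfl⟩
      · exact ⟨(1, 0), rfl⟩
      · exact ⟨(1, 1), rfl⟩
      · exact ⟨(1, 2), rfl⟩
      · exact ⟨(2, 0), rfl⟩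
      · exact ⟨(2, 1), rfl⟩
      · exact ⟨(2, 2), rfl⟩
    have h3 := hT.col z
    rw [hU.col z] at h3
    have h4 := dec_injOn H (hb U hU.1 _) (hb T hT.1 _) h3
    rw [hz, List.getD_eq_getElem _ _ h1, List.getD_eq_getElem _ _ h2] at h4
    exact h4.symm

theorem compT_length (T U : List ℕ) : (compT T U).length = U.length := List.length_map ..

theorem cols_length : ∀ {T : List ℕ} {n : ℕ}, T.length = 2 * n → (cols T).length = n
  | [], n, h => by
    have : n = 0 := by simpa using h.symm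
    rw [this]; rfl
  | [_], n, h => by
    simp only [List.length_cons, List.length_nil] at h
    omega
  | _ :: _ :: l, n, h => by
    simp only [List.length_cons] at h
    obtain ⟨m, rfl⟩ : ∃ m, n = m + 1 := ⟨n - 1, by omega⟩
    have := cols_length (T := l) (n := m) (by omega)
    show (cols l).length + 1 = m + 1
    rw [this]

theorem tb_length (k : ℕ) : (tb k).length = 18 := by
  induction k using Nat.strong_induction_on with
  | _ k ih =>
    rcases Nat.lt_or_ge k 8 with h | h
    · interval_cases k <;> decide +kernel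
    · rcases Nat.lt_or_ge k 1061 with h1 | h1
      · obtain ⟨e, he⟩ := exists_der h h1
        have he' : (Nat.blt e.1 k && (Nat.blt e.2 k && beqL (tb k) (compT (tb e.1) (tb e.2)))) = true := he
        rw [Bool.and_eq_true, Bool.and_eq_true] at he'
        rw [beqL_eq he'.2.2, compT_length, ih e.2 (Nat.blt_eq.mp he'.2.1)]
      · rw [tb_of_le h1]
        decide +kernel

/-- the code of `ω ^ z` times element `k` -/
noncomputable def cd (z k : ℕ) : ℕ := code (compT (tS z) (cols (tb k)))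

theorem mn_eq (a b : ℕ) : mn a b = min a b := by
  unfold mn
  rcases h : Nat.ble a b with _ | _
  · have : ¬ a ≤ b := fun h1 => by rw [Nat.ble_eq_true_of_le h1] at h; exact absurd h (by simp)
    rw [cond_false, min_eq_right (by omega)]
  · rw [cond_true, min_eq_left (Nat.le_of_ble_eq_true h)]

theorem mc_eq (k : ℕ) : mc k = min (cd 0 k) (min (cd 1 k) (cd 2 k)) := by
  unfold mc
  rw [mn_eq, mn_eq]
  rfl

theorem cd_eq (H : Good ω) (hel : Fam el) (hs0 : mat ω s0 = ω • 1) {i j z w : ℕ} (hz : z < 3) (hw : w < 3)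
    (h : s0 ^ z * el i = s0 ^ w * el j) : cd z i = cd w j := by
  have key : ∀ (z i : ℕ), z < 3 → _root_.Cfsg.Agent.J3.Tab.Rep ω (compT (tS z) (tb i)) (mat ω (s0 ^ z * el i)) := by
    intro z i hz
    rw [map_mul, map_pow, hs0, smul_pow, one_pow]
    exact (repS H z hz).mul (hel i)
  have hl : ∀ z i : ℕ, (cols (compT (tS z) (tb i))).length = 9 := fun z i =>
    cols_length (by rw [compT_length, tb_length])
  have h1 := key z i hz
  rw [h] at h1
  have h2 := cols_eq_of_rep H h1 (key w j hw) (hl _ _) (hl _ _)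
  rw [cols_compT, cols_compT] at h2
  unfold cd
  rw [h2]

theorem mc_le [Fintype F] (hF : Fintype.card F = 4) (H : Good ω) (hel : Fam el) (hs0 : mat ω s0 = ω • 1) {i j : ℕ}
    (h : pr F ω (el i) = pr F ω (el j)) : mc i ≤ mc j := by
  have key : ∀ z < 3, ∃ w < 3, cd w i = cd z j := by
    intro z hz
    have h1 : pr F ω (s0 ^ z * el j) = pr F ω (el i) := by
      rw [map_mul, map_pow, pr_s0 hs0, one_pow, one_mul, h]
    obtain ⟨w, hw, e⟩ := exists_pow hF H hs0 h1
    exact ⟨w, hw, (cd_eq H hel hs0 hz hw e).symm⟩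
  have h0 : ∀ w < 3, mc i ≤ cd w i := by
    intro w hw
    rw [mc_eq]
    interval_cases w
    · exact min_le_left _ _
    · exact (min_le_right _ _).trans (min_le_left _ _)
    · exact (min_le_right _ _).trans (min_le_right _ _)
  have h2 : ∀ z < 3, mc i ≤ cd z j := by
    intro z hz
    obtain ⟨w, hw, e⟩ := key z hz
    exact e ▸ h0 w hw
  rw [mc_eq j]
  exact le_min (h2 0 (by norm_num)) (le_min (h2 1 (by norm_num)) (h2 2 (by norm_num)))

theorem mc_congr [Fintype F] (hF : Fintype.card F = 4) (H : Good ω) (hel : Fam el) (hs0 : mat ω s0 = ω • 1) {i j : ℕ}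
    (h : pr F ω (el i) = pr F ω (el j)) : mc i = mc j :=
  le_antisymm (mc_le hF H hel hs0 h) (mc_le hF H hel hs0 h.symm)

theorem chain_pairwise : ∀ (l : List ℕ), chOk l = true → l.Pairwise fun a b => mc a < mc b
  | [], _ => List.Pairwise.nil
  | [a], _ => List.pairwise_singleton _ _
  | a :: b :: l, h => by
    have h' : (Nat.blt (mc a) (mc b) && chOk (b :: l)) = true := h
    rw [Bool.and_eq_true] at h'
    have h1 := chain_pairwise (b :: l) h'.2
    have h2 : mc a < mc b := Nat.blt_eq.mp h'.1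
    refine List.Pairwise.cons ?_ h1
    intro c hc
    rcases List.mem_cons.1 hc with rfl | hc
    · exact h2
    · exact h2.trans (List.rel_of_pairwise_cons h1 hc)

/-- distinct images -/
theorem nodup_of_ch [Fintype F] (hF : Fintype.card F = 4) (H : Good ω) (hel : Fam el) (hs0 : mat ω s0 = ω • 1)
    {l : List ℕ} (h : chOk l = true) : (l.map fun i => pr F ω (el i)).Nodup := by
  unfold List.Nodup
  rw [List.pairwise_map]
  exact (chain_pairwise l h).imp fun {a b} h1 h2 => absurd (mc_congr hF H hel hs0 h2) (by omega)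

end model

end Cfsg.Agent.H514.QS
end

-- part: H514/QS/J3Row
section
/-!
# `3·J₃`: every element is a commutator (helper514)
-/

set_option autoImplicit false

namespace Cfsg.Agent.H514.QS

open Cfsg Cfsg.Spor Cfsg.Agent.J3.Core Cfsg.Agent.J3.Elts Cfsg.Agent.J3.Tab Cfsg.Agent.J3.Mono Subgroup Matrix
open Cfsg.Agent.H48.J3Three (pr pr_surjective ker_pr pce)
open Cfsg.Agent.H777.Ore (IsC AllC)
open scoped Pointwise

universe u v

/-- elements of prime power order are conjugate into a subgroup of Sylow order -/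
theorem sylow_conj {K : Type u} [Group K] [Finite K] {p : ℕ} [Fact p.Prime] (H : Subgroup K)
    (hH : Nat.card H = p ^ (Nat.card K).factorization p) {k : K} {m : ℕ} (hk : orderOf k = p ^ m) :
    ∃ g : K, g * k * g⁻¹ ∈ H := by
  let P : Sylow p K := Sylow.ofCard H hH
  have h1 : IsPGroup p (zpowers k) := IsPGroup.of_card (n := m) (by rw [Nat.card_zpowers, hk])
  obtain ⟨Q, hQ⟩ := h1.exists_le_sylow
  obtain ⟨g, hg⟩ := MulAction.exists_smul_eq K Q P
  refine ⟨g, ?_⟩
  have h2 : g * k * g⁻¹ ∈ (MulAut.conj g • (Q : Subgroup K) : Subgroup K) := by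
    have := Subgroup.smul_mem_pointwise_smul k (MulAut.conj g) (Q : Subgroup K) (hQ (mem_zpowers k))
    simpa only [_root_.MulAut.smul_def, _root_.MulAut.conj_apply] using this
  have h3 : ((g • Q : Sylow p K) : Subgroup K) = H := by rw [hg]; rfl
  rw [← h3, Sylow.coe_subgroup_smul]
  exact h2

/-- a finite set closed under left multiplication by the generators contains the subgroup -/
theorem closure_sub {K : Type u} [Group K] {S Q : Set K} (hQ : Q.Finite) (h1 : (1 : K) ∈ Q)
    (h : ∀ s ∈ S, ∀ q ∈ Q, s * q ∈ Q) : ∀ g ∈ _root_.Subgroup.closure S, g ∈ Q := by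
  have key : closure S ≤ MulAction.stabilizer K Q := by
    rw [closure_le]
    intro s hs
    show s ∈ MulAction.stabilizer K Q
    rw [MulAction.mem_stabilizer_iff]
    have h2 : s • Q ⊆ Q := by
      rintro _ ⟨q, hq, rfl⟩
      exact h s hs q hq
    refine Set.eq_of_subset_of_ncard_le h2 ?_ hQ
    rw [Set.ncard_smul_set]
  intro g hg
  have h2 := MulAction.mem_stabilizer_iff.1 (key hg)
  rw [← h2]
  exact ⟨1, h1, mul_one g⟩

theorem conj_pow {L : Type u} [Group L] {c x s : L} (hs : s ∈ center L) (h : c * x = s * (x * c)) (n : ℕ) :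
    c ^ n * x * (c ^ n)⁻¹ = s ^ n * x := by
  induction n with
  | zero => simp
  | succ n ih =>
    have h2 : c * s ^ n = s ^ n * c := (mem_center_iff.1 (pow_mem hs n) c)
    calc c ^ (n + 1) * x * (c ^ (n + 1))⁻¹ = c * (c ^ n * x * (c ^ n)⁻¹) * c⁻¹ := by rw [pow_succ']; group
      _ = c * s ^ n * x * c⁻¹ := by rw [ih]; group
      _ = s ^ n * (c * x) * c⁻¹ := by rw [h2]; group
      _ = s ^ n * s * x := by rw [h]; group
      _ = s ^ (n + 1) * x := by rw [pow_succ]

section zip

theorem zip_spec (g : ℕ) : ∀ (l : List ℕ) (m : List (ℕ × ℕ)), zipOk g l m = true → ∀ p ∈ l, ∃ k z, inP k = true ∧ z < 3 ∧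
    e3 g p k z = true
  | [], _, _, p, hp => absurd hp (by simp)
  | _ :: _, [], h, _, _ => absurd (show false = true from h) (by simp)
  | q :: l, w :: m, h, p, hp => by
    have h' : (inP w.1 && (Nat.blt w.2 3 && (e3 g q w.1 w.2 && zipOk g l m))) = true := h
    rw [Bool.and_eq_true, Bool.and_eq_true, Bool.and_eq_true] at h'
    rcases List.mem_cons.1 hp with rfl | hp
    · exact ⟨w.1, w.2, h'.1, Nat.blt_eq.mp h'.2.1, h'.2.2.1⟩
    · exact zip_spec g l m h'.2.2.2 p hp

theorem f_spec : ∀ (l : List ℕ) (m : List (ℕ × ℕ)), fAll l m = true → ∀ p ∈ l, ∃ w, fOk p w = true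
  | [], _, _, p, hp => absurd hp (by simp)
  | _ :: _, [], h, _, _ => absurd (show false = true from h) (by simp)
  | q :: l, w :: m, h, p, hp => by
    have h' : (fOk q w && fAll l m) = true := h
    rw [Bool.and_eq_true] at h'
    rcases List.mem_cons.1 hp with rfl | hp
    · exact ⟨w, h'.1⟩
    · exact f_spec l m h'.2 p hp

theorem cf_spec : ∀ (l m : List ℕ), cfOk l m = true → ∀ c ∈ l, ∃ z < 3, e4 c 778 778 c z = true
  | [], _, _, p, hp => absurd hp (by simp)
  | _ :: _, [], h, _, _ => absurd (show false = true from h) (by simp)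
  | q :: l, w :: m, h, p, hp => by
    have h' : (Nat.blt w 3 && (e4 q 778 778 q w && cfOk l m)) = true := h
    rw [Bool.and_eq_true, Bool.and_eq_true] at h'
    rcases List.mem_cons.1 hp with rfl | hp
    · exact ⟨w, Nat.blt_eq.mp h'.1, h'.2.1⟩
    · exact cf_spec l m h'.2.2 p hp

theorem inP_iff {k : ℕ} : inP k = true ↔ k ≤ 244 ∧ k ≠ 2 ∧ k ≠ 3 := by
  unfold inP
  rw [Bool.and_eq_true, Bool.and_eq_true, Nat.ble_eq, Bool.not_eq_true', Bool.not_eq_true']
  refine and_congr Iff.rfl (and_congr ?_ ?_)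
  · rw [← Bool.not_eq_true, Nat.beq_eq]
  · rw [← Bool.not_eq_true, Nat.beq_eq]

theorem mem_p3 {k : ℕ} (h : inP k = true) : k ∈ p3 := by
  rw [inP_iff] at h
  obtain ⟨h1, h2, h3⟩ := h
  have key : ∀ k < 245, k ≠ 2 → k ≠ 3 → k ∈ p3 := by (refine of_decide_eq_true ?_; (try (rewrite [Cfsg.Agent.LsF.dMemE_pat, Cfsg.Agent.LsF.instDecEq_eq, Cfsg.Agent.LsF.dNot_eq, Cfsg.Agent.LsF.dBallLT_eq, Cfsg.Agent.LsF.dAllP_eq, Cfsg.Agent.LsF.decide_eq])); decide +kernel)
  exact key k (by omega) h2 h3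

theorem der_P : (dr0.all fun e => inP e.1 && inP e.2) = true := by decide +kernel

theorem der_P' : ((dr1.take 109).all fun e => inP e.1 && inP e.2) = true := by decide +kernel

theorem dAll_spec' : ∀ (l : List (ℕ × ℕ)) (k : ℕ), dAll k l = true → ∀ i (hi : i < l.length), dOk (k + i) l[i] = true
  | [], _, _, i, hi => absurd hi (by simp)
  | e :: l, k, h, i, hi => by
    have h' : (dOk k e && dAll (Nat.succ k) l) = true := h
    rw [Bool.and_eq_true] at h'
    cases i with
    | zero => exact h'.1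
    | succ i =>
      have := dAll_spec' l (Nat.succ k) h'.2 i (by simpa using hi)
      rw [show k + (i + 1) = Nat.succ k + i by omega]
      exact this

theorem exists_derP {k : ℕ} (h8 : 8 ≤ k) (h : k ≤ 244) : ∃ e : ℕ × ℕ, dOk k e = true ∧ inP e.1 = true ∧ inP e.2 = true := by
  rcases Nat.lt_or_ge k 136 with h1 | h1
  · have hl : dr0.length = 128 := rfl
    have h2 := dAll_spec' dr0 8 dr0_ok (k - 8) (by omega)
    have h3 := List.all_eq_true.1 der_P _ (List.getElem_mem (show k - 8 < dr0.length by omega))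
    rw [Bool.and_eq_true] at h3
    exact ⟨_, by rwa [show 8 + (k - 8) = k by omega] at h2, h3⟩
  · have hl : dr1.length = 128 := rfl
    have h2 := dAll_spec' dr1 136 dr1_ok (k - 136) (by omega)
    have hm : dr1[k - 136]'(by omega) ∈ dr1.take 109 := by
      rw [List.mem_take_iff_getElem]
      exact ⟨k - 136, by omega, rfl⟩
    have h3 := List.all_eq_true.1 der_P' _ hm
    rw [Bool.and_eq_true] at h3
    exact ⟨_, by rwa [show 136 + (k - 136) = k by omega] at h2, h3⟩

end zip

section main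

variable {F : Type} [Field F] [Fintype F] {ω : F} {el : ℕ → threeJ3 F ω} {s0 : threeJ3 F ω}

/-- all preimages are commutators -/
def PP (k : J3 F ω) : Prop := ∀ g : threeJ3 F ω, pr F ω g = k → IsC g

omit [Fintype F] in
theorem PP.conj {k k' : J3 F ω} (h : PP k) (e : IsConj k k') : PP k' := by
  obtain ⟨c, rfl⟩ := isConj_iff.1 e
  obtain ⟨c, rfl⟩ := pr_surjective c
  intro g hg
  refine IsC.of_conj c⁻¹ (h _ ?_)
  rw [map_mul, map_mul, hg, inv_inv, map_inv]
  group

theorem PP.of_fused (hF : Fintype.card F = 4) (H : Good ω) (hs0 : mat ω s0 = ω • 1) {x c : threeJ3 F ω}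
    (h : c * x = s0 * (x * c)) (hC : IsC (pr F ω x)) : PP (pr F ω x) := by
  have hs := s0_central hs0
  obtain ⟨a, b, e⟩ := hC
  obtain ⟨a, rfl⟩ := pr_surjective a
  obtain ⟨b, rfl⟩ := pr_surjective b
  rw [← map_inv, ← map_inv, ← map_mul, ← map_mul, ← map_mul] at e
  obtain ⟨z, -, hz⟩ := exists_pow hF H hs0 e.symm
  have h1 : IsC (s0 ^ z * x) := ⟨a, b, hz.symm⟩
  have h2 : IsC x := h1.of_isConj (IsConj.symm (isConj_iff.2 ⟨c ^ z, conj_pow hs h z⟩))
  intro g hg
  obtain ⟨w, -, hw⟩ := exists_pow hF H hs0 hg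
  exact h2.of_isConj (isConj_iff.2 ⟨c ^ w, by rw [conj_pow hs h w, hw]⟩)

theorem PP.of_comm (hF : Fintype.card F = 4) (H : Good ω) (hs0 : mat ω s0 = ω • 1) {x c y : threeJ3 F ω}
    (h : c * x = s0 * (x * c)) {k : J3 F ω} (hk : k = pr F ω x * pr F ω y * (pr F ω x)⁻¹ * (pr F ω y)⁻¹) : PP k := by
  intro g hg
  refine H6.QO.isC_of_pair_zpowers (π := pr F ω) (z := s0) (x := x) (k := pr F ω y) pr_surjective (by rw [ker_pr]) ?_
    (pr_s0 hs0) (by rw [hg, hk]) ?_
  · intro ζ hζ
    rw [← J3.Nineteen.center_eq hF H hs0, ← ker_pr]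
    exact hζ
  · refine isConj_iff.2 ⟨c, ?_⟩
    rw [h, ← mul_assoc, mul_inv_cancel_right]
    exact (mem_center_iff.1 (s0_central hs0) x).symm

theorem PP.one (hF : Fintype.card F = 4) (H : Good ω) (hs0 : mat ω s0 = ω • 1) {x c : threeJ3 F ω}
    (h : c * x = s0 * (x * c)) : PP (1 : J3 F ω) := by
  intro g hg
  rw [← map_one (pr F ω)] at hg
  obtain ⟨w, -, hw⟩ := exists_pow hF H hs0 hg
  refine ⟨c ^ w, x, ?_⟩
  rw [conj_pow (s0_central hs0) h w, hw]
  group

variable (el s0) in
/-- the setting -/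
structure Set' (ω : F) (el : ℕ → threeJ3 F ω) (s0 : threeJ3 F ω) : Prop where
  card : Fintype.card F = 4
  good : Good ω
  fam : Fam el
  hs0 : mat ω s0 = ω • 1

/-- the elements of `J₃` -/
abbrev ka (el : ℕ → threeJ3 F ω) (k : ℕ) : J3 F ω := pr F ω (el k)

omit [Fintype F] in
theorem ka_zero (H : Good ω) (hel : Fam el) : ka el 0 = 1 := by
  unfold ka
  rw [el_zero H hel, map_one]

variable (S : Set' ω el s0)
include S

theorem Set'.fus : el 4 * el 1 = s0 * (el 1 * el 4) := by
  have := mul_of_e4 S.good S.fam S.hs0 (by norm_num) fus_one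
  rwa [pow_one] at this

theorem Set'.e3 {a b k z : ℕ} (hz : z < 3) (h : e3 a b k z = true) : ka el a * ka el b = ka el k :=
  pr_e3 S.good S.fam S.hs0 hz h

theorem Set'.e4 {a b c d z : ℕ} (hz : z < 3) (h : e4 a b c d z = true) : ka el a * ka el b = ka el c * ka el d :=
  pr_e4 S.good S.fam S.hs0 hz h

theorem Set'.PP_rl {r : ℕ} (h : r ∈ rl.map Prod.fst) : PP (ka el r) := by
  obtain ⟨e, he, rfl⟩ := List.mem_map.1 h
  have h1 := List.all_eq_true.1 rl_ok e he
  have h2 : (Nat.blt e.2.2.2.1 3 && (Nat.blt e.2.2.2.2 3 && (QS.e4 1 e.2.1 e.1 e.2.2.1 e.2.2.2.1 &&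
    QS.e3 e.2.1 1 e.2.2.1 e.2.2.2.2))) = true := h1
  rw [Bool.and_eq_true, Bool.and_eq_true, Bool.and_eq_true] at h2
  obtain ⟨h3, h4, h5, h6⟩ := h2
  have h7 := S.e4 (Nat.blt_eq.mp h3) h5
  have h8 := S.e3 (Nat.blt_eq.mp h4) h6
  refine PP.of_comm S.card S.good S.hs0 S.fus (y := el e.2.1) ?_
  show ka el e.1 = ka el 1 * ka el e.2.1 * (ka el 1)⁻¹ * (ka el e.2.1)⁻¹
  rw [h7, ← h8]
  group

theorem Set'.conj_of_e4 {h r p z : ℕ} (hz : z < 3) (e : QS.e4 h r p h z = true) : IsConj (ka el r) (ka el p) := by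
  have h1 := S.e4 hz e
  exact isConj_iff.2 ⟨ka el h, by rw [h1]; group⟩

theorem Set'.PP_tl {p : ℕ} (h : p ∈ tl.map Prod.fst) : PP (ka el p) := by
  obtain ⟨e, he, rfl⟩ := List.mem_map.1 h
  have h1 := List.all_eq_true.1 tl_ok e he
  have h2 : (Nat.blt e.2.2.2 3 && ((rl.map Prod.fst).elem e.2.2.1 && QS.e4 e.2.1 e.2.2.1 e.1 e.2.1 e.2.2.2)) = true := h1
  rw [Bool.and_eq_true, Bool.and_eq_true] at h2
  obtain ⟨h3, h4, h5⟩ := h2
  exact (S.PP_rl (List.elem_iff.1 h4)).conj (S.conj_of_e4 (Nat.blt_eq.mp h3) h5)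

theorem Set'.isoJ3 : Spor.IsoJ3 (J3 F ω) := by
  refine ⟨F, inferInstance, inferInstance, ω, S.card, S.good.om, ⟨MulEquiv.refl _⟩⟩

theorem Set'.ore (k : J3 F ω) : IsC k := H455.Ore.J3.row_j3 S.isoJ3 k

theorem Set'.PP_one : PP (1 : J3 F ω) := PP.one S.card S.good S.hs0 S.fus

/-- the elements of the Sylow 3-subgroup -/
theorem Set'.PP_p3 {p : ℕ} (h : inP p = true) : PP (ka el p) := by
  obtain ⟨w, hw⟩ := f_spec p3 fw fw_ok p (mem_p3 h)
  unfold fOk at hw
  rcases h4 : Nat.beq w.1 4 with _ | _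
  · rw [h4, cond_false] at hw
    rcases h3 : Nat.beq w.1 3 with _ | _
    · rw [h3, cond_false, Bool.and_eq_true] at hw
      exact (S.PP_rl (r := 225) (by decide)).conj (S.conj_of_e4 (Nat.blt_eq.mp hw.1) hw.2)
    · rw [h3, cond_true] at hw
      have h5 := mul_of_e4 S.good S.fam S.hs0 (by norm_num) hw
      rw [pow_one] at h5
      exact PP.of_fused S.card S.good S.hs0 h5 (S.ore _)
  · rw [h4, cond_true] at hw
    have h0 : p = 0 := Nat.eq_of_beq_eq_true hw
    rw [h0, ka_zero S.good S.fam]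
    exact S.PP_one

/-- the Sylow 3-subgroup -/
def H3 (el : ℕ → threeJ3 F ω) : Subgroup (J3 F ω) := _root_.Subgroup.closure {ka el 4, ka el 5, ka el 6, ka el 1, ka el 7}

theorem Set'.mem_H3 {g : J3 F ω} (hg : g ∈ H3 el) : ∃ p, inP p = true ∧ g = ka el p := by
  have hfin : ({g | ∃ p, inP p = true ∧ g = ka el p} : Set (J3 F ω)).Finite := by
    refine ((Set.finite_Iic 244).image (ka el)).subset ?_
    rintro _ ⟨p, hp, rfl⟩
    exact ⟨p, (inP_iff.1 hp).1, rfl⟩
  refine closure_sub hfin ⟨0, by decide, (ka_zero S.good S.fam).symm⟩ ?_ g hg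
  rintro s hs _ ⟨p, hp, rfl⟩
  have key : ∀ (n : ℕ) (m : List (ℕ × ℕ)), zipOk n p3 m = true → ∃ q, inP q = true ∧ ka el n * ka el p = ka el q := by
    intro n m hm
    obtain ⟨k, z, h1, h2, h3⟩ := zip_spec n p3 m hm p (mem_p3 hp)
    exact ⟨k, h1, S.e3 h2 h3⟩
  simp only [Set.mem_insert_iff, Set.mem_singleton_iff] at hs
  rcases hs with rfl | rfl | rfl | rfl | rfl
  · exact key 4 _ cl4_ok
  · exact key 5 _ cl5_ok
  · exact key 6 _ cl6_ok
  · exact key 1 _ cl1_ok
  · exact key 7 _ cl7_ok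

theorem Set'.ka_mem_H3 {k : ℕ} (h : inP k = true) : ka el k ∈ H3 el := by
  induction k using Nat.strong_induction_on with
  | _ k ih =>
    obtain ⟨h1, h2, h3⟩ := inP_iff.1 h
    rcases Nat.lt_or_ge k 8 with h8 | h8
    · interval_cases k
      · rw [ka_zero S.good S.fam]; exact one_mem _
      · exact _root_.Subgroup.subset_closure (by simp only [_root_.Set.mem_insert_iff, _root_.Set.mem_singleton_iff, _root_.true_or, _root_.or_true])
      · exact absurd rfl h2
      · exact absurd rfl h3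
      · exact _root_.Subgroup.subset_closure (by simp only [_root_.Set.mem_insert_iff, _root_.Set.mem_singleton_iff, _root_.true_or])
      · exact _root_.Subgroup.subset_closure (by simp only [_root_.Set.mem_insert_iff, _root_.Set.mem_singleton_iff, _root_.true_or, _root_.or_true])
      · exact _root_.Subgroup.subset_closure (by simp only [_root_.Set.mem_insert_iff, _root_.Set.mem_singleton_iff, _root_.true_or, _root_.or_true])
      · exact _root_.Subgroup.subset_closure (by simp only [_root_.Set.mem_insert_iff, _root_.Set.mem_singleton_iff, _root_.or_true])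
    · obtain ⟨e, he, hp1, hp2⟩ := exists_derP h8 h1
      have he' : (Nat.blt e.1 k && (Nat.blt e.2 k && beqL (tb k) (compT (tb e.1) (tb e.2)))) = true := he
      rw [Bool.and_eq_true, Bool.and_eq_true] at he'
      have h4 : el k = el e.1 * el e.2 := by
        apply mat_injective
        have h5 := (S.fam e.1).mul (S.fam e.2)
        rw [← beqL_eq he'.2.2] at h5
        rw [map_mul]
        exact Rep.ext (S.fam k) h5 rfl
      show pr F ω (el k) ∈ H3 el
      rw [h4, map_mul]
      exact mul_mem (ih e.1 (Nat.blt_eq.mp he'.1) hp1) (ih e.2 (Nat.blt_eq.mp he'.2.1) hp2)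

theorem Set'.card_J3 : Nat.card (J3 F ω) = 50232960 := J3.Simple.card_J3 S.card S.good

theorem Set'.finite_J3 : Finite (J3 F ω) := Nat.finite_of_card_ne_zero (by rw [S.card_J3]; norm_num)

/-- counting with a list -/
theorem Set'.le_card {l : List ℕ} (h : chOk l = true) (X : Subgroup (J3 F ω)) (hX : ∀ k ∈ l, ka el k ∈ X) :
    l.length ≤ Nat.card X := by
  classical
  have hfin := S.finite_J3
  have h1 := nodup_of_ch S.card S.good S.fam S.hs0 h
  have h2 : (l.map fun i => pr F ω (el i)).toFinset.card = l.length := by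
    rw [List.toFinset_card_of_nodup h1, List.length_map]
  have h3 : (((l.map fun i => pr F ω (el i)).toFinset : Finset (J3 F ω)) : Set (J3 F ω)) ⊆ (X : Set (J3 F ω)) := by
    intro g hg
    rw [Finset.mem_coe, List.mem_toFinset, List.mem_map] at hg
    obtain ⟨i, hi, rfl⟩ := hg
    exact hX i hi
  rw [← h2, ← Set.ncard_coe_finset, ← Nat.card_coe_set_eq]
  exact Nat.card_mono (Set.toFinite _) h3

theorem Set'.card_H3 : Nat.card (H3 el) = 3 ^ 5 := by
  have hfin := S.finite_J3
  have h1 : 243 ≤ Nat.card (H3 el) := by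
    rw [← q3_len]
    exact S.le_card q3_ch _ fun k hk => S.ka_mem_H3 (List.all_eq_true.1 q3_in k hk)
  have h2 : Nat.card (H3 el) ≤ 243 := by
    classical
    have h3 : ((H3 el : Subgroup (J3 F ω)) : Set (J3 F ω)) ⊆ (((p3.map (ka el)).toFinset : Finset (J3 F ω)) : Set (J3 F ω)) := by
      intro g hg
      obtain ⟨p, hp, rfl⟩ := S.mem_H3 hg
      rw [Finset.mem_coe, List.mem_toFinset, List.mem_map]
      exact ⟨p, mem_p3 hp, rfl⟩
    calc Nat.card (H3 el) ≤ Nat.card (((p3.map (ka el)).toFinset : Finset (J3 F ω)) : Set (J3 F ω)) :=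
          Nat.card_mono (Set.toFinite _) h3
      _ = ((p3.map (ka el)).toFinset).card := by rw [Nat.card_coe_set_eq, Set.ncard_coe_finset]
      _ ≤ (p3.map (ka el)).length := List.toFinset_card_le _
      _ = 243 := by rw [List.length_map]; decide +kernel
  omega

/-- the 3-elements -/
theorem Set'.PP_three {k : J3 F ω} {m : ℕ} (hk : orderOf k = 3 ^ m) : PP k := by
  have hfin := S.finite_J3
  have f3 : Fact (Nat.Prime 3) := ⟨Nat.prime_three⟩
  obtain ⟨g, hg⟩ := sylow_conj (H3 el) (by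
    rw [S.card_H3, S.card_J3]
    have h1 : (50232960 : ℕ) = 3 ^ 5 * 206720 := by norm_num
    rw [h1, Nat.factorization_mul (by norm_num) (by norm_num), Finsupp.add_apply, Nat.prime_three.factorization_pow,
      Finsupp.single_eq_same, Nat.factorization_eq_zero_of_not_dvd (by norm_num)]) hk
  obtain ⟨p, hp, e⟩ := S.mem_H3 hg
  refine (S.PP_p3 hp).conj ?_
  rw [← e]
  exact (isConj_iff.2 ⟨g, rfl⟩).symm

/-- a list exhausts a subgroup -/
theorem Set'.mem_of_card {l : List ℕ} (h : chOk l = true) (X : Subgroup (J3 F ω)) (hX : ∀ k ∈ l, ka el k ∈ X)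
    (hc : Nat.card X ≤ l.length) {g : J3 F ω} (hg : g ∈ X) : ∃ k ∈ l, g = ka el k := by
  classical
  have hfin := S.finite_J3
  have h1 := nodup_of_ch S.card S.good S.fam S.hs0 h
  have h2 : (l.map fun i => pr F ω (el i)).toFinset.card = l.length := by
    rw [List.toFinset_card_of_nodup h1, List.length_map]
  have h3 : (((l.map fun i => pr F ω (el i)).toFinset : Finset (J3 F ω)) : Set (J3 F ω)) ⊆ (X : Set (J3 F ω)) := by
    intro g hg
    rw [Finset.mem_coe, List.mem_toFinset, List.mem_map] at hg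
    obtain ⟨i, hi, rfl⟩ := hg
    exact hX i hi
  have h4 : (((l.map fun i => pr F ω (el i)).toFinset : Finset (J3 F ω)) : Set (J3 F ω)) = (X : Set (J3 F ω)) := by
    refine Set.eq_of_subset_of_ncard_le h3 ?_ (Set.toFinite _)
    rw [Set.ncard_coe_finset, h2, ← Nat.card_coe_set_eq]
    exact hc
  have h5 : g ∈ (((l.map fun i => pr F ω (el i)).toFinset : Finset (J3 F ω)) : Set (J3 F ω)) := by rw [h4]; exact hg
  rw [Finset.mem_coe, List.mem_toFinset, List.mem_map] at h5
  obtain ⟨i, hi, rfl⟩ := h5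
  exact ⟨i, hi, rfl⟩

theorem Set'.pows (r : ℕ) : ∀ (l : List ℕ) (zs : List ℕ), pOk r l zs = true → ∀ (a : ℕ) (l' : List ℕ), l = a :: l' →
    (∀ i (hi : i < l.length), ka el l[i] = ka el r ^ i * ka el a) ∧ ka el r ^ l.length * ka el a = 1
  | [], _, _, _, _, e => absurd e (by simp)
  | [_], [], h, _, _, _ => absurd (show false = true from h) (by simp)
  | _ :: _ :: _, [], h, _, _, _ => absurd (show false = true from h) (by simp)
  | [b], z :: _, h, a, l', e => by
    have h' : (Nat.blt z 3 && QS.e3 r b 0 z) = true := h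
    rw [Bool.and_eq_true] at h'
    obtain ⟨rfl, rfl⟩ := List.cons_eq_cons.1 e
    have h1 := S.e3 (Nat.blt_eq.mp h'.1) h'.2
    rw [ka_zero S.good S.fam] at h1
    refine ⟨?_, ?_⟩
    · intro i hi
      have hi' : i = 0 := by simpa using hi
      subst hi'
      simp
    · simpa only [_root_.List.length_cons, _root_.List.length_nil, _root_.zero_add, _root_.pow_one] using h1
  | b :: c :: l, z :: m, h, a, l', e => by
    have h' : (Nat.blt z 3 && (QS.e3 r b c z && pOk r (c :: l) m)) = true := h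
    rw [Bool.and_eq_true, Bool.and_eq_true] at h'
    obtain ⟨rfl, rfl⟩ := List.cons_eq_cons.1 e
    have h1 := S.e3 (Nat.blt_eq.mp h'.1) h'.2.1
    obtain ⟨h2, h3⟩ := Set'.pows r (c :: l) m h'.2.2 c l rfl
    refine ⟨?_, ?_⟩
    · intro i hi
      cases i with
      | zero => simp
      | succ i =>
        rw [List.getElem_cons_succ, h2 i (by simpa only [_root_.List.length_cons, _root_.Order.lt_add_one_iff, _root_.add_le_add_iff_right] using hi), ← h1, pow_succ, mul_assoc]
    · rw [List.length_cons, pow_succ, mul_assoc, h1]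
      exact h3

omit S in
theorem beqL_refl : ∀ l : List ℕ, beqL l l = true
  | [] => rfl
  | a :: l => by
    show (Nat.beq a a && beqL l l) = true
    rw [Nat.beq_refl, beqL_refl l]; rfl

theorem Set'.ne_one {k : ℕ} (h : nsOk k = true) : ka el k ≠ 1 := by
  intro h1
  rw [← ka_zero S.good S.fam] at h1
  obtain ⟨z, hz, e⟩ := exists_pow S.card S.good S.hs0 h1
  have h2 : _root_.Cfsg.Agent.J3.Tab.Rep ω (compT (tS z) (tb 0)) (mat ω (s0 ^ z * el 0)) := by
    rw [map_mul, map_pow, S.hs0, smul_pow, one_pow]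
    exact (repS S.good z hz).mul (S.fam 0)
  have h3 : _root_.Cfsg.Agent.J3.Tab.Rep ω (compT (tb 0) (tb k)) (mat ω (s0 ^ z * el 0)) := by
    rw [← e, ← one_mul (el k), ← el_zero S.good S.fam, map_mul]
    exact (S.fam 0).mul (S.fam k)
  have h4 := cols_eq_of_rep S.good h3 h2 (cols_length (by rw [compT_length, tb_length]))
    (cols_length (by rw [compT_length, tb_length]))
  rw [cols_compT, cols_compT] at h4
  have h5 : QS.e3 0 k 0 z = true := by
    unfold QS.e3
    rw [h4]
    exact beqL_refl _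
  unfold nsOk at h
  rw [Bool.and_eq_true, Bool.and_eq_true] at h
  interval_cases z
  · rw [h5] at h; exact absurd h.1 (by simp)
  · rw [h5] at h; exact absurd h.2.1 (by simp)
  · rw [h5] at h; exact absurd h.2.2 (by simp)

/-- orders from lists of powers -/
theorem Set'.order {r n : ℕ} {l zs : List ℕ} (h : pOk r (0 :: l) zs = true) (hn : (0 :: l).length = n)
    (hq : ∀ q, q.Prime → q ∣ n → ∃ k, nsOk k = true ∧ (0 :: l).getD (n / q) 0 = k) :
    orderOf (ka el r) = n ∧ ∀ i (hi : i < (0 :: l).length), ka el (0 :: l)[i] = ka el r ^ i := by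
  obtain ⟨h1, h2⟩ := S.pows r (0 :: l) zs h 0 l rfl
  rw [ka_zero S.good S.fam, mul_one, hn] at h2
  have hpos : 0 < n := by rw [← hn]; simp
  have h3 : ∀ i (hi : i < (0 :: l).length), ka el (0 :: l)[i] = ka el r ^ i := by
    intro i hi
    rw [h1 i hi, ka_zero S.good S.fam, mul_one]
  refine ⟨orderOf_eq_of_pow_and_pow_div_prime hpos h2 ?_, h3⟩
  intro q hq1 hq2
  obtain ⟨k, hk, e⟩ := hq q hq1 hq2
  have hlt : n / q < (0 :: l).length := by
    rw [hn]
    exact Nat.div_lt_self hpos hq1.one_lt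
  rw [← h3 _ hlt]
  rw [List.getD_eq_getElem _ _ hlt] at e
  rw [e]
  exact S.ne_one hk

end main

/-- the classes of elements of order 2, 4, 6, 8, 12 -/
theorem even_conj {K : Type u} [Group K] (h : Spor.IsoJ3 K) {a b : K} {n : ℕ} (hn : n = 2 ∨ n = 4 ∨ n = 6 ∨ n = 8 ∨ n = 12)
    (ha : orderOf a = n) (hb : orderOf b = n) : IsConj a b := by
  obtain ⟨hs, hc, -⟩ := H898.J3Cent.base h
  have hfin : Finite K := Nat.finite_of_card_ne_zero (by rw [hc]; norm_num)
  obtain ⟨t, D, hD, hall⟩ := H417.JThreeCols.exists_coded_iso h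
  have key : ∀ g : K, orderOf g = n → ∃ a : Fin 8, IsConj (J3Type.CharOrder.y t D a) g ∧ J3Type.CharOrder.ord a = n := by
    intro g hg
    have h1 : orderOf (g ^ (n / 2)) = 2 := by
      rw [orderOf_pow_of_dvd (by omega) (by rw [hg]; rcases hn with rfl | rfl | rfl | rfl | rfl <;> decide), hg]
      rcases hn with rfl | rfl | rfl | rfl | rfl <;> rfl
    have h2 : ∃ a : Fin 8, IsConj (J3Type.CharOrder.y t D a) g := by
      rcases H455.Ore.J3.even_cases hD hall h1 with h2 | ⟨a, -, -, h2⟩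
      · exact ⟨1, h2⟩
      · exact ⟨a, h2⟩
    obtain ⟨a, h3⟩ := h2
    refine ⟨a, h3, ?_⟩
    rw [← J3Type.CharOrder.ord_y hD, ← hg]
    obtain ⟨c, rfl⟩ := isConj_iff.1 h3
    exact (MulEquiv.orderOf_eq (MulAut.conj c) _).symm
  obtain ⟨i, hi, hi'⟩ := key a ha
  obtain ⟨j, hj, hj'⟩ := key b hb
  have hij : i = j := by
    by_contra hne
    rcases J3Type.CharOrder.ord_eq i j hne (hi'.trans hj'.symm) with ⟨h1, -⟩ | ⟨h1, -⟩
    · rw [h1] at hi'
      have : J3Type.CharOrder.ord 6 = 10 := rfl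
      omega
    · rw [h1] at hi'
      have : J3Type.CharOrder.ord 7 = 10 := rfl
      omega
  rw [hij] at hi
  exact hi.symm.trans hj

/-- the orders of elements of even order -/
theorem even_order {K : Type u} [Group K] (h : Spor.IsoJ3 K) {g : K} (h2 : 2 ∣ orderOf g) (h5 : ¬ 5 ∣ orderOf g) :
    orderOf g = 2 ∨ orderOf g = 4 ∨ orderOf g = 6 ∨ orderOf g = 8 ∨ orderOf g = 12 := by
  obtain ⟨hs, hc, -⟩ := H898.J3Cent.base h
  have hfin : Finite K := Nat.finite_of_card_ne_zero (by rw [hc]; norm_num)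
  obtain ⟨t, D, hD, hall⟩ := H417.JThreeCols.exists_coded_iso h
  obtain ⟨n, hn⟩ := h2
  have hpos : 0 < orderOf g := orderOf_pos g
  have hn0 : n ≠ 0 := by rintro rfl; omega
  have ho : orderOf (g ^ n) = 2 := by
    rw [orderOf_pow_of_dvd hn0 ⟨2, by rw [hn]; ring⟩, hn]
    exact Nat.mul_div_cancel _ (Nat.pos_of_ne_zero hn0)
  have h2 : ∃ a : Fin 8, a ≠ 0 ∧ IsConj (J3Type.CharOrder.y t D a) g := by
    rcases H455.Ore.J3.even_cases hD hall ho with h2 | ⟨a, ha, -, h2⟩
    · exact ⟨1, by decide, h2⟩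
    · exact ⟨a, ha, h2⟩
  obtain ⟨a, ha, h3⟩ := h2
  have h4 : orderOf g = J3Type.CharOrder.ord a := by
    rw [← J3Type.CharOrder.ord_y hD]
    obtain ⟨c, rfl⟩ := isConj_iff.1 h3
    exact (MulEquiv.orderOf_eq (MulAut.conj c) _)
  rw [h4] at h5 ⊢
  have key : ∀ a : Fin 8, a ≠ 0 → ¬ 5 ∣ J3Type.CharOrder.ord a → J3Type.CharOrder.ord a = 2 ∨ J3Type.CharOrder.ord a = 4 ∨
    J3Type.CharOrder.ord a = 6 ∨ J3Type.CharOrder.ord a = 8 ∨ J3Type.CharOrder.ord a = 12 := by decide
  exact key a ha h5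

section main

variable {F : Type} [Field F] [Fintype F] {ω : F} {el : ℕ → threeJ3 F ω} {s0 : threeJ3 F ω} (S : Set' ω el s0)
include S

theorem Set'.PP_even {k : J3 F ω} (h2 : 2 ∣ orderOf k) (h5 : ¬ 5 ∣ orderOf k) : PP k := by
  have hp : ∀ {n q : ℕ}, q.Prime → q ∣ n → n ∣ 24 → q = 2 ∨ q = 3 := by
    intro n q hq h1 h2
    have h3 : q ∣ 2 ^ 3 * 3 := h1.trans h2
    rcases (Nat.Prime.dvd_mul hq).1 h3 with h4 | h4
    · exact Or.inl ((Nat.prime_dvd_prime_iff_eq hq Nat.prime_two).1 (hq.dvd_of_dvd_pow h4))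
    · exact Or.inr ((Nat.prime_dvd_prime_iff_eq hq Nat.prime_three).1 h4)
  rcases even_order S.isoJ3 h2 h5 with h | h | h | h | h
  · have h1 := (S.order (n := 2) pw2_ok rfl fun q hq hd => by
      rcases hp hq hd (by norm_num) with rfl | rfl
      · exact ⟨_, pw2_ns2, rfl⟩
      · exact absurd hd (by norm_num)).1
    exact (S.PP_rl (r := 254) (by decide)).conj (even_conj S.isoJ3 (by omega) h1 h)
  · have h1 := (S.order (n := 4) pw4_ok rfl fun q hq hd => by
      rcases hp hq hd (by norm_num) with rfl | rfl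
      · exact ⟨_, pw4_ns2, rfl⟩
      · exact absurd hd (by norm_num)).1
    exact (S.PP_rl (r := 258) (by decide)).conj (even_conj S.isoJ3 (by omega) h1 h)
  · have h1 := (S.order (n := 6) pw6_ok rfl fun q hq hd => by
      rcases hp hq hd (by norm_num) with rfl | rfl
      · exact ⟨_, pw6_ns2, rfl⟩
      · exact ⟨_, pw6_ns3, rfl⟩).1
    exact (S.PP_rl (r := 271) (by decide)).conj (even_conj S.isoJ3 (by omega) h1 h)
  · have h1 := (S.order (n := 8) pw8_ok rfl fun q hq hd => by
      rcases hp hq hd (by norm_num) with rfl | rfl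
      · exact ⟨_, pw8_ns2, rfl⟩
      · exact absurd hd (by norm_num)).1
    exact (S.PP_rl (r := 288) (by decide)).conj (even_conj S.isoJ3 (by omega) h1 h)
  · have h1 := (S.order (n := 12) pw12_ok rfl fun q hq hd => by
      rcases hp hq hd (by norm_num) with rfl | rfl
      · exact ⟨_, pw12_ns2, rfl⟩
      · exact ⟨_, pw12_ns3, rfl⟩).1
    exact (S.PP_rl (r := 305) (by decide)).conj (even_conj S.isoJ3 (by omega) h1 h)

omit S in
theorem prime_of_dvd {n q : ℕ} (hn : n.Prime) (hq : q.Prime) (h : q ∣ n) : q = n := (Nat.prime_dvd_prime_iff_eq hq hn).1 h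

omit S in
theorem orderOf_of_cent {K : Type u} [Group K] [Finite K] {k : K} {p : ℕ} (hp : p.Prime) (hd : p ∣ orderOf k)
    (h : ∀ y : K, orderOf y = p → Nat.card (centralizer ({y} : Set K)) = p) : orderOf k = p ^ 1 := by
  obtain ⟨m, hm⟩ := hd
  have hpos : 0 < orderOf k := orderOf_pos k
  have hm0 : m ≠ 0 := by rintro rfl; omega
  have ho : orderOf (k ^ m) = p := by
    rw [orderOf_pow_of_dvd hm0 ⟨p, by rw [hm]; ring⟩, hm]
    exact Nat.mul_div_cancel _ (Nat.pos_of_ne_zero hm0)
  have h1 : k ∈ centralizer ({k ^ m} : Set K) := mem_centralizer_singleton_iff.2 (Commute.refl k |>.pow_right m).eq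
  have h2 := Subgroup.orderOf_dvd_natCard _ h1
  rw [h _ ho] at h2
  rw [pow_one]
  rcases (Nat.dvd_prime hp).1 h2 with h3 | h3
  · exfalso
    rw [orderOf_eq_one_iff] at h3
    rw [h3, one_pow, orderOf_one] at ho
    exact hp.one_lt.ne ho
  · exact h3

/-- Sylow subgroups of prime order generated by an element of the table -/
theorem Set'.PP_cyc {p r : ℕ} (hp : p.Prime) {l zs : List ℕ} (h : pOk r (0 :: l) zs = true) (hn : (0 :: l).length = p)
    (hq : nsOk r = true) (hl : (0 :: l).getD 1 0 = r) (hfac : (50232960 : ℕ).factorization p = 1)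
    (hall : ((0 :: l).all fun c => (tl.map Prod.fst).elem c || Nat.beq c 0) = true)
    {k : J3 F ω} (hk : orderOf k = p ^ 1) : PP k := by
  have hfin := S.finite_J3
  have fp : Fact p.Prime := ⟨hp⟩
  obtain ⟨h1, h2⟩ := S.order h hn fun q hq1 hq2 => by
    obtain rfl := prime_of_dvd hp hq1 hq2
    exact ⟨r, hq, by rw [Nat.div_self hp.pos]; exact hl⟩
  obtain ⟨g, hg⟩ := sylow_conj (zpowers (ka el r)) (by rw [Nat.card_zpowers, h1, S.card_J3, hfac, pow_one]) hk
  have h3 : g * k * g⁻¹ ∈ Submonoid.powers (ka el r) := by rwa [mem_powers_iff_mem_zpowers]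
  classical
  rw [mem_powers_iff_mem_range_orderOf, h1, Finset.mem_image] at h3
  obtain ⟨i, hi, e⟩ := h3
  have hi' : i < (0 :: l).length := by rw [hn]; exact Finset.mem_range.1 hi
  rw [← h2 i hi'] at e
  have h4 : PP (ka el (0 :: l)[i]) := by
    have h5 := List.all_eq_true.1 hall _ (List.getElem_mem hi')
    rw [Bool.or_eq_true] at h5
    rcases h5 with h5 | h5
    · exact S.PP_tl (List.elem_iff.1 h5)
    · rw [Nat.eq_of_beq_eq_true h5, ka_zero S.good S.fam]
      exact S.PP_one
  refine h4.conj ?_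
  rw [e]
  exact (isConj_iff.2 ⟨g, rfl⟩).symm

theorem Set'.PP_17 {k : J3 F ω} (h : 17 ∣ orderOf k) : PP k := by
  have hfin := S.finite_J3
  have hp : Nat.Prime 17 := by norm_num
  refine S.PP_cyc hp pw17_ok rfl (by exact pw17_ns17) rfl ?_ pw17_cases
    (orderOf_of_cent hp h fun y hy => (H898.J3Cent.seventeen S.isoJ3 hy).1)
  have h1 : (50232960 : ℕ) = 17 ^ 1 * 2954880 := by norm_num
  rw [h1, Nat.factorization_mul (by norm_num) (by norm_num), Finsupp.add_apply, hp.factorization_pow,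
    Finsupp.single_eq_same, Nat.factorization_eq_zero_of_not_dvd (by norm_num)]

theorem Set'.PP_19 {k : J3 F ω} (h : 19 ∣ orderOf k) : PP k := by
  have hfin := S.finite_J3
  have hp : Nat.Prime 19 := by norm_num
  refine S.PP_cyc hp pw19_ok rfl (by exact pw19_ns19) rfl ?_ pw19_cases
    (orderOf_of_cent hp h fun y hy => H898.J3Cent.card_nineteen S.isoJ3 hy)
  have h1 : (50232960 : ℕ) = 19 ^ 1 * 2643840 := by norm_num
  rw [h1, Nat.factorization_mul (by norm_num) (by norm_num), Finsupp.add_apply, hp.factorization_pow,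
    Finsupp.single_eq_same, Nat.factorization_eq_zero_of_not_dvd (by norm_num)]

theorem Set'.PP_5 {k : J3 F ω} (h : 5 ∣ orderOf k) : PP k := by
  have hfin := S.finite_J3
  have hp : Nat.Prime 5 := by norm_num
  have f5 : Fact (Nat.Prime 5) := ⟨hp⟩
  obtain ⟨h1, h2⟩ := S.order (n := 5) pw5_ok rfl fun q hq1 hq2 => by
    obtain rfl := prime_of_dvd hp hq1 hq2
    exact ⟨_, pw5_ns5, rfl⟩
  obtain ⟨m, hm⟩ := h
  have hpos : 0 < orderOf k := orderOf_pos k
  have hm0 : m ≠ 0 := by rintro rfl; omega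
  have ho : orderOf (k ^ m) = 5 := by
    rw [orderOf_pow_of_dvd hm0 ⟨5, by rw [hm]; ring⟩, hm]
    exact Nat.mul_div_cancel _ (Nat.pos_of_ne_zero hm0)
  obtain ⟨g, hg⟩ := sylow_conj (zpowers (ka el 778)) (by
    have h1' : (50232960 : ℕ) = 5 ^ 1 * 10046592 := by norm_num
    rw [Nat.card_zpowers, h1, S.card_J3, h1', Nat.factorization_mul (by norm_num) (by norm_num), Finsupp.add_apply,
      hp.factorization_pow, Finsupp.single_eq_same, Nat.factorization_eq_zero_of_not_dvd (by norm_num)]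
    norm_num) (k := k ^ m) (m := 1) (by rw [ho, pow_one])
  -- `f` is a power of the conjugate of `k ^ m`
  have h3 : zpowers (g * k ^ m * g⁻¹) = zpowers (ka el 778) := by
    refine Subgroup.eq_of_le_of_card_ge (zpowers_le.2 hg) ?_
    rw [Nat.card_zpowers, Nat.card_zpowers, h1]
    have h4 : orderOf (g * k ^ m * g⁻¹) = orderOf (k ^ m) := MulEquiv.orderOf_eq (MulAut.conj g) (k ^ m)
    rw [h4, ho]
  have h4 : ka el 778 ∈ zpowers (g * k ^ m * g⁻¹) := by rw [h3]; exact mem_zpowers _
  have h5 : g * k * g⁻¹ ∈ centralizer ({ka el 778} : Set (J3 F ω)) := by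
    rw [mem_centralizer_singleton_iff]
    obtain ⟨n, hn⟩ := h4
    have hn' : (g * k ^ m * g⁻¹) ^ n = ka el 778 := hn
    have h6 : g * k ^ m * g⁻¹ = (g * k * g⁻¹) ^ m := (_root_.conj_pow).symm
    rw [← hn', h6]
    exact ((Commute.refl (g * k * g⁻¹)).pow_right m).zpow_right n
  obtain ⟨c, hc, e⟩ := S.mem_of_card q5_ch (centralizer ({ka el 778} : Set (J3 F ω))) (fun c hc => by
    obtain ⟨z, hz, h6⟩ := cf_spec q5 _ cf_ok c hc
    rw [mem_centralizer_singleton_iff]
    exact S.e4 hz h6) (by rw [q5_len]; exact H455.Ore.J3.card_five S.isoJ3 h1) h5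
  have h6 := List.all_eq_true.1 c5_cases c hc
  rw [Bool.or_eq_true] at h6
  rcases h6 with h6 | h6
  · refine (S.PP_tl (List.elem_iff.1 h6)).conj ?_
    rw [← e]
    exact (isConj_iff.2 ⟨g, rfl⟩).symm
  · exfalso
    obtain ⟨s, hs, hs'⟩ := List.mem_map.1 (List.elem_iff.1 h6)
    have h7 := List.all_eq_true.1 sl_ok s hs
    have h8 : (Nat.blt s.2.2.1 3 && (Nat.blt s.2.2.2 3 && (QS.e3 s.1 s.1 s.2.1 s.2.2.1 &&
      (Nat.beq s.2.1 0 || QS.e3 s.1 s.2.1 0 s.2.2.2)))) = true := h7
    rw [Bool.and_eq_true, Bool.and_eq_true, Bool.and_eq_true, Bool.or_eq_true] at h8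
    obtain ⟨h9, h10, h11, h12⟩ := h8
    have h13 := S.e3 (Nat.blt_eq.mp h9) h11
    have h14 : ka el s.1 ^ 6 = 1 := by
      rcases h12 with h12 | h12
      · rw [Nat.eq_of_beq_eq_true h12, ka_zero S.good S.fam] at h13
        rw [show (6 : ℕ) = 2 * 3 from rfl, pow_mul, pow_two, h13, one_pow]
      · have h15 := S.e3 (Nat.blt_eq.mp h10) h12
        rw [ka_zero S.good S.fam, ← h13] at h15
        have h17 : ka el s.1 ^ 3 = 1 := by rw [pow_succ, pow_two, mul_assoc]; exact h15
        rw [show (6 : ℕ) = 3 * 2 from rfl, pow_mul, h17, one_pow]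
    have h15 : orderOf k ∣ 6 := by
      have h16 : orderOf (g * k * g⁻¹) = orderOf k := MulEquiv.orderOf_eq (MulAut.conj g) k
      rw [← h16, e, ← hs']
      exact orderOf_dvd_of_pow_eq_one h14
    have h16 : 5 ∣ 6 := (Dvd.intro m hm.symm).trans h15
    revert h16
    decide

/-- every element of `3·J₃` is a commutator -/
theorem Set'.all (k : J3 F ω) : PP k := by
  have hfin := S.finite_J3
  by_cases h17 : 17 ∣ orderOf k
  · exact S.PP_17 h17
  by_cases h19 : 19 ∣ orderOf k
  · exact S.PP_19 h19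
  by_cases h5 : 5 ∣ orderOf k
  · exact S.PP_5 h5
  by_cases h2 : 2 ∣ orderOf k
  · exact S.PP_even h2 h5
  have hd : orderOf k ∣ 50232960 := by rw [← S.card_J3]; exact _root_.orderOf_dvd_natCard _
  have h1 : (50232960 : ℕ) = 3 ^ 5 * (2 ^ 7 * (5 * (17 * 19))) := by norm_num
  rw [h1] at hd
  have c2 : Nat.Coprime (orderOf k) (2 ^ 7) := Nat.Coprime.pow_right 7 ((Nat.Prime.coprime_iff_not_dvd Nat.prime_two).2 h2).symm
  have c5 : Nat.Coprime (orderOf k) 5 := ((Nat.Prime.coprime_iff_not_dvd (by norm_num)).2 h5).symm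
  have c17 : Nat.Coprime (orderOf k) 17 := ((Nat.Prime.coprime_iff_not_dvd (by norm_num)).2 h17).symm
  have c19 : Nat.Coprime (orderOf k) 19 := ((Nat.Prime.coprime_iff_not_dvd (by norm_num)).2 h19).symm
  have h3 : orderOf k ∣ 3 ^ 5 :=
    (c2.mul_right (c5.mul_right (c17.mul_right c19))).dvd_of_dvd_mul_right hd
  obtain ⟨m, -, hm⟩ := (Nat.dvd_prime_pow Nat.prime_three).1 h3
  exact S.PP_three hm

end main

/-- **every element of `3·J₃` is a commutator** -/
theorem allC_threeJ3 {F : Type} [Field F] [Fintype F] (hF : Fintype.card F = 4) {ω : F} (hω : ω ^ 2 + ω + 1 = 0) :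
    AllC (threeJ3 F ω) := by
  have H := good_of_card hF hω
  obtain ⟨G⟩ := exists_gens hF H
  obtain ⟨s0, hs0⟩ := J3.Nineteen.exists_scalar H G
  obtain ⟨el, hel⟩ := exists_fam hF H
  intro g
  exact Set'.all ⟨hF, H, hel, hs0⟩ (pr F ω g) g rfl

/-- **the row of `J₃` for S2491 and S2492** -/
theorem rowA_j3 {K : Type u} [Group K] (h : Spor.IsoJ3 K) : H6.QO.RowA K := by
  obtain ⟨F, _, _, ω, hF, hω, ⟨e⟩⟩ := h
  have H := good_of_card hF hω
  refine H6.QO.RowA.congr ?_ e.symm
  refine H6.QO.RowA.of_univ (Cfsg.Agent.S2041.result hF ω hω) (pce hF H) ?_ (allC_threeJ3 hF hω)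
  rw [ker_pr, J3.Nineteen.card_center hF H]
  simp

end Cfsg.Agent.H514.QS
end
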